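import Mathlib.FieldTheory.Finite.GaloisField
import Mathlib.FieldTheory.Finite.Basic
import Mathlib.RingTheory.RootsOfUnity.Complex
import Mathlib.Data.Matrix.Basic
import Mathlib.GroupTheory.SpecificGroups.Cyclic

set_option autoImplicit false

namespace CL.KGV.Big

theorem ex (p : ℕ) [hp : Fact p.Prime] (Γ : Type*) [Group Γ] [Finite Γ] :
    ∃ k : ℕ, k ≠ 0 ∧ (∀ x : Γ, (x ^ p ^ k) ^ p ^ k = x ^ p ^ k) ∧
      ∀ (x : Γ) (m : ℕ), ¬ p ∣ m → x ^ m = 1 → x ^ p ^ k = x := by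
  have hN : Nat.card Γ ≠ 0 := Nat.card_pos.ne'
  obtain ⟨a, m, hm, hNe⟩ := Nat.exists_eq_pow_mul_and_not_dvd hN p hp.out.ne_one
  have hm0 : m ≠ 0 := by rintro rfl; exact hm (dvd_zero _)
  have hcop : p.Coprime m := (hp.out.coprime_iff_not_dvd).2 hm
  have ht : 0 < m.totient := Nat.totient_pos.2 (Nat.pos_of_ne_zero hm0)
  have hmod : p ^ (m.totient * (a + 1)) ≡ 1 [MOD m] := by
    rw [pow_mul]
    simpa using (Nat.ModEq.pow_totient hcop).pow (a + 1)
  have hQ1 : 1 ≤ p ^ (m.totient * (a + 1)) := Nat.one_le_pow _ _ hp.out.pos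
  have hdv : m ∣ p ^ (m.totient * (a + 1)) - 1 := (Nat.modEq_iff_dvd' hQ1).1 hmod.symm
  have hpa : p ^ a ∣ p ^ (m.totient * (a + 1)) := pow_dvd_pow _ (by nlinarith)
  refine ⟨m.totient * (a + 1), by positivity, fun x => ?_, fun x m' hm' hx => ?_⟩
  · set Q := p ^ (m.totient * (a + 1)) with hQ
    have h1 : x ^ (Q * (Q - 1)) = 1 :=
      orderOf_dvd_iff_pow_eq_one.1 ((orderOf_dvd_natCard x).trans (hNe ▸ mul_dvd_mul hpa hdv))
    have e : Q * Q = Q * (Q - 1) + Q := by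
      obtain ⟨r, hr⟩ := Nat.exists_eq_add_of_le hQ1
      rw [hr]; simp; ring
    rw [← pow_mul, e, pow_add, h1, one_mul]
  · set Q := p ^ (m.totient * (a + 1)) with hQ
    have ho : orderOf x ∣ m' := orderOf_dvd_of_pow_eq_one hx
    have hc : (orderOf x).Coprime (p ^ a) :=
      (((hp.out.coprime_iff_not_dvd).2 fun h => hm' (h.trans ho)).symm).pow_right _
    have h2 : orderOf x ∣ m := hc.dvd_of_dvd_mul_left (hNe ▸ orderOf_dvd_natCard x)
    have h1 : x ^ (Q - 1) = 1 := orderOf_dvd_iff_pow_eq_one.1 (h2.trans hdv)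
    have e : Q = (Q - 1) + 1 := by omega
    rw [e, pow_succ, h1, one_mul]

theorem mem_range (p : ℕ) [hp : Fact p.Prime] {K : Type*} [Field K] [Algebra (ZMod p) K] {c : K}
    (h : c ^ p = c) : ∃ z : ZMod p, algebraMap (ZMod p) K z = c := by
  classical
  have : CharP K p := charP_of_injective_algebraMap (algebraMap (ZMod p) K).injective p
  have h1 : c ∈ (⊥ : Subfield K) := (Subfield.mem_bot_iff_pow_eq_self K p).2 h
  have h2 : (⊥ : Subfield K) ≤ (algebraMap (ZMod p) K).fieldRange := bot_le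
  exact h2 h1

theorem desc (p : ℕ) [hp : Fact p.Prime] {K : Type*} [Field K] [Algebra (ZMod p) K] {n : Type*}
    (x : Matrix n n K) (h : x.map (· ^ p) = x) :
    ∃ y : Matrix n n (ZMod p), y.map (algebraMap (ZMod p) K) = x := by
  have h' : ∀ i j, ∃ z : ZMod p, algebraMap (ZMod p) K z = x i j := fun i j =>
    mem_range p (congrFun (congrFun h i) j)
  choose y hy using h'
  exact ⟨Matrix.of y, by ext i j; exact hy i j⟩

theorem iota (K : Type*) [Field K] [Finite K] : ∃ ι : Kˣ →* ℂˣ, Function.Injective ι := by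
  have hN : Nat.card Kˣ ≠ 0 := Nat.card_pos.ne'
  have := NeZero.mk hN
  have hc : Nat.card Kˣ = Nat.card (rootsOfUnity (Nat.card Kˣ) ℂ) := by
    rw [Complex.card_rootsOfUnity]
  let e := mulEquivOfCyclicCardEq hc
  exact ⟨(rootsOfUnity (Nat.card Kˣ) ℂ).subtype.comp e.toMonoidHom,
    Subtype.val_injective.comp e.injective⟩

end CL.KGV.Big
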