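import Mathlib

set_option autoImplicit false

namespace CL.KGV.NT

open Matrix

variable {K : Type*} [Field K] {n : Type*} [Fintype n] [DecidableEq n]

/-- rank one idempotent attached to the entry `(i, j)` of an idempotent matrix -/
def eps (i j : n) (Q : Matrix n n K) : Matrix n n K :=
  Matrix.of fun r s => (Q i j)⁻¹ * (Q r j * Q i s)

omit [DecidableEq n] in
theorem mul_eps (i j : n) (R Q : Matrix n n K) :
    R * eps i j Q = Matrix.of fun r s => (Q i j)⁻¹ * ((R * Q) r j * Q i s) := by
  ext r s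
  simp only [eps, Matrix.mul_apply, Matrix.of_apply, Finset.sum_mul, Finset.mul_sum]
  exact Finset.sum_congr rfl fun t _ => by ring

omit [DecidableEq n] in
theorem eps_mul (i j : n) (R Q : Matrix n n K) :
    eps i j Q * R = Matrix.of fun r s => (Q i j)⁻¹ * (Q r j * (Q * R) i s) := by
  ext r s
  simp only [eps, Matrix.mul_apply, Matrix.of_apply, Finset.mul_sum]
  exact Finset.sum_congr rfl fun t _ => by ring

omit [DecidableEq n] in
theorem eps_eps (i j : n) (Q : Matrix n n K) (hQ : Q * Q = Q) (h : Q i j ≠ 0) :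
    eps i j Q * eps i j Q = eps i j Q := by
  rw [mul_eps, eps_mul, hQ]
  ext r s
  simp only [eps, Matrix.of_apply]
  field_simp

theorem det_eps (i j : n) (Q : Matrix n n K) (hQ : Q * Q = Q) (h : Q i j ≠ 0) (t : K) :
    det (1 + t • eps i j Q) = 1 + t := by
  have : t • eps i j Q = replicateCol Unit (fun r => t * (Q i j)⁻¹ * Q r j) *
      replicateRow Unit (fun s => Q i s) := by
    ext r s
    simp [eps, Matrix.mul_apply]
    ring
  rw [this, det_one_add_replicateCol_mul_replicateRow]
  have h2 : ∑ r, Q i r * Q r j = Q i j := by rw [← Matrix.mul_apply, hQ]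
  have : (fun s => Q i s) ⬝ᵥ (fun r => t * (Q i j)⁻¹ * Q r j) = t * (Q i j)⁻¹ * ∑ r, Q i r * Q r j := by
    simp only [dotProduct, Finset.mul_sum]
    exact Finset.sum_congr rfl fun r _ => by ring
  rw [this, h2]
  field_simp

theorem ex [Finite K] (p : ℕ) [Fact p.Prime] [CharP K p] (g : Matrix n n K) (P : K → Matrix n n K)
    (hPP : ∀ a, P a * P a = P a) (hP0 : ∀ a c, a ≠ c → P a * P c = 0)
    (hF : ∀ a, (P a).map (frobenius K p) = P (a ^ p))
    (hg : ∀ a, g * P a = a • P a) (hg' : ∀ a, P a * g = a • P a)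
    {a0 b : K} (h0 : P a0 ≠ 0) (hb : b ≠ 0) (hab : ∀ k, a0 ^ p ^ k = a0 → b ^ p ^ k = b) :
    ∃ x : Matrix n n K, x.map (frobenius K p) = x ∧ x * g = g * x ∧ IsUnit x.det ∧
      det (x * P a0 + 1 - P a0) = b ∧
      ∀ c, (∀ k, c ≠ a0 ^ p ^ k) → det (x * P c + 1 - P c) = 1 := by
  classical
  obtain ⟨i, j, hij⟩ : ∃ i j, P a0 i j ≠ 0 := by
    by_contra h
    push Not at h
    exact h0 (Matrix.ext h)
  have hP : ∀ a c, P a * P c = if a = c then P a else 0 := fun a c => by
    split_ifs with h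
    · rw [← h, hPP]
    · exact hP0 a c h
  set E : K → Matrix n n K := fun c => eps i j (P c) with hE
  have hEF : ∀ c, (E c).map (frobenius K p) = E (c ^ p) := fun c => by
    ext r s
    simp only [hE, eps, ← hF c, Matrix.map_apply, Matrix.of_apply, map_mul, map_inv₀]
  have hne : ∀ k, P (a0 ^ p ^ k) i j ≠ 0 := fun k => by
    induction k with
    | zero => simpa using hij
    | succ k ih =>
      rw [pow_succ, pow_mul, ← hF, Matrix.map_apply]
      exact (map_ne_zero _).2 ih
  have hEP : ∀ a c, E a * P c = if a = c then E a else 0 := fun a c => by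
    simp only [hE]
    rw [eps_mul, hP]
    split_ifs with h
    · rfl
    · ext r s; simp
  have hPE : ∀ a, P a * E a = E a := fun a => by
    simp only [hE]
    rw [mul_eps, hPP]; rfl
  have hEE : ∀ a c, a ≠ c → E a * E c = 0 := fun a c h => by
    rw [← hPE c, ← Matrix.mul_assoc, hEP, if_neg h, Matrix.zero_mul]
  have hgE : ∀ a, g * E a = a • E a := fun a => by
    rw [← hPE a, ← Matrix.mul_assoc, hg, Matrix.smul_mul]
  have hEg : ∀ a, E a * g = a • E a := fun a => by
    have h1 : E a * P a = E a := by rw [hEP, if_pos rfl]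
    rw [← h1, Matrix.mul_assoc, hg', Matrix.mul_smul]
  set e := Function.minimalPeriod (frobenius K p) a0 with he
  have hit : ∀ k, (frobenius K p)^[k] a0 = a0 ^ p ^ k := fun k => iterate_frobenius p k a0
  have hepos : 0 < e := Function.minimalPeriod_pos_of_mem_periodicPts
    ((frobenius K p).injective.mem_periodicPts a0)
  have hae : a0 ^ p ^ e = a0 := by
    rw [← hit]; exact Function.isPeriodicPt_minimalPeriod _ _
  have hinj : ∀ k ∈ Finset.range e, ∀ l ∈ Finset.range e, a0 ^ p ^ k = a0 ^ p ^ l → k = l :=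
    fun k hk l hl h => Function.iterate_injOn_Iio_minimalPeriod (f := frobenius K p) (x := a0)
      (Finset.mem_range.1 hk) (Finset.mem_range.1 hl) (by simpa only [hit] using h)
  let X : K → Matrix n n K := fun b => 1 + ∑ k ∈ Finset.range e, (b ^ p ^ k - 1) • E (a0 ^ p ^ k)
  have hXP : ∀ c, X b * P c + 1 - P c =
      1 + ∑ k ∈ Finset.range e, if a0 ^ p ^ k = c then (b ^ p ^ k - 1) • E (a0 ^ p ^ k) else 0 :=
    fun c => by
      simp only [X, Matrix.add_mul, Matrix.one_mul, Finset.sum_mul, Matrix.smul_mul, hEP,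
        smul_ite, smul_zero]
      abel
  refine ⟨X b, ?_, ?_, ?_, ?_, fun c hc => ?_⟩
  · have h1 : (X b).map (frobenius K p) =
        1 + ∑ k ∈ Finset.range e, (b ^ p ^ (k + 1) - 1) • E (a0 ^ p ^ (k + 1)) := by
      change (frobenius K p).mapMatrix (X b) = _
      simp only [X, map_add, map_one, map_sum]
      congr 1
      refine Finset.sum_congr rfl fun k _ => ?_
      rw [pow_succ, pow_mul, pow_mul, ← hEF]
      ext r s
      simp [frobenius_def, mul_pow, sub_pow_char]
    rw [h1]
    simp only [X]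
    congr 1
    have h2 := Finset.sum_range_succ (fun k => (b ^ p ^ k - 1) • E (a0 ^ p ^ k)) e
    have h3 := Finset.sum_range_succ' (fun k => (b ^ p ^ k - 1) • E (a0 ^ p ^ k)) e
    rw [hab e hae, hae] at h2
    rw [h2] at h3
    simp only [pow_zero, pow_one] at h3
    exact (add_right_cancel h3).symm
  · simp only [X, Matrix.add_mul, Matrix.mul_add, Matrix.one_mul, Matrix.mul_one, Finset.sum_mul,
      Finset.mul_sum, Matrix.smul_mul, Matrix.mul_smul, hgE, hEg]
  · refine Matrix.isUnit_det_of_right_inverse (B := X b⁻¹) ?_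
    have h4 : (∑ k ∈ Finset.range e, (b ^ p ^ k - 1) • E (a0 ^ p ^ k)) *
        (∑ k ∈ Finset.range e, (b⁻¹ ^ p ^ k - 1) • E (a0 ^ p ^ k)) =
        ∑ k ∈ Finset.range e, ((b ^ p ^ k - 1) * (b⁻¹ ^ p ^ k - 1)) • E (a0 ^ p ^ k) := by
      rw [Finset.sum_mul]
      refine Finset.sum_congr rfl fun k hk => ?_
      rw [Finset.mul_sum, Finset.sum_eq_single k]
      · rw [Matrix.smul_mul, Matrix.mul_smul, smul_smul]
        simp only [hE]
        rw [eps_eps _ _ _ (hPP _) (hne k)]
      · intro l hl hlk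
        rw [Matrix.smul_mul, Matrix.mul_smul, hEE _ _ fun h => hlk (hinj k hk l hl h).symm]
        simp
      · intro h; exact absurd hk h
    simp only [X, Matrix.add_mul, Matrix.mul_add, Matrix.one_mul, Matrix.mul_one, h4]
    rw [add_assoc, ← Finset.sum_add_distrib, ← Finset.sum_add_distrib, Finset.sum_eq_zero, add_zero]
    intro k _
    rw [← add_smul, ← add_smul]
    have : b ^ p ^ k ≠ 0 := pow_ne_zero _ hb
    have h5 : b ^ p ^ k - 1 + (b⁻¹ ^ p ^ k - 1 + (b ^ p ^ k - 1) * (b⁻¹ ^ p ^ k - 1)) = 0 := by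
      rw [inv_pow]; field_simp; ring
    rw [h5, zero_smul]
  · rw [hXP, Finset.sum_eq_single 0]
    · simp only [pow_zero, pow_one, if_true, hE]
      rw [det_eps _ _ _ (hPP _) hij]; ring
    · intro k hk hk0
      rw [if_neg]
      intro h
      exact hk0 (hinj k hk 0 (Finset.mem_range.2 hepos) (by simpa using h))
    · intro h; exact absurd (Finset.mem_range.2 hepos) h
  · rw [hXP, Finset.sum_eq_zero, add_zero, det_one]
    intro k _
    rw [if_neg fun h => hc k h.symm]

/-- the same with the orthogonality hypothesis in `if` form -/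
theorem ex' [Finite K] [DecidableEq K] (p : ℕ) [Fact p.Prime] [CharP K p] (g : Matrix n n K)
    (P : K → Matrix n n K) (hP : ∀ a c, P a * P c = if a = c then P a else 0)
    (hF : ∀ a, (P a).map (frobenius K p) = P (a ^ p))
    (hg : ∀ a, g * P a = a • P a) (hg' : ∀ a, P a * g = a • P a)
    {a0 b : K} (h0 : P a0 ≠ 0) (hb : b ≠ 0) (hab : ∀ k, a0 ^ p ^ k = a0 → b ^ p ^ k = b) :
    ∃ x : Matrix n n K, x.map (frobenius K p) = x ∧ x * g = g * x ∧ IsUnit x.det ∧
      det (x * P a0 + 1 - P a0) = b ∧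
      ∀ c, (∀ k, c ≠ a0 ^ p ^ k) → det (x * P c + 1 - P c) = 1 :=
  ex p g P (fun a => by rw [hP, if_pos rfl]) (fun a c h => by rw [hP, if_neg h]) hF hg hg' h0 hb hab

end CL.KGV.NT
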