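import Cfsg.Agent.KGV.PairB

set_option autoImplicit false

namespace CL.KGV.Pair

open Finset Polynomial

theorem adj (p : ℕ) [hp : Fact p.Prime] (K : Type*) [Field K] [Fintype K] [Algebra (ZMod p) K]
    (x y : K) (d : ℕ) (hd : 0 < d) (hx : x ^ p ^ d = x) (hmin : ∀ n, x ^ p ^ n = x → d ∣ n)
    (hy : y ^ p ^ d = y) : ∃ P : (ZMod p)[X], aeval x P = y := by
  classical
  haveI : CharP K p := charP_of_injective_algebraMap (algebraMap (ZMod p) K).injective p
  let L := IntermediateField.adjoin (ZMod p) ({x} : Set K)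
  haveI : Fintype L := Fintype.ofFinite L
  haveI : CharP L p := charP_of_injective_algebraMap (algebraMap (ZMod p) L).injective p
  obtain ⟨n, -, hn⟩ := FiniteField.card L p
  have hxL : x ∈ L := IntermediateField.mem_adjoin_simple_self _ _
  have h1 : x ^ p ^ (n : ℕ) = x := by
    have := congrArg Subtype.val (FiniteField.pow_card (⟨x, hxL⟩ : L))
    rw [hn] at this
    simpa using this
  have hdn : d ≤ n := Nat.le_of_dvd n.pos (hmin _ h1)
  have hL : ∀ z ∈ L, ∃ P : (ZMod p)[X], aeval x P = z := by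
    intro z hz
    have h2 : z ∈ L.toSubalgebra := hz
    rw [IntermediateField.adjoin_simple_toSubalgebra_of_isAlgebraic
      (Algebra.IsAlgebraic.isAlgebraic x), Algebra.adjoin_singleton_eq_range_aeval] at h2
    exact h2
  have hfix : ∀ P : (ZMod p)[X], (aeval x P) ^ p ^ d = aeval x P := by
    intro P
    induction P using Polynomial.induction_on' with
    | add P Q hP hQ => rw [map_add, add_pow_char_pow, hP, hQ]
    | monomial k c =>
      rw [aeval_monomial, mul_pow, ← map_pow, ZMod.pow_card_pow, ← pow_mul, mul_comm k, pow_mul, hx]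
  have hne := FiniteField.X_pow_card_pow_sub_X_ne_zero K hd.ne' hp.out.one_lt
  have hmem : ∀ z : K, z ∈ (X ^ p ^ d - X : K[X]).roots.toFinset ↔ z ^ p ^ d = z := by
    intro z
    rw [Multiset.mem_toFinset, mem_roots hne, IsRoot.def]
    simp [sub_eq_zero]
  have hsub : (univ.filter fun z : K => z ∈ L) ⊆ (X ^ p ^ d - X : K[X]).roots.toFinset := by
    intro z hz
    obtain ⟨P, rfl⟩ := hL z (mem_filter.1 hz).2
    exact (hmem _).2 (hfix P)
  have hcard : (X ^ p ^ d - X : K[X]).roots.toFinset.card ≤ (univ.filter fun z : K => z ∈ L).card := by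
    have e1 : (univ.filter fun z : K => z ∈ L).card = Fintype.card L := by
      rw [← Fintype.card_subtype]
    rw [e1, hn]
    refine (Multiset.toFinset_card_le _).trans ((card_roots' _).trans ?_)
    rw [FiniteField.X_pow_card_pow_sub_X_natDegree_eq K hd.ne' hp.out.one_lt]
    exact Nat.pow_le_pow_right hp.out.pos hdn
  have := eq_of_subset_of_card_le hsub hcard
  have hy' := (hmem y).2 hy
  rw [← this] at hy'
  exact hL y (mem_filter.1 hy').2

theorem ex (p : ℕ) [Fact p.Prime] (K : Type*) [Field K] [Fintype K] [Algebra (ZMod p) K] :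
    ∃ (l : K → ℕ) (ρ : K → K → K),
      (∀ a b, ρ (a ^ p) (b ^ p) = ρ a b ^ p) ∧ (∀ a, Function.Injective (ρ a)) ∧
      (∀ a b, ∃ i : ℕ, ρ a b = b ^ p ^ i) ∧
      (∀ m : K → K → ℕ, (∀ a b, m (a ^ p) (b ^ p) = m a b) → (∀ b, m 0 b = 0) → (∀ a, m a 0 = 0) →
        ∏ a, ∏ b, a ^ (l b * m a b) = ∏ a, ∏ b, ρ a b ^ (l a * m a b)) ∧
      (∀ m : K → K → ℕ, (∀ a b, m (a ^ p) (b ^ p) = m a b) → (∀ b, m 0 b = 0) → (∀ a, m a 0 = 0) →
        ∑ a, ∑ b, (m a b : K) * ρ a b = ∑ a, ∑ b, (m a b : K) * b) ∧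
      l 1 = 0 ∧
      ∀ a : K, a ≠ 0 → ∃ j : ℕ, ∃ P : (ZMod p)[X],
        (aeval (a ^ p ^ j) P) ^ (l (a ^ p ^ j)) = a ^ p ^ j ∧
          ∀ i : ℕ, a ^ p ^ i ≠ a ^ p ^ j → l (a ^ p ^ i) = 0 := by
  classical
  have hp : p.Prime := Fact.out
  haveI : CharP K p := charP_of_injective_algebraMap (algebraMap (ZMod p) K).injective p
  obtain ⟨N, -, hN⟩ := FiniteField.card K p
  obtain ⟨g, g1, g2, g3⟩ := PairB.gen p K N hN
  let φ : Equiv.Perm K := (frobeniusEquiv K p).toEquiv
  have f1 : ∀ a, φ a = a ^ p := fun a => rfl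
  have fn : ∀ (n : ℕ) a, (φ ^ n) a = a ^ p ^ n := by
    intro n a
    induction n with
    | zero => simp
    | succ n ih => rw [pow_succ', Equiv.Perm.mul_apply, ih, f1, ← pow_mul, ← pow_succ]
  obtain ⟨rep, κ, i0, h1, h2, h3, h4, h5⟩ := PairA.rev φ
  obtain ⟨ρ, r1, r2, r3, r4⟩ := PairB.rho φ rep κ i0 h1 h2 h3 h4 h5
  let d : K → ℕ := Function.minimalPeriod φ
  have dpos : ∀ a, 0 < d a := fun a =>
    Function.minimalPeriod_pos_of_mem_periodicPts (φ.injective.mem_periodicPts a)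
  have dper : ∀ a e, d a ∣ e ↔ a ^ p ^ e = a := by
    intro a e
    rw [← Function.isPeriodicPt_iff_minimalPeriod_dvd, ← fn, Equiv.Perm.coe_pow]; rfl
  have dN : ∀ a, d a ∣ N := fun a => (dper a N).2 (by rw [← hN, FiniteField.pow_card])
  have dit : ∀ n a, d ((φ ^ n) a) = d a := by
    intro n a
    rw [Equiv.Perm.coe_pow]
    exact Function.minimalPeriod_apply_iterate (φ.injective.mem_periodicPts a) n
  have h2' : ∀ n a, rep ((φ ^ n) a) = rep a := by
    intro n a
    induction n with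
    | zero => simp
    | succ n ih => rw [pow_succ', Equiv.Perm.mul_apply, h2, ih]
  have hl0 : ∀ a : K, ∃ n : ℕ, (a ≠ 0 → a = g (d a) ^ n) ∧ (a = 1 → n = 0) := by
    intro a
    by_cases ha1 : a = 1
    · exact ⟨0, fun _ => by rw [pow_zero, ha1], fun _ => rfl⟩
    by_cases ha : a = 0
    · exact ⟨0, fun h => (h ha).elim, fun _ => rfl⟩
    obtain ⟨n, hn⟩ := g1 (d a) (dpos a) (dN a) a ha ((dper a _).1 dvd_rfl)
    exact ⟨n, fun _ => hn, fun h => (ha1 h).elim⟩
  choose l0 l1 l2 using hl0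
  let l : K → ℕ := fun a => if a = rep a then l0 a else 0
  have hmod : ∀ a n, (φ ^ (n % d a)) a = (φ ^ n) a := by
    intro a n
    rw [Equiv.Perm.coe_pow, Equiv.Perm.coe_pow]; exact Function.iterate_mod_minimalPeriod_eq
  have hdrep : ∀ a, d (rep a) = d a := fun a => by rw [← h1, dit]
  have G0 : ∀ (b y : K) (k : ℕ), ∏ i ∈ range (d b * k), (y ^ p ^ i) ^ l (b ^ p ^ i)
      = ((y ^ (∑ t ∈ range k, (p ^ d b) ^ t)) ^ l0 (rep b)) ^ p ^ (i0 b % d b) := by
    intro b y k
    induction k with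
    | zero => simp
    | succ k ih =>
      have hb : ∀ i, b ^ p ^ (d b * k + i) = (φ ^ i) b := by
        intro i
        rw [pow_add, pow_mul, (dper b _).1 (Dvd.intro _ rfl), fn]
      rw [Nat.mul_succ, prod_range_add, ih, sum_range_succ,
        prod_eq_single (i0 b % d b)]
      · rw [hb, hmod, h1]
        have : l (rep b) = l0 (rep b) := if_pos (by rw [← h1 b, h2', h1])
        rw [this, pow_add y, mul_pow, mul_pow, ← pow_mul p, pow_add p]
        congr 1
        simp only [← pow_mul]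
        congr 1
        ring
      · intro i hi hne
        rw [hb]
        have : l ((φ ^ i) b) = 0 := by
          refine if_neg fun h => hne ?_
          rw [h2', ← h1, ← hmod b (i0 b), Equiv.Perm.coe_pow, Equiv.Perm.coe_pow] at h
          exact (Function.iterate_eq_iterate_iff_of_lt_minimalPeriod (mem_range.1 hi)
            (Nat.mod_lt _ (dpos b))).1 h
        rw [this, pow_zero]
      · intro h
        exact (h (mem_range.2 (Nat.mod_lt _ (dpos b)))).elim
  have hrep0 : ∀ b, b ≠ 0 → rep b ≠ 0 := fun b hb => by rw [← h1, fn]; exact pow_ne_zero _ hb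
  have G : ∀ (b : K) (e n : ℕ), b ≠ 0 → 0 < e → d b ∣ e → e ∣ N →
      ∏ i ∈ range e, ((g e ^ n) ^ p ^ i) ^ l (b ^ p ^ i) = κ b ^ n := by
    intro b e n hb he hbe heN
    obtain ⟨k, rfl⟩ := hbe
    have hk : 0 < k := Nat.pos_of_mul_pos_left he |> fun h => by
      rcases Nat.eq_zero_or_pos k with h0 | h0
      · simp [h0] at he
      · exact h0
    have e1 : κ b = ((g (d b * k) ^ (∑ t ∈ range k, (p ^ d b) ^ t)) ^ l0 (rep b)) ^ p ^ (i0 b % d b) := by
      rw [← g2 _ _ (dpos b) hk heN, ← hdrep b, ← l1 _ (hrep0 b hb), ← fn, hmod, h3]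
    rw [G0, e1]
    simp only [← pow_mul]
    congr 1
    ring
  let ψ : Equiv.Perm (K × K) := Equiv.prodCongr φ φ
  have pn : ∀ (n : ℕ) (o : K × K), (ψ ^ n) o = (o.1 ^ p ^ n, o.2 ^ p ^ n) := by
    intro n o
    induction n with
    | zero => simp
    | succ n ih =>
      rw [pow_succ', Equiv.Perm.mul_apply, ih]
      show ((o.1 ^ p ^ n) ^ p, (o.2 ^ p ^ n) ^ p) = _
      rw [← pow_mul, ← pow_mul, ← pow_succ]
  have pper : ∀ (o : K × K) e, Function.minimalPeriod ψ o ∣ e ↔ (o.1 ^ p ^ e, o.2 ^ p ^ e) = o := by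
    intro o e
    rw [← Function.isPeriodicPt_iff_minimalPeriod_dvd, ← pn, Equiv.Perm.coe_pow]; rfl
  have mn : ∀ m : K → K → ℕ, (∀ a b, m (a ^ p) (b ^ p) = m a b) →
      ∀ (n : ℕ) a b, m (a ^ p ^ n) (b ^ p ^ n) = m a b := by
    intro m hm n a b
    induction n with
    | zero => simp
    | succ n ih => rw [pow_succ, pow_mul, pow_mul, hm, ih]
  have rn : ∀ (n : ℕ) a b, ρ (a ^ p ^ n) (b ^ p ^ n) = ρ a b ^ p ^ n := by
    intro n a b
    induction n with
    | zero => simp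
    | succ n ih => rw [pow_succ, pow_mul, pow_mul, pow_mul, ← ih]; exact r1 _ _
  refine ⟨l, ρ, r1, r2, fun a b => (r3 a b).imp fun i hi => by rw [hi, fn], ?_, ?_, ?_, ?_⟩
  · intro m hm hm1 hm2
    rw [← Fintype.prod_prod_type', ← Fintype.prod_prod_type']
    refine PairA.orb ψ _ _ fun o => ⟨i0 o.1, ?_⟩
    obtain ⟨α, β, hab, hα⟩ : ∃ α β, (ψ ^ i0 o.1) o = (α, β) ∧ rep α = α :=
      ⟨_, _, pn _ _, by rw [← fn, h2', h1]⟩
    rw [hab]
    set e := Function.minimalPeriod ψ (α, β) with he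
    have epos : 0 < e := Function.minimalPeriod_pos_of_mem_periodicPts (ψ.injective.mem_periodicPts _)
    have e1 := (pper (α, β) e).1 dvd_rfl
    have eα : α ^ p ^ e = α := congrArg Prod.fst e1
    have eβ : β ^ p ^ e = β := congrArg Prod.snd e1
    have eN : e ∣ N := (pper (α, β) N).2 (by simp only [← hN, FiniteField.pow_card])
    simp only [pn, mn m hm, rn, pow_mul _ (l _), prod_pow]
    by_cases hα0 : α = 0
    · rw [hα0, hm1, pow_zero, pow_zero]
    by_cases hβ0 : β = 0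
    · rw [hβ0, hm2, pow_zero, pow_zero]
    congr 1
    obtain ⟨n, hn⟩ := g1 e epos eN α hα0 eα
    have hκβ : κ β = β ^ p ^ (i0 β + i0 β) := by
      rw [h3, ← h1, ← Equiv.Perm.mul_apply, ← pow_add, fn]
    obtain ⟨s, hs⟩ := g1 e epos eN (κ β) (by rw [hκβ]; exact pow_ne_zero _ hβ0)
      (by rw [hκβ, ← pow_mul, mul_comm, pow_mul, eβ])
    obtain ⟨i, hi⟩ := r4 α β hα
    have hκα : κ α = α := by
      rw [h3, hα, h1, hα]
    have L := G β e n hβ0 epos ((dper _ _).2 eβ) eN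
    have R := G α e (s * p ^ (d α * i)) hα0 epos ((dper _ _).2 eα) eN
    rw [← hn] at L
    rw [pow_mul (g e), ← hs, ← fn (d α * i), ← hi] at R
    rw [L, R, hκα, mul_comm s, pow_mul, (dper α _).1 (Dvd.intro _ rfl), hs, ← pow_mul, mul_comm,
      pow_mul, ← hn]
  · intro m hm _ _
    rw [← Fintype.sum_prod_type', ← Fintype.sum_prod_type']
    apply Multiplicative.ofAdd.injective
    rw [ofAdd_sum, ofAdd_sum]
    refine PairA.orb ψ _ _ fun o => ⟨0, ?_⟩
    obtain ⟨α, β⟩ := o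
    rw [← ofAdd_sum, ← ofAdd_sum]
    congr 1
    simp only [pow_zero, Equiv.Perm.one_apply, pn, mn m hm, rn, ← mul_sum]
    congr 1
    obtain ⟨k, hk⟩ := r3 α β
    have eβ : β ^ p ^ Function.minimalPeriod ψ (α, β) = β :=
      congrArg Prod.snd ((pper (α, β) _).1 dvd_rfl)
    rw [← PairA.shift (fun i => β ^ p ^ i) _ (fun i => by
      rw [add_comm, pow_add, pow_mul, eβ]) k]
    refine sum_congr rfl fun i _ => ?_
    rw [hk, fn, ← pow_mul, ← pow_add]
  · show (if (1 : K) = rep 1 then l0 1 else 0) = 0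
    rw [l2 1 rfl]; simp
  · intro a ha
    have ha0 := hrep0 a ha
    have hrr : rep (rep a) = rep a := by rw [← h1 a, h2', h1]
    refine ⟨i0 a, ?_⟩
    rw [← fn, h1]
    have hP : ∃ P : (ZMod p)[X], aeval (rep a) P = g (d (rep a)) :=
      adj p K _ _ (d (rep a)) (dpos _) ((dper _ _).1 dvd_rfl) (fun n hn => (dper _ _).2 hn)
        (g3 _ (dpos _) (dN _))
    obtain ⟨P, hP⟩ := hP
    refine ⟨P, ?_, fun i hi => if_neg ?_⟩
    · have : l (rep a) = l0 (rep a) := if_pos hrr.symm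
      rw [hP, this, ← l1 _ ha0]
    · rw [← fn, h2', fn]; exact hi

end CL.KGV.Pair
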