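import Mathlib

namespace CL.KGV.Tr

open Matrix

/-- the matrix form of the twisting data -/
def Mat (p : ℕ) : Prop :=
  ∀ n : ℕ, ∃ N : ℕ, ¬ p ∣ N ∧ ∃ T : GL (Fin n) (ZMod p) → GL (Fin n) (ZMod p) → ℂ,
    (∀ y a b, a * y = y * a → b * y = y * b → T y (a * b) = T y a * T y b) ∧
    (∀ y, T y 1 = 1) ∧
    (∀ y g a, a * y = y * a → T (g * y * g⁻¹) (g * a * g⁻¹) = T y a) ∧
    ∀ (g : GL (Fin n) (ZMod p)) (m : ℕ), ¬ p ∣ m → g ^ m = 1 →
      (∀ x, x * g = g * x → T g x ^ N = 1) ∧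
      (∀ x : GL (Fin n) (ZMod p), x * g = g * x → x.1 * (g.1 - 1) = g.1 - 1 → T g x = 1) ∧
      (g ≠ 1 → ∃ x, x * g = g * x ∧ T g x ≠ 1) ∧
      ∃ r : Equiv.Perm {x : GL (Fin n) (ZMod p) // x * g = g * x},
        ∀ x, T x.1 g = T g (r x).1 ∧ (r x).1.1.trace = x.1.1.trace

theorem theta {p : ℕ} [Fact p.Prime] (h : Mat p) (V : Type*) [AddCommGroup V]
    [Module (ZMod p) V] [Finite V] :
    ∃ N : ℕ, ¬ p ∣ N ∧ ∃ θ : (Module.End (ZMod p) V)ˣ → (Module.End (ZMod p) V)ˣ → ℂ,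
      (∀ y a b, a * y = y * a → b * y = y * b → θ y (a * b) = θ y a * θ y b) ∧
      (∀ y, θ y 1 = 1) ∧
      (∀ y g a, a * y = y * a → θ (g * y * g⁻¹) (g * a * g⁻¹) = θ y a) ∧
      ∀ (g : (Module.End (ZMod p) V)ˣ) (m : ℕ), ¬ p ∣ m → g ^ m = 1 →
        ∃ (Θ : Subgroup.centralizer {g} →* ℂ) (r : Equiv.Perm (Subgroup.centralizer {g})),
          (∀ x, Θ x ^ N = 1) ∧
          (∀ x : Subgroup.centralizer {g},
            (∀ v, x.1.1 (g.1 v - v) = g.1 v - v) → Θ x = 1) ∧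
          (g ≠ 1 → Θ ≠ 1) ∧
          ∀ x : Subgroup.centralizer {g}, θ x.1 g = Θ (r x) ∧
            LinearMap.trace (ZMod p) V (r x).1.1 = LinearMap.trace (ZMod p) V x.1.1 := by
  classical
  let b := Module.finBasis (ZMod p) V
  let E := LinearMap.toMatrixAlgEquiv b
  let e : (Module.End (ZMod p) V)ˣ ≃* GL (Fin (Module.finrank (ZMod p) V)) (ZMod p) :=
    Units.mapEquiv E.toMulEquiv
  have he : ∀ x, (e x).1 = E x.1 := fun x => rfl
  have htr : ∀ x, (e x).1.trace = LinearMap.trace (ZMod p) V x.1 := fun x => by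
    rw [he, LinearMap.trace_eq_matrix_trace (ZMod p) b]; rfl
  have hc : ∀ a y, a * y = y * a ↔ e a * e y = e y * e a := fun a y => by
    rw [← map_mul, ← map_mul, e.apply_eq_iff_eq]
  obtain ⟨N, hN, T, hmul, hone, hconj, hT⟩ := h (Module.finrank (ZMod p) V)
  refine ⟨N, hN, fun y a => T (e y) (e a), fun y a b ha hb => ?_, fun y => ?_,
    fun y g a ha => ?_, fun g m hm hg => ?_⟩
  · simp only [map_mul]; exact hmul _ _ _ ((hc _ _).1 ha) ((hc _ _).1 hb)
  · simp only [map_one]; exact hone _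
  · simp only [map_mul, map_inv]; exact hconj _ _ _ ((hc _ _).1 ha)
  · obtain ⟨h1, h2, h3, r, hr⟩ := hT (e g) m hm (by rw [← map_pow, hg, map_one])
    have hm' : ∀ x : Subgroup.centralizer {g}, e x.1 * e g = e g * e x.1 := fun x =>
      (hc _ _).1 (Subgroup.mem_centralizer_singleton_iff.1 x.2)
    let Θ : Subgroup.centralizer {g} →* ℂ :=
      { toFun := fun x => T (e g) (e x.1)
        map_one' := by simp only [OneMemClass.coe_one, map_one]; exact hone _
        map_mul' := fun x y => by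
          simp only [Subgroup.coe_mul, map_mul]; exact hmul _ _ _ (hm' x) (hm' y) }
    let q : Subgroup.centralizer {g} ≃ {x // x * e g = e g * x} :=
      e.toEquiv.subtypeEquiv fun a => by
        rw [Subgroup.mem_centralizer_singleton_iff]; exact hc _ _
    have hq : ∀ x, (q x).1 = e x.1 := fun x => rfl
    have hq' : ∀ y, e (q.symm y).1 = y.1 := fun y => by
      rw [← hq, Equiv.apply_symm_apply]
    refine ⟨Θ, (q.trans r).trans q.symm, fun x => h1 _ (hm' x), fun x hx => ?_, fun hg1 => ?_,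
      fun x => ⟨?_, ?_⟩⟩
    · refine h2 _ (hm' x) ?_
      rw [he, he, ← map_one E, ← map_sub, ← map_mul]
      congr 1
      ext v
      simpa using hx v
    · obtain ⟨x, hx, hx1⟩ := h3 (fun h0 => hg1 (e.injective (by rw [h0, map_one])))
      intro h0
      apply hx1
      have := DFunLike.congr_fun h0 (q.symm ⟨x, hx⟩)
      change T (e g) (e (q.symm ⟨x, hx⟩).1) = 1 at this
      rwa [hq'] at this
    · change T (e x.1) (e g) = T (e g) (e (q.symm (r (q x))).1)
      rw [hq', ← (hr (q x)).1, hq]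
    · change LinearMap.trace (ZMod p) V (q.symm (r (q x))).1.1 = _
      rw [← htr, hq', (hr (q x)).2, hq, htr]

end CL.KGV.Tr
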