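import Cfsg.Agent.S4961
import Cfsg.Agent.ORD.BlkCls

/-! Brauer's `k(B)` bound for `p`-solvable groups, from the case `O_{p'}(G) = 1`. -/

set_option autoImplicit false
open Cfsg

namespace CL.KGV.Blk
open CL.Blk

universe u

theorem main {G : Type u} [Group G] [Finite G] {p : ℕ} [Fact p.Prime] (hG : IsPSolvable p G)
    {M : Ideal AlgInt} (hM : IsPModular p M) {B : Set (IrrCharacter G)} (hB : IsPBlock M B)
    {D : Subgroup G} (hD : IsDefectGroup p M B D) :
    Nat.card B ≤ Nat.card D ∧ ((∃ a ∈ D, ∃ b ∈ D, a * b ≠ b * a) → Nat.card B < Nat.card D) := by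
  revert D
  refine fong_induction hM (fun G _ _ B => ∀ {D : Subgroup G}, IsDefectGroup p M B D →
    Nat.card B ≤ Nat.card D ∧ ((∃ a ∈ D, ∃ b ∈ D, a * b ≠ b * a) → Nat.card B < Nat.card D))
    ?_ ?_ G hG B hB
  · intro G _ _ _ _ θ _ B' B _ _ hfr ih P hP
    obtain ⟨D, hD, ⟨e⟩⟩ := hfr.exists_equiv hM hP
    replace e := e.symm
    have hc : Nat.card P = Nat.card D := Nat.card_congr e.toEquiv
    rw [hfr.card, hc]
    refine ⟨(ih hD).1, fun ⟨a, ha, b, hb, hab⟩ => (ih hD).2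
      ⟨e ⟨a, ha⟩, (e _).2, e ⟨b, hb⟩, (e _).2, fun h => hab ?_⟩⟩
    have : e (⟨a, ha⟩ * ⟨b, hb⟩) = e (⟨b, hb⟩ * ⟨a, ha⟩) := by
      rw [map_mul, map_mul]; exact Subtype.ext h
    exact congrArg Subtype.val (e.injective this)
  · intro G _ _ _ hG θ hθ P hP
    obtain ⟨S, rfl⟩ := (isDefectGroup_overSet_iff hM (IsPSolvable.isPConstrained hG) rfl hθ).1 hP
    let f := QuotientGroup.mk' (pPrimeCore p G)
    have hf : Function.Surjective f := QuotientGroup.mk'_surjective _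
    have hinj : ∀ x ∈ (S : Subgroup G), f x = 1 → x = 1 := fun x hx h1 => by
      have h2 : x ∈ pPrimeCore p G := (QuotientGroup.eq_one_iff x).1 h1
      obtain ⟨k, hk⟩ := S.isPGroup'.exists_card_eq
      have h3 := (S : Subgroup G).orderOf_dvd_natCard hx
      have h4 := (pPrimeCore p G).orderOf_dvd_natCard h2
      rw [hk] at h3
      exact orderOf_eq_one_iff.1 (Nat.eq_one_of_dvd_coprimes
        (((Fact.out : p.Prime).coprime_iff_not_dvd.2 (not_dvd_card_pPrimeCore p G)).pow_left k)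
        h3 h4)
    have h := Cfsg.Agent.S4961.result p (IsPSolvable.quotient hG (pPrimeCore p G))
      (pPrimeCore_quotient_pPrimeCore p G) (S.mapSurjective hf)
    have hc : Nat.card (S.mapSurjective hf) ≤ Nat.card S := by
      change Nat.card ((S : Subgroup G).map f) ≤ _
      exact Nat.le_of_dvd Nat.card_pos (Subgroup.card_map_dvd _ _)
    have h0 := CL.Ord.PC.card_overSet_le _ θ.2 hθ
    refine ⟨h0.trans (h.1.trans hc), fun ⟨a, ha, b, hb, hab⟩ => h0.trans_lt ((h.2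
      ⟨f a, ⟨a, ha, rfl⟩, f b, ⟨b, hb, rfl⟩, fun h1 => hab ?_⟩).trans_le hc)⟩
    have := hinj (a * b * (b * a)⁻¹) (mul_mem (mul_mem ha hb) (inv_mem (mul_mem hb ha)))
      (by rw [map_mul, map_inv, map_mul, map_mul, h1, mul_inv_cancel])
    exact mul_inv_eq_one.1 this

end CL.KGV.Blk
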