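import Cfsg.Agent.BLK.RVecA
import Cfsg.Agent.BLK.Knorr

/-!
The k(GV) theorem from the existence of a good class function on the complement.
-/

set_option autoImplicit false
open Cfsg

namespace CL.KGV

open Subgroup CL.VCh CL.RVec

universe u

/-- Every representation over `ZMod p` of a group of order prime to `p` has a good class function. -/
def Ex (p : ℕ) [Fact p.Prime] : Prop :=
  ∀ (H U : Type u) [Group H] [Finite H] [AddCommGroup U] [Module (ZMod p) U] [Finite U]
    (M : Ideal AlgInt), IsPModular p M → ¬ p ∣ Nat.card H → ∀ ρ : Representation (ZMod p) H U,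
      ∃ n : ℕ, n ≠ 0 ∧ ∃ ψ, GR M n ρ ψ

theorem fix_mono {n m : ℕ} (h : n ∣ m) {a : ℂ} (ha : a ∈ Fix n) : a ∈ Fix m := by
  obtain ⟨k, rfl⟩ := h
  exact fun τ τ' hτ => ha τ τ' fun z hz => hτ z (by rw [pow_mul, hz, one_pow])

/-- The multiplicative form. -/
theorem exists_good {p : ℕ} [Fact p.Prime] (h : Ex.{u} p) {H W : Type u} [Group H] [Finite H]
    [CommGroup W] [Finite W] [Module (ZMod p) (Additive W)] {M : Ideal AlgInt} (hM : IsPModular p M)
    (hH : ¬ p ∣ Nat.card H) (c : H → W →* W) (h1 : ∀ u, c 1 u = u)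
    (h2 : ∀ a b u, c (a * b) u = c a (c b u)) :
    ∃ n : ℕ, n ≠ 0 ∧ ∃ ψ ∈ VC H, (∀ h, ψ h ∈ Fix n) ∧
      (∀ (σ : ℂ →+* ℂ) h, ‖σ (ψ h)‖ ^ 2 * Nat.card {u // c h u = u} ≤ Nat.card W) ∧ ψ 1 = 1 ∧
      ∀ h, ¬ (∀ u, c h u = u) → CL.Blk.red M (ψ h) = 0 := by
  let ρ : Representation (ZMod p) H (Additive W) :=
    { toFun := fun h => (MonoidHom.toAdditive (c h)).toZModLinearMap p
      map_one' := LinearMap.ext fun _ => Additive.toMul.injective (h1 _)
      map_mul' := fun a b => LinearMap.ext fun _ => Additive.toMul.injective (h2 a b _) }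
  obtain ⟨n, hn, ψ, hψ⟩ := h H (Additive W) M hM hH ρ
  exact ⟨n, hn, ψ, hψ.mem, hψ.fix, hψ.le, hψ.one, fun h hh => hψ.zero h fun h3 => hh fun u =>
    (h3.ge Submodule.mem_top : Additive.ofMul u ∈ Fx ρ h)⟩

theorem kgv {X : Type u} [Group X] [Finite X] {p : ℕ} [Fact p.Prime] (h : Ex.{u} p) (V : Subgroup X)
    [V.Normal] (hVexp : ∀ v ∈ V, v ^ p = 1) (hidx : ¬ p ∣ V.index)
    (hself : Subgroup.centralizer (V : Set X) = V) : Nat.card (ConjClasses X) ≤ Nat.card V := by
  have hp : p.Prime := Fact.out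
  obtain ⟨M, hM⟩ := CL.Glb.exists_isPModular hp
  have hVp : IsPGroup p V := fun x => ⟨1, Subtype.ext (by simpa using hVexp x x.2)⟩
  have habV : ∀ a ∈ V, ∀ b ∈ V, a * b = b * a := fun a ha b hb => (hself.ge hb) a ha
  obtain ⟨k, hk⟩ := IsPGroup.iff_card.1 hVp
  obtain ⟨G, hGV⟩ := exists_right_complement'_of_coprime (N := V)
    (hk ▸ (hp.coprime_iff_not_dvd.2 hidx).pow_left _)
  have hG : ¬ p ∣ Nat.card G := by rwa [← hGV.symm.index_eq_card]
  let H := G ⊓ centralizer ({1} : Set X)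
  let _ : CommGroup V := { (inferInstance : Group V) with
    mul_comm := fun a b => Subtype.ext (habV a a.2 b b.2) }
  have _ : Module (ZMod p) (Additive V) := AddCommGroup.zmodModule fun w => by
    rw [← ofMul_toMul w, ← ofMul_pow]
    exact congrArg Additive.ofMul (Subtype.ext (hVexp _ w.toMul.2))
  let c : H → V →* V := fun h => MonoidHom.mk' (fun u => ⟨h * u * (h : X)⁻¹,
    (inferInstance : V.Normal).conj_mem u u.2 h⟩) fun a b => Subtype.ext (by simp)
  obtain ⟨n, hn, ψ, hm, hf, hle, h1, h0⟩ := exists_good h hM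
    (fun h => hG (h.trans (card_dvd_of_le inf_le_left)))
    c (fun u => Subtype.ext (by simp [c])) (fun a b u => Subtype.ext (by simp [c, mul_assoc]))
  refine knorr hM hVp hidx habV hGV V.one_mem hm (mul_ne_zero hn Nat.card_pos.ne')
    (dvd_mul_left _ _) (fun h => fix_mono (dvd_mul_right _ _) (hf h)) (fun σ h => ?_)
    (by simp [h1, CL.Blk.red_one]) fun h hh => h0 h fun h1 => hh (Subtype.ext ?_)
  · have h2 : Nat.card {u // c h u = u} = Nat.card ↥(V ⊓ centralizer ({(h : X)} : Set X)) := by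
      rw [← Nat.card_congr (subgroupOfEquivOfLe (inf_le_left (b := centralizer ({(h : X)} : Set X)))).toEquiv,
        inf_subgroupOf_left]
      exact Nat.card_congr (Equiv.subtypeEquivRight fun u => by
        rw [mem_subgroupOf, mem_centralizer_singleton_iff, Subtype.ext_iff, eq_comm]
        exact eq_mul_inv_iff_mul_eq)
    rw [← h2]
    exact hle σ h
  · have h3 : (h : X) ∈ V := hself.le fun u hu =>
      (eq_mul_inv_iff_mul_eq.1 (congrArg Subtype.val (h1 ⟨u, hu⟩)).symm)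
    exact mem_bot.1 (hGV.disjoint.le_bot ⟨h3, h.2.1⟩)

end CL.KGV
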