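import Cfsg.Agent.KGV.Tr
import Cfsg.Agent.KGV.A.Top
import Cfsg.Agent.BLK.KG.Mono

set_option autoImplicit false
open Cfsg

namespace CL.KGV.Tr

open Subgroup CL.VCh LinearMap

universe u

theorem th_of {p : ℕ} [hp : Fact p.Prime]
    (h : ∀ (V : Type u) [AddCommGroup V] [Module (ZMod p) V] [Finite V],
      ∃ N : ℕ, ¬ p ∣ N ∧ ∃ θ : (Module.End (ZMod p) V)ˣ → (Module.End (ZMod p) V)ˣ → ℂ,
      (∀ y a b, a * y = y * a → b * y = y * b → θ y (a * b) = θ y a * θ y b) ∧
      (∀ y, θ y 1 = 1) ∧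
      (∀ y g a, a * y = y * a → θ (g * y * g⁻¹) (g * a * g⁻¹) = θ y a) ∧
      ∀ (g : (Module.End (ZMod p) V)ˣ) (m : ℕ), ¬ p ∣ m → g ^ m = 1 →
        ∃ (Θ : Subgroup.centralizer {g} →* ℂ) (r : Equiv.Perm (Subgroup.centralizer {g})),
          (∀ x, Θ x ^ N = 1) ∧
          (∀ x : Subgroup.centralizer {g},
            (∀ v, x.1.1 (g.1 v - v) = g.1 v - v) → Θ x = 1) ∧
          (g ≠ 1 → Θ ≠ 1) ∧
          ∀ x : Subgroup.centralizer {g}, θ x.1 g = Θ (r x) ∧
            LinearMap.trace (ZMod p) V (r x).1.1 = LinearMap.trace (ZMod p) V x.1.1) :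
    CL.KGA.Th.{u} p := by
  intro H U _ _ _ _ _ hH ρ ψ
  classical
  have : Finite (Module.End (ZMod p) U) := Finite.of_injective _ DFunLike.coe_injective
  have := Fintype.ofFinite (Module.End (ZMod p) U)ˣ
  obtain ⟨N, hN, θ, hmul, hone, hconj, hT⟩ := h U
  have hg : ∀ h, ρ.asGroupHom h ^ Nat.card H = 1 := fun h => by
    rw [← map_pow, pow_card_eq_one', map_one]
  choose Θ r a1 a2 a3 a4 using fun h => hT (ρ.asGroupHom h) _ hH (hg h)
  refine ⟨N, hN, Θ, a1, a2, fun h hh => a3 h fun h0 => hh (congrArg Units.val h0), ?_⟩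
  let _ : MulAction H (Module.End (ZMod p) U)ˣ :=
    MulAction.compHom _ (MulAut.conj.comp ρ.asGroupHom)
  have hs : ∀ (a : H) (y : (Module.End (ZMod p) U)ˣ),
      a • y = ρ.asGroupHom a * y * (ρ.asGroupHom a)⁻¹ := fun _ _ => rfl
  have hf : ∀ (a : H) (y : (Module.End (ZMod p) U)ˣ),
      a • y = y ↔ ρ.asGroupHom a * y = y * ρ.asGroupHom a := fun a y => by
    rw [hs, mul_inv_eq_iff_eq_mul]
  have := CL.KG.mono (H := H) (fun x : (Module.End (ZMod p) U)ˣ => ψ (trace (ZMod p) U x.1))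
    (fun _ => IsIntegral.of_pow hp.out.pos (CL.KGA.add_pow_p ψ _ ▸ isIntegral_one))
    (fun h x => by
      change ψ (trace (ZMod p) U (ρ.asGroupHom h * x * (ρ.asGroupHom h)⁻¹).1) = _
      rw [Units.val_mul, trace_mul_comm, Units.val_mul, Units.inv_mul_cancel_left])
    (fun y a => θ y (ρ.asGroupHom a))
    (fun y a b ha hb => by
      simp only [map_mul]; exact hmul _ _ _ ((hf _ _).1 ha) ((hf _ _).1 hb))
    (fun y => by simp only [map_one]; exact hone _)
    (fun y g a ha => by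
      simp only [map_mul, map_inv, hs]; exact hconj _ _ _ ((hf _ _).1 ha))
  convert this using 2 with h
  rw [finsum_eq_sum_of_fintype, ← Equiv.sum_comp (r h)]
  simp only [fun x => (a4 h x).2, fun x => (a4 h x).1.symm]
  refine Eq.trans ?_ (@Finset.sum_filter _ _ Finset.univ _ (fun y => h • y = y) (fun _ => Classical.propDecidable _)
    fun x : (Module.End (ZMod p) U)ˣ => ψ (trace (ZMod p) U x.1) * θ x (ρ.asGroupHom h))
  refine (Finset.sum_subtype _ (fun x => ?_) fun x : (Module.End (ZMod p) U)ˣ =>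
    ψ (trace (ZMod p) U x.1) * θ x (ρ.asGroupHom h)).symm
  simp only [Finset.mem_filter, Finset.mem_univ, true_and, mem_centralizer_singleton_iff, hf]
  exact eq_comm

theorem th {p : ℕ} [Fact p.Prime] (h : Mat p) : CL.KGA.Th.{u} p :=
  th_of fun V _ _ _ => theta h V

end CL.KGV.Tr
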