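import Mathlib
import Cfsg.Agent.ORD.BlkCls
import Cfsg.Agent.SOLV.PSolvable
import Cfsg.Agent.S4954

/-! The class number of a `p`-solvable group with trivial `p'`-core is at most the order of a
Sylow `p`-subgroup (from the `k(GV)` theorem and Nagao's inequality). -/

set_option autoImplicit false

namespace CL.KGV

open Subgroup Cfsg CL.Ord.PC

universe u

theorem k_le_of_core (p : ℕ) [hp : Fact p.Prime] (n : ℕ) : ∀ (X : Type u) [Group X] [Finite X],
    IsPSolvable p X → Nat.card X = n → pPrimeCore p X = ⊥ → Nat.card (ConjClasses X) ≤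
      p ^ (Nat.card X).factorization p := by
  induction n using Nat.strong_induction_on with
  | _ n ih =>
  intro X _ _ hs hn hO
  rcases subsingleton_or_nontrivial X with h | h
  · exact k_le_one.trans (Nat.one_le_iff_ne_zero.2 (by have := hp.out.pos; positivity))
  obtain ⟨V, hV, hVO⟩ := exists_isMinNormal_le (pCore p X) (CL.IsPSolvable.pCore_ne_bot hs hO)
  have hVq : IsPGroup p V := (isPGroup_pCore p X).to_le hVO
  have hel := hV.isElementaryAbelian_of_isPGroup hVq
  have := hV.normal
  let f := (QuotientGroup.mk' (pPrimeCore p (X ⧸ V))).comp (QuotientGroup.mk' V)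
  have hf : Function.Surjective f :=
    (QuotientGroup.mk'_surjective _).comp (QuotientGroup.mk'_surjective _)
  have hker : f.ker = (pPrimeCore p (X ⧸ V)).comap (QuotientGroup.mk' V) := by
    rw [← MonoidHom.comap_ker, QuotientGroup.ker_mk']
  have hVK : V ≤ f.ker := hker ▸ QuotientGroup.le_comap_mk' V _
  have hi : (V.subgroupOf f.ker).index = Nat.card (pPrimeCore p (X ⧸ V)) := by
    have := relIndex_comap (⊥ : Subgroup (X ⧸ V)) (QuotientGroup.mk' V) f.ker
    rw [MonoidHom.comap_bot, QuotientGroup.ker_mk', relIndex_bot_left] at this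
    have e : f.ker.map (QuotientGroup.mk' V) = pPrimeCore p (X ⧸ V) := by
      rw [hker, map_comap_eq_self_of_surjective (QuotientGroup.mk'_surjective V)]
    rw [e] at this
    exact this
  have hi' : ¬ p ∣ (V.subgroupOf f.ker).index := hi ▸ not_dvd_card_pPrimeCore p _
  have hpc : pCore p f.ker = V.subgroupOf f.ker := by
    have hq' : IsPGroup p (V.subgroupOf f.ker) := hVq.comap_subtype
    exact le_antisymm (pCore_le_sylow (hq'.toSylow hi')) (le_pCore hq')
  have hc := CL.IsPSolvable.centralizer_pCore_le (CL.IsPSolvable.subgroup hs f.ker)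
    (pPrimeCore_eq_bot_of_isSubnormal (Normal.isSubnormal inferInstance) hO)
  rw [hpc] at hc
  have hcV : Nat.card (V.subgroupOf f.ker) = Nat.card V :=
    Nat.card_congr (subgroupOfEquivOfLe hVK).toEquiv
  have hab : ∀ a ∈ V.subgroupOf f.ker, ∀ b ∈ V.subgroupOf f.ker, a * b = b * a :=
    fun a ha b hb => Subtype.ext (congrArg (Subtype.val : V → X) (hel.1.1.1 ⟨a, ha⟩ ⟨b, hb⟩))
  have h2 := Cfsg.Agent.S4954.result p (V.subgroupOf f.ker)
    (fun a ha => Subtype.ext (hel.2 a ha)) hi'
    (le_antisymm hc fun x hx y hy => hab _ hy _ hx)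
  obtain ⟨r, h1⟩ := hVq.exists_card_eq
  rw [← hcV] at h1
  rw [h1] at h2
  have e1 := f.ker.card_mul_index
  rw [index_ker, MonoidHom.range_eq_top.2 hf, card_top] at e1
  have e2 := (V.subgroupOf f.ker).card_mul_index
  have hlt : 1 < Nat.card f.ker := f.ker.one_lt_card_iff_ne_bot.2 fun e =>
    hV.ne_bot (eq_bot_iff.2 (e ▸ hVK))
  have h3 := ih _ (by rw [← hn, ← e1]; exact lt_mul_of_one_lt_left Nat.card_pos hlt) _
    (CL.IsPSolvable.quotient (CL.IsPSolvable.quotient hs V) _) rfl
    (pPrimeCore_quotient_pPrimeCore p (X ⧸ V))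
  have h4 := k_le_ker_range f
  rw [MonoidHom.range_eq_top.2 hf, k_congr topEquiv] at h4
  have e3 : (Nat.card X).factorization p =
      r + (Nat.card ((X ⧸ V) ⧸ pPrimeCore p (X ⧸ V))).factorization p := by
    rw [← e1, Nat.factorization_mul Nat.card_pos.ne' Nat.card_pos.ne', ← e2, h1,
      Nat.factorization_mul (pow_pos hp.out.pos r).ne' index_ne_zero_of_finite]
    simp [hp.out.factorization_pow, Nat.factorization_eq_zero_of_not_dvd hi']
  refine h4.trans ((Nat.mul_le_mul h2 h3).trans ?_)
  rw [e3, ← pow_add]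

end CL.KGV
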