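/-
Descent: a `K`-linear map after base change from `F` to `L` is block diagonal over the embeddings of `K` in `L`.
-/
import Mathlib

set_option autoImplicit false

namespace CL.KGV.Desc
open Module TensorProduct Matrix Polynomial

variable {F K L W m : Type*} [Field F] [Field K] [Field L] [Algebra F K] [Algebra F L] [AddCommGroup W] [Module K W]
  [Module F W] [IsScalarTower F K W] [Fintype m] [DecidableEq m] (b : Basis m K W)

/-- the comparison map -/
noncomputable def e0 : L ⊗[F] W →ₗ[L] ((K →ₐ[F] L) → m → L) :=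
  LinearMap.liftBaseChange L (LinearMap.pi fun σ => LinearMap.pi fun i =>
    σ.toLinearMap ∘ₗ ((b.coord i).restrictScalars F))

theorem e0_tmul (l : L) (w : W) (σ : K →ₐ[F] L) (i : m) : e0 b (l ⊗ₜ[F] w) σ i = l * σ (b.repr w i) := by
  simp [e0]

theorem e0_comm (y : End K W) (v : L ⊗[F] W) (σ : K →ₐ[F] L) :
    e0 b ((y.restrictScalars F).baseChange L v) σ = (LinearMap.toMatrix b b y).map σ *ᵥ e0 b v σ := by
  induction v with
  | zero => simp
  | add u v hu hv => simp [hu, hv, mulVec_add]
  | tmul l w =>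
    funext i
    have := congrFun (LinearMap.toMatrix_mulVec_repr b b y w) i
    simp only [LinearMap.baseChange_tmul, LinearMap.restrictScalars_apply, e0_tmul, ← this, mulVec, dotProduct,
      map_sum, map_mul, map_apply, Finset.mul_sum]
    exact Finset.sum_congr rfl fun j _ => by ring

variable [FiniteDimensional F K] (hc : Fintype.card (K →ₐ[F] L) = finrank F K)
include hc

theorem e0_bij : Function.Bijective (e0 (F := F) (L := L) b) := by
  classical
  have : Module.Finite K W := Module.Finite.of_basis b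
  have : Module.Finite F W := Module.Finite.trans K W
  have hs : Function.Surjective (e0 (F := F) (L := L) b) := by
    rw [← LinearMap.range_eq_top]
    by_contra h
    obtain ⟨φ, h0, hφ⟩ := Submodule.exists_le_ker_of_lt_top _ (lt_top_iff_ne_top.2 h)
    have key : ∀ σ i, φ (Pi.single σ (Pi.single i 1)) = 0 := fun σ i => by
      refine Fintype.linearIndependent_iff.1 (linearIndependent_algHom_toLinearMap F K L)
        (fun τ => φ (Pi.single τ (Pi.single i 1))) (LinearMap.ext fun k => ?_) σ
      have := hφ ⟨1 ⊗ₜ (k • b i), rfl⟩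
      rw [LinearMap.mem_ker, show e0 (F := F) b ((1 : L) ⊗ₜ[F] (k • b i)) =
        ∑ τ : K →ₐ[F] L, τ k • (Pi.single τ (Pi.single i 1) : (K →ₐ[F] L) → m → L) by
          funext τ j
          simp [e0_tmul, Finset.sum_apply, Pi.single_apply, Finsupp.single_apply, ite_apply, apply_ite τ, eq_comm]] at this
      simpa [mul_comm] using this
    refine h0 (LinearMap.pi_ext fun σ x => ?_)
    rw [show (Pi.single σ x : (K →ₐ[F] L) → m → L) = ∑ i, x i • Pi.single σ (Pi.single i 1) by
      funext τ j; simp [Finset.sum_apply, Pi.single_apply, ite_apply]]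
    simp [key]
  refine ⟨(LinearMap.injective_iff_surjective_of_finrank_eq_finrank ?_).2 hs, hs⟩
  simp [finrank_baseChange, finrank_pi_fintype, hc, ← finrank_mul_finrank F K W, finrank_eq_card_basis b]

/-- the equivalence -/
noncomputable def e : L ⊗[F] W ≃ₗ[L] ((K →ₐ[F] L) → m → L) := LinearEquiv.ofBijective (e0 b) (e0_bij b hc)

theorem e_comm (y : End K W) (v : L ⊗[F] W) (σ : K →ₐ[F] L) :
    e b hc ((y.restrictScalars F).baseChange L v) σ = (LinearMap.toMatrix b b y).map σ *ᵥ e b hc v σ := e0_comm b y v σ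

/-- `A` acts blockwise by the matrices `B σ` -/
def Blk (A : End L (L ⊗[F] W)) (B : (K →ₐ[F] L) → Matrix m m L) : Prop := ∀ v σ, e b hc (A v) σ = B σ *ᵥ e b hc v σ

variable {b hc} {A A' : End L (L ⊗[F] W)} {B B' : (K →ₐ[F] L) → Matrix m m L}

theorem blk (y : End K W) : Blk b hc ((y.restrictScalars F).baseChange L) fun σ => (LinearMap.toMatrix b b y).map σ :=
  e_comm b hc y
theorem Blk.one : Blk b hc 1 fun _ => 1 := fun v σ => by simp
theorem Blk.add (h : Blk b hc A B) (h' : Blk b hc A' B') : Blk b hc (A + A') fun σ => B σ + B' σ :=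
  fun v σ => by simp [h v σ, h' v σ, add_mulVec]
theorem Blk.sub (h : Blk b hc A B) (h' : Blk b hc A' B') : Blk b hc (A - A') fun σ => B σ - B' σ :=
  fun v σ => by simp [h v σ, h' v σ, sub_mulVec]
theorem Blk.smul (c : L) (h : Blk b hc A B) : Blk b hc (c • A) fun σ => c • B σ :=
  fun v σ => by simp [h v σ, smul_mulVec]
theorem Blk.mul (h : Blk b hc A B) (h' : Blk b hc A' B') : Blk b hc (A * A') fun σ => B σ * B' σ :=
  fun v σ => by rw [End.mul_apply, h, h', mulVec_mulVec]
theorem Blk.pow (h : Blk b hc A B) (n : ℕ) : Blk b hc (A ^ n) fun σ => B σ ^ n := by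
  induction n with
  | zero => simpa using Blk.one
  | succ n ih => simpa only [pow_succ] using ih.mul h

open Classical in
theorem Blk.toMatrix (h : Blk b hc A B) : ∃ c : Basis (m × (K →ₐ[F] L)) L (L ⊗[F] W),
    LinearMap.toMatrix c c A = blockDiagonal B := by
  let q : (m × (K →ₐ[F] L) → L) ≃ₗ[L] ((K →ₐ[F] L) → m → L) :=
    (LinearEquiv.funCongrLeft L L (Equiv.prodComm _ _)).trans (LinearEquiv.curry ..)
  refine ⟨(Pi.basisFun L _).map (q.trans (e b hc).symm), ?_⟩
  ext ⟨i, σ⟩ ⟨j, τ⟩
  have hq : ∀ f σ i, q.symm f (i, σ) = f σ i := fun _ _ _ => rfl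
  have hq' : ∀ f σ i, q f σ i = f (i, σ) := fun _ _ _ => rfl
  simp only [LinearMap.toMatrix_apply, Basis.map_repr, Basis.map_apply, LinearEquiv.trans_apply, LinearEquiv.trans_symm,
    LinearEquiv.symm_symm, Pi.basisFun_repr, hq, h _ σ, LinearEquiv.apply_symm_apply, blockDiagonal_apply, mulVec,
    dotProduct, hq', Pi.basisFun_apply, Pi.single_apply, Prod.mk.injEq]
  by_cases k : σ = τ <;> simp [k]

theorem Blk.det (h : Blk b hc A B) : LinearMap.det A = ∏ σ, (B σ).det := by
  classical
  obtain ⟨c, e⟩ := h.toMatrix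
  rw [← LinearMap.det_toMatrix c, e, det_blockDiagonal]

theorem Blk.trace (h : Blk b hc A B) : LinearMap.trace L _ A = ∑ σ, (B σ).trace := by
  classical
  obtain ⟨c, e⟩ := h.toMatrix
  rw [LinearMap.trace_eq_matrix_trace L c, e, trace_blockDiagonal]

end CL.KGV.Desc
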