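import Mathlib
import Cfsg.Agent.FGS.ClassCount

/-! The equality case of Gallagher's inequality `k(X) ≤ k(N) k(X/N)`. -/

set_option autoImplicit false

namespace CL.KGV.G88

theorem eq {X : Type*} [Group X] [Finite X] (N : Subgroup X) [N.Normal]
    (h : Nat.card (ConjClasses N) * Nat.card (ConjClasses (X ⧸ N)) ≤ Nat.card (ConjClasses X)) :
    (∀ n ∈ N, ∀ x : X, ∃ k ∈ N, x * n * x⁻¹ = k * n * k⁻¹) ∧
    (∀ x y : X, x * y * x⁻¹ * y⁻¹ ∈ N → ∃ k ∈ N, (y * k) * x = x * (y * k)) := by
  classical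
  have := Fintype.ofFinite X
  have hX := CL.sum_card_centralizer_eq (G := X)
  have hN := CL.sum_card_centralizer_eq (G := N)
  have hQ := CL.sum_card_centralizer_eq (G := X ⧸ N)
  have h1 : ∀ x : X, Nat.card (Subgroup.centralizer ({x} : Set X)) ≤
      Nat.card (Subgroup.centralizer ({(x : X ⧸ N)} : Set (X ⧸ N))) *
        {n : N | (n : X) * x = x * n}.ncard ∧
      (Nat.card (Subgroup.centralizer ({x} : Set X)) =
      Nat.card (Subgroup.centralizer ({(x : X ⧸ N)} : Set (X ⧸ N))) *
        {n : N | (n : X) * x = x * n}.ncard →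
        ∀ y : X, x * y * x⁻¹ * y⁻¹ ∈ N → ∃ k ∈ N, (y * k) * x = x * (y * k)) := by
    intro x
    set C := Subgroup.centralizer ({x} : Set X)
    let f : C →* X ⧸ N := (QuotientGroup.mk' N).comp C.subtype
    have e := Subgroup.card_mul_index f.ker
    rw [Subgroup.index_ker] at e
    have e0 : f.range ≤ Subgroup.centralizer ({(x : X ⧸ N)} : Set (X ⧸ N)) := by
      rintro _ ⟨⟨c, hc⟩, rfl⟩
      rw [Subgroup.mem_centralizer_singleton_iff] at hc ⊢
      show ((c : X ⧸ N)) * x = x * c
      rw [← QuotientGroup.mk_mul, hc, QuotientGroup.mk_mul]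
    have e1 : Nat.card f.range ≤
        Nat.card (Subgroup.centralizer ({(x : X ⧸ N)} : Set (X ⧸ N))) :=
      Subgroup.card_le_of_le e0
    have e2 : Nat.card f.ker ≤ {n : N | (n : X) * x = x * n}.ncard := by
      rw [← Nat.card_coe_set_eq]
      let g : f.ker → {n : N | (n : X) * x = x * n} := fun c =>
        ⟨⟨c.1.1, (QuotientGroup.eq_one_iff _).mp c.2⟩,
          Subgroup.mem_centralizer_singleton_iff.mp c.1.2⟩
      apply Nat.card_le_card_of_injective g
      intro a b hab
      apply Subtype.ext; apply Subtype.ext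
      exact congrArg (fun z => (z.1.1 : X)) hab
    refine ⟨?_, fun he y hy => ?_⟩
    · rw [← e, mul_comm]
      exact Nat.mul_le_mul e1 e2
    · have hpos : 0 < {n : N | (n : X) * x = x * n}.ncard := lt_of_lt_of_le Nat.card_pos e2
      have e3 : Nat.card (Subgroup.centralizer ({(x : X ⧸ N)} : Set (X ⧸ N))) ≤
          Nat.card f.range := by
        apply Nat.le_of_mul_le_mul_right _ hpos
        rw [← he, ← e, mul_comm]
        exact Nat.mul_le_mul_left _ e2
      have e4 := Subgroup.eq_of_le_of_card_ge e0 e3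
      have hy' : (y : X ⧸ N) ∈ Subgroup.centralizer ({(x : X ⧸ N)} : Set (X ⧸ N)) := by
        rw [Subgroup.mem_centralizer_singleton_iff]
        have := (QuotientGroup.eq_one_iff _).mpr hy
        simp only [QuotientGroup.mk_mul, QuotientGroup.mk_inv] at this
        calc (y : X ⧸ N) * x = ((x : X ⧸ N) * y * (x : X ⧸ N)⁻¹ * (y : X ⧸ N)⁻¹) * y * x := by
              rw [this]; group
          _ = _ := by group
      rw [← e4] at hy'
      obtain ⟨⟨c, hc⟩, hcy⟩ := hy'
      have hcy' : (c : X ⧸ N) = y := hcy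
      refine ⟨y⁻¹ * c, QuotientGroup.eq.mp hcy'.symm, ?_⟩
      rw [mul_inv_cancel_left]
      exact Subgroup.mem_centralizer_singleton_iff.mp hc
  have h2 : ∀ q : X ⧸ N,
      ∑ x : {x : X // (x : X ⧸ N) = q}, {n : N | (n : X) * x.1 = x.1 * n}.ncard ≤
      Nat.card (ConjClasses N) * Nat.card N ∧
      (∑ x : {x : X // (x : X ⧸ N) = q}, {n : N | (n : X) * x.1 = x.1 * n}.ncard =
      Nat.card (ConjClasses N) * Nat.card N →
        ∀ n : N, ∃ a : X, (a : X ⧸ N) = q ∧ (n : X) * a = a * n) := by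
    intro q
    rw [CL.sum_ncard_rel_comm
      (fun (x : {x : X // (x : X ⧸ N) = q}) (n : N) => (n : X) * x.1 = x.1 * n), ← hN]
    have key : ∀ n ∈ (Finset.univ : Finset N),
        {a : {x : X // (x : X ⧸ N) = q} | (n : X) * a.1 = a.1 * n}.ncard ≤
        Nat.card (Subgroup.centralizer ({n} : Set N)) := by
      intro n _
      set S := {a : {x : X // (x : X ⧸ N) = q} | (n : X) * a.1 = a.1 * n}
      rcases S.eq_empty_or_nonempty with h | ⟨a, ha⟩
      · rw [h]; simp
      · rw [← Nat.card_coe_set_eq]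
        have hm : ∀ b : S, a.1⁻¹ * b.1.1 ∈ N :=
          fun b => QuotientGroup.eq.mp (a.2.trans b.1.2.symm)
        let g : S → Subgroup.centralizer ({n} : Set N) := fun b =>
          ⟨⟨a.1⁻¹ * b.1.1, hm b⟩, by
            rw [Subgroup.mem_centralizer_singleton_iff]
            apply Subtype.ext
            have hb : (n : X) * b.1.1 = b.1.1 * n := b.2
            have ha' : (n : X) * a.1 = a.1 * n := ha
            show a.1⁻¹ * b.1.1 * n = n * (a.1⁻¹ * b.1.1)
            calc a.1⁻¹ * b.1.1 * n = a.1⁻¹ * (n * b.1.1) := by rw [hb]; group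
              _ = a.1⁻¹ * (n * a.1) * a.1⁻¹ * b.1.1 := by group
              _ = n * (a.1⁻¹ * b.1.1) := by rw [ha']; group⟩
        apply Nat.card_le_card_of_injective g
        intro b c hbc
        apply Subtype.ext; apply Subtype.ext
        have := congrArg (fun z => (z.1.1 : X)) hbc
        exact mul_left_cancel this
    refine ⟨Finset.sum_le_sum key, fun he n => ?_⟩
    have := (Finset.sum_eq_sum_iff_of_le key).1 he n (Finset.mem_univ _)
    have hp : 0 < {a : {x : X // (x : X ⧸ N) = q} | (n : X) * a.1 = a.1 * n}.ncard := by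
      rw [this]; exact Nat.card_pos
    obtain ⟨a, ha⟩ := Set.nonempty_of_ncard_ne_zero hp.ne'
    exact ⟨a.1, a.2, ha⟩
  have hA := fun x (_ : x ∈ (Finset.univ : Finset X)) => (h1 x).1
  have hB : ∑ x : X, Nat.card (Subgroup.centralizer ({(x : X ⧸ N)} : Set (X ⧸ N))) *
        {n : N | (n : X) * x = x * n}.ncard =
      ∑ q : X ⧸ N, Nat.card (Subgroup.centralizer ({q} : Set (X ⧸ N))) *
        ∑ x : {x : X // (x : X ⧸ N) = q}, {n : N | (n : X) * x.1 = x.1 * n}.ncard := by
    rw [← Finset.sum_fiberwise Finset.univ (fun x : X => (x : X ⧸ N))]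
    apply Finset.sum_congr rfl
    intro q _
    rw [Finset.mul_sum]
    rw [Finset.sum_subtype (p := fun x : X => (x : X ⧸ N) = q) _ (by simp)]
    apply Finset.sum_congr rfl
    rintro ⟨x, rfl⟩ _
    rfl
  have hC : ∀ q ∈ (Finset.univ : Finset (X ⧸ N)),
      Nat.card (Subgroup.centralizer ({q} : Set (X ⧸ N))) *
        ∑ x : {x : X // (x : X ⧸ N) = q}, {n : N | (n : X) * x.1 = x.1 * n}.ncard ≤
      Nat.card (Subgroup.centralizer ({q} : Set (X ⧸ N))) *
        (Nat.card (ConjClasses N) * Nat.card N) :=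
    fun q _ => Nat.mul_le_mul_left _ (h2 q).1
  have e3 : Nat.card X = Nat.card (X ⧸ N) * Nat.card N :=
    Subgroup.card_eq_card_quotient_mul_card_subgroup N
  have hD : ∑ q : X ⧸ N, Nat.card (Subgroup.centralizer ({q} : Set (X ⧸ N))) *
        (Nat.card (ConjClasses N) * Nat.card N) ≤
      ∑ x : X, Nat.card (Subgroup.centralizer ({x} : Set X)) := by
    rw [← Finset.sum_mul, hQ, hX, e3]
    calc _ = (Nat.card (ConjClasses N) * Nat.card (ConjClasses (X ⧸ N))) *
          (Nat.card (X ⧸ N) * Nat.card N) := by ring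
      _ ≤ _ := Nat.mul_le_mul_right _ h
  have hA' := Finset.sum_le_sum hA
  have hC' := Finset.sum_le_sum hC
  have eA := (Finset.sum_eq_sum_iff_of_le hA).1 (by omega)
  have eC := (Finset.sum_eq_sum_iff_of_le hC).1 (by omega)
  refine ⟨fun n hn x => ?_, fun x y hy => (h1 x).2 (eA x (Finset.mem_univ _)) y hy⟩
  have := Nat.eq_of_mul_eq_mul_left Nat.card_pos (eC ((x⁻¹ : X) : X ⧸ N) (Finset.mem_univ _))
  obtain ⟨a, ha, hna⟩ := (h2 _).2 this ⟨n, hn⟩
  have hk : x * a ∈ N := by
    have := QuotientGroup.eq.mp ha.symm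
    rwa [inv_inv] at this
  refine ⟨x * a, hk, ?_⟩
  have hna' : n * a = a * n := hna
  calc x * n * x⁻¹ = x * (n * a) * a⁻¹ * x⁻¹ := by group
    _ = _ := by rw [hna']; group

end CL.KGV.G88
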