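import Mathlib

namespace CL.KGV.Gen94

variable {C : Type*} [Ring C] {M : Type*} [CommMonoid M]

/-- the unit `1 + t` for `t * t = 0` -/
def uni (t : C) (ht : t * t = 0) : Cˣ where
  val := 1 + t
  inv := 1 - t
  val_inv := by simp [mul_sub, add_mul, ht]
  inv_val := by simp [sub_mul, mul_add, ht]

theorem big (e1 e2 : C) (h11 : e1 * e1 = e1) (h22 : e2 * e2 = e2) (h12 : e1 * e2 = 0)
    (h21 : e2 * e1 = 0) (θ : Cˣ →* M)
    (hu : ∀ x : Cˣ, ((x : C) - 1) * ((x : C) - 1) = 0 → θ x = 1)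
    (hL1 : ∀ x : Cˣ, (x : C) * (1 - e1) = 1 - e1 → (1 - e1) * (x : C) = 1 - e1 → θ x = 1)
    (hL2 : ∀ x : Cˣ, (x : C) * (1 - e2) = 1 - e2 → (1 - e2) * (x : C) = 1 - e2 → θ x = 1)
    (x : Cˣ) (hx1 : (x : C) * (1 - (e1 + e2)) = 1 - (e1 + e2))
    (hx2 : (1 - (e1 + e2)) * (x : C) = 1 - (e1 + e2))
    (y : C) (hy : e1 * y * e1 = y) (hy1 : e1 * x * e1 * y = e1) (hy2 : y * (e1 * x * e1) = e1) :
    θ x = 1 := by
  have ey : e1 * y = y := by rw [← hy, ← mul_assoc, ← mul_assoc, h11]
  have ye : y * e1 = y := by rw [← hy, mul_assoc, h11]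
  have e2y : e2 * y = 0 := by rw [← ey, ← mul_assoc, h21, zero_mul]
  have ye2 : y * e2 = 0 := by rw [← ye, mul_assoc, h12, mul_zero]
  have a1 : e1 * x * y = e1 := by
    have h := hy1
    rwa [mul_assoc (e1 * x) e1 y, ey] at h
  have a2 : y * x * e1 = e1 := by
    have : y * (e1 * x * e1) = y * x * e1 := by rw [← mul_assoc, ← mul_assoc, ye]
    rw [← this, hy2]
  have t1 : (-(e2 * x * y)) * (-(e2 * x * y)) = 0 := by
    rw [neg_mul_neg]
    have : e2 * x * y * (e2 * x * y) = e2 * x * (y * e2) * x * y := by simp only [mul_assoc]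
    rw [this, ye2]; simp
  have t2 : (-(y * x * e2)) * (-(y * x * e2)) = 0 := by
    rw [neg_mul_neg]
    have : y * x * e2 * (y * x * e2) = y * x * (e2 * y) * x * e2 := by simp only [mul_assoc]
    rw [this, e2y]; simp
  let D1 : Cˣ :=
    { val := y + (1 - e1)
      inv := e1 * x * e1 + (1 - e1)
      val_inv := by
        have b1 : y * (1 - e1) = 0 := by rw [mul_sub, ye]; simp
        have b2 : (1 - e1) * (e1 * x * e1) = 0 := by
          rw [sub_mul, one_mul, ← mul_assoc, ← mul_assoc, h11]; simp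
        have b3 : (1 - e1) * (1 - e1) = 1 - e1 := by simp [mul_sub, sub_mul, h11]
        rw [add_mul, mul_add, mul_add, hy2, b1, b2, b3]; abel
      inv_val := by
        have b1 : (1 - e1) * y = 0 := by rw [sub_mul, ey]; simp
        have b2 : (e1 * x * e1) * (1 - e1) = 0 := by
          rw [mul_sub, mul_assoc (e1 * x) e1 e1, h11]; simp
        have b3 : (1 - e1) * (1 - e1) = 1 - e1 := by simp [mul_sub, sub_mul, h11]
        rw [add_mul, mul_add, mul_add, hy1, b1, b2, b3]; abel }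
  have hD1 : θ D1 = 1 := by
    apply hL1
    · show (y + (1 - e1)) * (1 - e1) = 1 - e1
      simp [mul_sub, sub_mul, add_mul, h11, ye]
    · show (1 - e1) * (y + (1 - e1)) = 1 - e1
      simp [mul_sub, sub_mul, mul_add, h11, ey]
  have hL : θ (uni _ t1) = 1 := hu _ (by simpa [uni] using t1)
  have hR : θ (uni _ t2) = 1 := hu _ (by simpa [uni] using t2)
  -- generalised relations
  have g11 : ∀ z, e1 * (e1 * z) = e1 * z := fun z => by rw [← mul_assoc, h11]
  have g22 : ∀ z, e2 * (e2 * z) = e2 * z := fun z => by rw [← mul_assoc, h22]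
  have g12 : ∀ z, e1 * (e2 * z) = 0 := fun z => by rw [← mul_assoc, h12, zero_mul]
  have g21 : ∀ z, e2 * (e1 * z) = 0 := fun z => by rw [← mul_assoc, h21, zero_mul]
  have gey : ∀ z, e1 * (y * z) = y * z := fun z => by rw [← mul_assoc, ey]
  have gye : ∀ z, y * (e1 * z) = y * z := fun z => by rw [← mul_assoc, ye]
  have g2y : ∀ z, e2 * (y * z) = 0 := fun z => by rw [← mul_assoc, e2y, zero_mul]
  have gy2 : ∀ z, y * (e2 * z) = 0 := fun z => by rw [← mul_assoc, ye2, zero_mul]
  set f : C := 1 - (e1 + e2) with hf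
  have one : (1 : C) - e2 = e1 + f := by rw [hf]; abel
  have fe1 : f * e1 = 0 := by simp [hf, sub_mul, add_mul, h11, h21]
  have fe2 : f * e2 = 0 := by simp [hf, sub_mul, add_mul, h12, h22]
  have e1f : e1 * f = 0 := by simp [hf, mul_sub, mul_add, h11, h12]
  have e2f : e2 * f = 0 := by simp [hf, mul_sub, mul_add, h21, h22]
  have fy : f * y = 0 := by rw [← ey, ← mul_assoc, fe1, zero_mul]
  have yf : y * f = 0 := by rw [← ye, mul_assoc, e1f, mul_zero]
  have hD2 : θ (D1 * (uni _ t1 * x * uni _ t2)) = 1 := by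
    have val : ((D1 * (uni _ t1 * x * uni _ t2) : Cˣ) : C)
        = (y + (1 - e1)) * ((1 + -(e2 * x * y)) * x * (1 + -(y * x * e2))) := rfl
    -- x e1 = e1 x e1 + e2 x e1
    have xe : (x : C) * e1 = e1 * x * e1 + e2 * x * e1 := by
      have : (1 : C) = e1 + e2 + f := by rw [hf]; abel
      calc (x : C) * e1 = (e1 + e2 + f) * x * e1 := by rw [← this, one_mul]
        _ = _ := by rw [add_mul, add_mul, hx2, add_mul, add_mul, fe1, add_zero]
    have ex : e1 * (x : C) = e1 * x * e1 + e1 * x * e2 := by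
      have : (1 : C) = e1 + e2 + f := by rw [hf]; abel
      calc e1 * (x : C) = e1 * (x * (e1 + e2 + f)) := by rw [← this, mul_one]
        _ = _ := by rw [mul_add, mul_add, hx1, mul_add, mul_add, e1f, add_zero, mul_assoc, mul_assoc]
    apply hL2
    · rw [val, one, mul_add]
      congr 1
      · have c1 : (1 + -(y * x * e2)) * e1 = e1 := by
          rw [add_mul, neg_mul, mul_assoc (y * x), h21]; simp
        have c2 : (1 + -(e2 * x * y)) * x * e1 = e1 * x * e1 := by
          rw [add_mul, add_mul, one_mul, neg_mul, neg_mul]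
          have : e2 * x * y * x * e1 = e2 * x * (y * x * e1) := by simp only [mul_assoc]
          rw [this, a2, xe]; abel
        have c3 : (1 - e1) * (e1 * x * e1) = 0 := by
          rw [sub_mul, one_mul, ← mul_assoc, ← mul_assoc, h11]; simp
        rw [mul_assoc, mul_assoc, c1, c2, add_mul, hy2, c3, add_zero]
      · have c1 : (1 + -(y * x * e2)) * f = f := by
          rw [add_mul, neg_mul, mul_assoc (y * x), e2f]; simp
        have c2 : (1 + -(e2 * x * y)) * f = f := by
          rw [add_mul, neg_mul, mul_assoc (e2 * x), yf]; simp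
        have c3 : (y + (1 - e1)) * f = f := by
          rw [add_mul, yf, sub_mul, e1f]; simp
        rw [mul_assoc, mul_assoc, c1, mul_assoc, hx1, c2, c3]
    · rw [val, one, add_mul]
      congr 1
      · have c1 : e1 * (y + (1 - e1)) = y := by rw [mul_add, ey, mul_sub, h11]; simp
        have c2 : y * (1 + -(e2 * x * y)) = y := by
          rw [mul_add, mul_neg, mul_assoc e2, gy2]; simp
        have c3 : y * x * (1 + -(y * x * e2)) = e1 := by
          have d1 : y * (x : C) = e1 + y * x * e2 := by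
            calc y * (x : C) = y * (e1 * x) := (gye _).symm
              _ = y * (e1 * x * e1) + y * (e1 * x * e2) := by rw [ex, mul_add, ← ex]
              _ = _ := by rw [hy2, mul_assoc e1, gye, mul_assoc]
          have d2 : y * x * (y * x * e2) = y * x * e2 := by
            have : y * x * (y * x * e2) = y * (e1 * x * y) * x * e2 := by
              simp only [mul_assoc, gye]
            rw [this, a1, ye]
          rw [mul_add, mul_one, mul_neg, d2]
          nth_rewrite 1 [d1]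
          abel
        rw [← mul_assoc, c1, ← mul_assoc, ← mul_assoc, c2, c3]
      · have c1 : f * (y + (1 - e1)) = f := by rw [mul_add, fy, mul_sub, fe1]; simp
        have c2 : f * (1 + -(e2 * x * y)) = f := by
          rw [mul_add, mul_neg, ← mul_assoc, ← mul_assoc, fe2]; simp
        have c3 : f * (1 + -(y * x * e2)) = f := by
          rw [mul_add, mul_neg, ← mul_assoc, ← mul_assoc, fy]; simp
        rw [← mul_assoc, c1, ← mul_assoc, ← mul_assoc, c2, hx2, c3]
  simpa [map_mul, hD1, hL, hR] using hD2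

theorem gen (e1 e2 : C) (h11 : e1 * e1 = e1) (h22 : e2 * e2 = e2) (h12 : e1 * e2 = 0)
    (h21 : e2 * e1 = 0)
    (hdiv : ∀ x : C, e1 * x * e1 ≠ 0 →
      ∃ y, e1 * y * e1 = y ∧ e1 * x * e1 * y = e1 ∧ y * (e1 * x * e1) = e1)
    (θ : Cˣ →* M)
    (hu : ∀ x : Cˣ, ((x : C) - 1) * ((x : C) - 1) = 0 → θ x = 1)
    (hL1 : ∀ x : Cˣ, (x : C) * (1 - e1) = 1 - e1 → (1 - e1) * (x : C) = 1 - e1 → θ x = 1)
    (hL2 : ∀ x : Cˣ, (x : C) * (1 - e2) = 1 - e2 → (1 - e2) * (x : C) = 1 - e2 → θ x = 1)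
    (x : Cˣ) (hx1 : (x : C) * (1 - (e1 + e2)) = 1 - (e1 + e2))
    (hx2 : (1 - (e1 + e2)) * (x : C) = 1 - (e1 + e2)) : θ x = 1 := by
  by_cases h0 : e1 * x * e1 = 0
  · have t : (e1 * (x⁻¹ : Cˣ) * e2) * (e1 * (x⁻¹ : Cˣ) * e2) = 0 := by
      have : (e1 * (x⁻¹ : Cˣ) * e2) * (e1 * (x⁻¹ : Cˣ) * e2)
          = e1 * (x⁻¹ : Cˣ) * (e2 * e1) * (x⁻¹ : Cˣ) * e2 := by simp only [mul_assoc]
      rw [this, h21]; simp
    have hT : θ (uni _ t) = 1 := hu _ (by simpa [uni] using t)
    set f : C := 1 - (e1 + e2) with hf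
    have fe1 : f * e1 = 0 := by simp [hf, sub_mul, add_mul, h11, h21]
    have e2f : e2 * f = 0 := by simp [hf, mul_sub, mul_add, h21, h22]
    have val : ((uni _ t * x : Cˣ) : C) = (1 + e1 * (x⁻¹ : Cˣ) * e2) * x := rfl
    have key : e1 * ((uni _ t * x : Cˣ) : C) * e1 = e1 := by
      have e2eq : e2 = 1 - e1 - f := by rw [hf]; abel
      have c1 : e2 * x * e1 = x * e1 := by
        rw [e2eq, sub_mul, sub_mul, hx2, sub_mul, sub_mul, h0, fe1]; simp
      have c2 : e1 * ((1 + e1 * (x⁻¹ : Cˣ) * e2) * x) * e1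
          = e1 * x * e1 + e1 * e1 * (x⁻¹ : Cˣ) * (e2 * x * e1) := by
        simp only [mul_add, add_mul, mul_assoc, one_mul]
      rw [val, c2, h0, c1, h11, zero_add, mul_assoc, ← mul_assoc ((x⁻¹ : Cˣ) : C),
        Units.inv_mul, one_mul, h11]
    have := big e1 e2 h11 h22 h12 h21 θ hu hL1 hL2 (uni _ t * x)
      (by rw [← hf, val, mul_assoc, hx1, add_mul, mul_assoc, e2f]; simp)
      (by rw [← hf, val, ← mul_assoc, mul_add, ← mul_assoc, ← mul_assoc, fe1]; simpa using hx2)
      e1 (by rw [h11, h11]) (by rw [key, h11]) (by rw [key, h11])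
    simpa [map_mul, hT] using this
  · obtain ⟨y, hy, hy1, hy2⟩ := hdiv x h0
    exact big e1 e2 h11 h22 h12 h21 θ hu hL1 hL2 x hx1 hx2 y hy hy1 hy2

end CL.KGV.Gen94
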