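import Mathlib

namespace CL.KGV.H1

variable {K A : Type*} [Field K] [Fintype K] [Ring A] [Algebra K A]

/-- `(g - a)^Q = g - a` for `g^Q = g`. -/
theorem sub_pow (g : A) (hg : g ^ Fintype.card K = g) (a : K) :
    (g - algebraMap K A a) ^ Fintype.card K = g - algebraMap K A a := by
  rcases subsingleton_or_nontrivial A with h | h
  · exact Subsingleton.elim _ _
  obtain ⟨p, hp, n, hpp, hn⟩ := FiniteField.card' K
  haveI : Fact p.Prime := ⟨hpp⟩
  haveI : CharP A p := charP_of_injective_algebraMap (algebraMap K A).injective p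
  have hc : Commute g (algebraMap K A a) := (Algebra.commutes a g).symm
  have h1 : (g - algebraMap K A a) ^ p ^ (n : ℕ) = g ^ p ^ (n : ℕ) - (algebraMap K A a) ^ p ^ (n : ℕ) :=
    sub_pow_char_pow_of_commute (p := p) (n := (n : ℕ)) hc
  rw [hn, h1, ← hn, hg, ← map_pow, FiniteField.pow_card]

/-- `g e_a = a e_a`. -/
theorem mul_e (g : A) (hg : g ^ Fintype.card K = g) (a : K) :
    g * (1 - (g - algebraMap K A a) ^ (Fintype.card K - 1)) =
      a • (1 - (g - algebraMap K A a) ^ (Fintype.card K - 1)) := by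
  have h := sub_pow g hg a
  have hQ : Fintype.card K = (Fintype.card K - 1) + 1 := by
    have := Fintype.card_pos (α := K); omega
  have h2 : (g - algebraMap K A a) * (g - algebraMap K A a) ^ (Fintype.card K - 1)
      = g - algebraMap K A a := by
    rw [← pow_succ', ← hQ, h]
  have h3 : (g - algebraMap K A a) * (1 - (g - algebraMap K A a) ^ (Fintype.card K - 1)) = 0 := by
    rw [mul_sub, mul_one, h2, sub_self]
  rw [sub_mul, sub_eq_zero] at h3
  rw [h3, Algebra.smul_def]

/-- If `x` fixes the image of `g - 1`, then `x e_a = e_a` for `a ≠ 1`. -/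
theorem fix (g x : A) (hg : g ^ Fintype.card K = g) (hx : x * (g - 1) = g - 1) {a : K}
    (ha : a ≠ 1) :
    x * (1 - (g - algebraMap K A a) ^ (Fintype.card K - 1)) =
      1 - (g - algebraMap K A a) ^ (Fintype.card K - 1) := by
  set e := 1 - (g - algebraMap K A a) ^ (Fintype.card K - 1) with he
  have h1 : (g - 1) * e = (a - 1) • e := by
    rw [sub_mul, one_mul, sub_smul, one_smul, he, mul_e g hg a]
  have h2 : e = (a - 1)⁻¹ • ((g - 1) * e) := by
    rw [h1, smul_smul, inv_mul_cancel₀ (sub_ne_zero.mpr ha), one_smul]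
  calc x * e = x * ((a - 1)⁻¹ • ((g - 1) * e)) := by rw [← h2]
    _ = (a - 1)⁻¹ • ((x * (g - 1)) * e) := by rw [mul_smul_comm, mul_assoc]
    _ = e := by rw [hx, ← h2]

/-- the forms that occur under the determinant -/
theorem fix1 (g x : A) (hg : g ^ Fintype.card K = g) (hx : x * (g - 1) = g - 1) {a : K}
    (ha : a ≠ 1) :
    x * (1 - (g - algebraMap K A a) ^ (Fintype.card K - 1)) + 1 -
      (1 - (g - algebraMap K A a) ^ (Fintype.card K - 1)) = 1 := by
  rw [fix g x hg hx ha]; abel

theorem fix2 (g x : A) (hg : g ^ Fintype.card K = g) (hx : x * (g - 1) = g - 1)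
    (hc : x * g = g * x) {a : K} (ha : a ≠ 1) :
    (1 - (g - algebraMap K A a) ^ (Fintype.card K - 1)) * x + 1 -
      (1 - (g - algebraMap K A a) ^ (Fintype.card K - 1)) = 1 := by
  have h1 : Commute x (g - algebraMap K A a) :=
    Commute.sub_right hc (Algebra.commutes a x).symm
  have h2 : Commute x (1 - (g - algebraMap K A a) ^ (Fintype.card K - 1)) :=
    Commute.sub_right (Commute.one_right x) (h1.pow_right _)
  rw [← h2.eq, fix g x hg hx ha]; abel

end CL.KGV.H1
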