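import Mathlib

/-! Determinants and traces of linear combinations of orthogonal idempotent matrices. -/

set_option autoImplicit false
set_option linter.unusedSectionVars false

namespace CL.KGV.Id58

open Matrix

variable {K : Type*} [Field K] {n : Type*} [Fintype n] [DecidableEq n]

theorem lin_det {V : Type*} [AddCommGroup V] [Module K V] [Module.Finite K V] (f : V →ₗ[K] V)
    (hf : f * f = f) (c : K) :
    LinearMap.det (c • f + 1 - f) = c ^ Module.finrank K (LinearMap.range f) := by
  have hp : LinearMap.IsProj (LinearMap.range f) f :=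
    ⟨fun x => LinearMap.mem_range_self f x, by
      rintro _ ⟨x, rfl⟩
      exact LinearMap.congr_fun hf x⟩
  let e := Submodule.prodEquivOfIsCompl (LinearMap.range f) (LinearMap.ker f) hp.isCompl
  have h : c • f + 1 - f = e.toLinearMap ∘ₗ
      (LinearMap.prodMap (c • LinearMap.id) LinearMap.id) ∘ₗ e.symm.toLinearMap := by
    rw [← LinearMap.comp_assoc, LinearEquiv.eq_comp_toLinearMap_symm]
    apply LinearMap.ext
    rintro ⟨⟨x, hx⟩, ⟨y, hy⟩⟩
    have h1 : f x = x := hp.map_id x hx
    have h2 : f y = 0 := hy
    simp [e, h1, h2]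
    abel
  rw [h, LinearMap.det_conj, LinearMap.det_prodMap]
  simp

theorem det_idem {E : Matrix n n K} (hE : E * E = E) (c : K) :
    (c • E + 1 - E).det = c ^ E.rank := by
  have h := lin_det (Matrix.toLin' E) (by rw [Module.End.mul_eq_comp, ← Matrix.toLin'_mul, hE]) c
  rw [← LinearMap.det_toLin']
  simp only [map_sub, map_add, map_smul, Matrix.toLin'_one]
  exact h

theorem trace_idem {E : Matrix n n K} (hE : E * E = E) : E.trace = (E.rank : K) := by
  have hf : Matrix.toLin' E * Matrix.toLin' E = Matrix.toLin' E := by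
    rw [Module.End.mul_eq_comp, ← Matrix.toLin'_mul, hE]
  have hp : LinearMap.IsProj (LinearMap.range (Matrix.toLin' E)) (Matrix.toLin' E) :=
    ⟨fun x => LinearMap.mem_range_self _ x, by
      rintro _ ⟨x, rfl⟩
      exact LinearMap.congr_fun hf x⟩
  have h := hp.trace
  rw [Matrix.trace_toLin'_eq] at h
  exact h

variable {ι : Type*} [DecidableEq ι]

theorem det_finset (P : ι → Matrix n n K) (hP : ∀ a b, P a * P b = if a = b then P a else 0)
    (c : ι → K) (s : Finset ι) :
    (∑ i ∈ s, c i • P i + 1 - ∑ i ∈ s, P i).det = ∏ i ∈ s, c i ^ (P i).rank := by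
  induction s using Finset.induction_on with
  | empty => simp
  | insert a s ha ih =>
    have h1 : P a * ∑ i ∈ s, c i • P i = 0 := by
      rw [Finset.mul_sum]
      refine Finset.sum_eq_zero fun i hi => ?_
      rw [Matrix.mul_smul, hP, if_neg (by rintro rfl; exact ha hi), smul_zero]
    have h2 : P a * ∑ i ∈ s, P i = 0 := by
      rw [Finset.mul_sum]
      refine Finset.sum_eq_zero fun i hi => ?_
      rw [hP, if_neg (by rintro rfl; exact ha hi)]
    have h3 : P a * P a = P a := by rw [hP, if_pos rfl]
    rw [Finset.prod_insert ha, ← ih, ← det_idem h3, ← Matrix.det_mul, Finset.sum_insert ha,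
      Finset.sum_insert ha]
    congr 1
    simp only [Matrix.mul_add, Matrix.mul_sub, Matrix.add_mul, Matrix.sub_mul, Matrix.smul_mul,
      h1, h2, Matrix.mul_one, Matrix.one_mul, smul_zero]
    abel

theorem det_sum [Fintype ι] (P : ι → Matrix n n K)
    (hP : ∀ a b, P a * P b = if a = b then P a else 0) (h1 : ∑ i, P i = 1) (c : ι → K) :
    (∑ i, c i • P i).det = ∏ i, c i ^ (P i).rank := by
  rw [← det_finset P hP c Finset.univ, h1, add_sub_cancel_right]

theorem trace_sum [Fintype ι] (P : ι → Matrix n n K) (hP : ∀ a, P a * P a = P a) (c : ι → K) :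
    (∑ i, c i • P i).trace = ∑ i, c i * ((P i).rank : K) := by
  rw [Matrix.trace_sum]
  exact Finset.sum_congr rfl fun i _ => by rw [Matrix.trace_smul, trace_idem (hP i), smul_eq_mul]

/-- joint form: the determinant of `∑ c i • P i` on the image of a commuting idempotent `E`. -/
theorem joint [Fintype ι] (P : ι → Matrix n n K)
    (hP : ∀ a b, P a * P b = if a = b then P a else 0) (h1 : ∑ i, P i = 1) (c : ι → K)
    {E : Matrix n n K} (hE : E * E = E) (hc : ∀ a, E * P a = P a * E) :
    ((∑ i, c i • P i) * E + 1 - E).det = ∏ i, c i ^ (P i * E).rank := by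
  have hQ : ∀ a b, (P a * E) * (P b * E) = if a = b then P a * E else 0 := fun a b => by
    rw [Matrix.mul_assoc, ← Matrix.mul_assoc E, hc, Matrix.mul_assoc, hE, ← Matrix.mul_assoc, hP]
    split_ifs <;> simp
  rw [← det_finset (fun i => P i * E) hQ c Finset.univ, ← Finset.sum_mul, h1, Matrix.one_mul,
    Finset.sum_mul]
  simp only [Matrix.smul_mul]

/-- the rank does not change under a field homomorphism. -/
theorem rank_map {L : Type*} [Field L] (f : K →+* L) (E : Matrix n n K) :
    (E.map f).rank = E.rank := by
  classical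
  obtain ⟨A, B, D, h⟩ := Matrix.Pivot.exists_list_transvec_mul_mul_list_transvec_eq_diagonal E
  have hA : ((A.map TransvectionStruct.toMatrix).prod).det = 1 := TransvectionStruct.det_toMatrix_prod A
  have hB : ((B.map TransvectionStruct.toMatrix).prod).det = 1 := TransvectionStruct.det_toMatrix_prod B
  generalize (A.map TransvectionStruct.toMatrix).prod = P at h hA
  generalize (B.map TransvectionStruct.toMatrix).prod = Q at h hB
  have h' : P.map f * E.map f * Q.map f = diagonal fun i => f (D i) := by
    rw [← Matrix.map_mul, ← Matrix.map_mul, h, Matrix.diagonal_map (map_zero f)]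
  have hA' : (P.map f).det = 1 := by rw [← RingHom.mapMatrix_apply, ← RingHom.map_det, hA, map_one]
  have hB' : (Q.map f).det = 1 := by rw [← RingHom.mapMatrix_apply, ← RingHom.map_det, hB, map_one]
  have r1 := congrArg Matrix.rank h
  have r2 := congrArg Matrix.rank h'
  rw [Matrix.rank_mul_eq_left_of_isUnit_det _ _ (by rw [hB]; exact isUnit_one),
    Matrix.rank_mul_eq_right_of_isUnit_det _ _ (by rw [hA]; exact isUnit_one),
    Matrix.rank_diagonal] at r1
  rw [Matrix.rank_mul_eq_left_of_isUnit_det _ _ (by rw [hB']; exact isUnit_one),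
    Matrix.rank_mul_eq_right_of_isUnit_det _ _ (by rw [hA']; exact isUnit_one),
    Matrix.rank_diagonal] at r2
  rw [r1, r2]
  exact Fintype.card_congr (Equiv.subtypeEquivRight fun i => map_ne_zero f)

end CL.KGV.Id58
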