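import Mathlib

/-! Determinant and trace of combinations of orthogonal idempotent matrices. -/

set_option autoImplicit false

namespace CL.KGV.IdM
open Matrix Polynomial Module

variable {K : Type*} [Field K] {n : Type*} [Fintype n] [DecidableEq n]

theorem det_idem {e : Matrix n n K} (he : e * e = e) (c : K) :
    (c • e + 1 - e).det = c ^ e.rank := by
  have h : IsIdempotentElem (toLin' e) := by
    rw [IsIdempotentElem, Module.End.mul_eq_comp, ← toLin'_mul, he]
  have hp := LinearMap.IsIdempotentElem.isProj_range _ h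
  have e1 : toLin' (c • e + 1 - e) =
      ((LinearMap.range (toLin' e)).prodEquivOfIsCompl _ hp.isCompl).toLinearMap ∘ₗ
      LinearMap.prodMap (c • LinearMap.id) LinearMap.id ∘ₗ
      ((LinearMap.range (toLin' e)).prodEquivOfIsCompl _ hp.isCompl).symm.toLinearMap := by
    rw [← LinearMap.comp_assoc, LinearEquiv.eq_comp_toLinearMap_symm]
    refine LinearMap.ext fun ⟨x, y⟩ => ?_
    have h1 : toLin' e x = x := hp.map_id _ x.2
    have h2 : toLin' e y = 0 := y.2
    simp only [map_sub, map_add, map_smul, toLin'_one, LinearMap.comp_apply, LinearEquiv.coe_coe,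
      Submodule.coe_prodEquivOfIsCompl', LinearMap.prodMap_apply, LinearMap.sub_apply,
      LinearMap.add_apply, LinearMap.smul_apply, LinearMap.id_apply, h1, h2, Submodule.coe_smul]
    module
  rw [← LinearMap.det_toLin', e1, LinearMap.det_conj, LinearMap.det_prodMap, LinearMap.det_smul,
    LinearMap.det_id, LinearMap.det_id, mul_one, mul_one]
  rfl

theorem trace_idem {e : Matrix n n K} (he : e * e = e) : e.trace = e.rank := by
  have h : IsIdempotentElem (toLin' e) := by
    rw [IsIdempotentElem, Module.End.mul_eq_comp, ← toLin'_mul, he]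
  rw [← trace_toLin'_eq, (LinearMap.IsIdempotentElem.isProj_range _ h).trace]
  rfl

variable {ι : Type*} {e : ι → Matrix n n K}

theorem det_sum' (he : OrthogonalIdempotents e) (c : ι → K) (s : Finset ι) :
    (∑ i ∈ s, c i • e i + 1 - ∑ i ∈ s, e i).det = ∏ i ∈ s, c i ^ (e i).rank := by
  classical
  induction s using Finset.induction_on with
  | empty => simp
  | insert a s ha ih =>
    have h1 : e a * ∑ i ∈ s, e i = 0 := he.mul_sum_of_notMem ha
    have h2 : e a * ∑ i ∈ s, c i • e i = 0 := by
      rw [Finset.mul_sum]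
      exact Finset.sum_eq_zero fun i hi => by
        rw [Matrix.mul_smul, he.ortho (fun h : a = i => ha (h ▸ hi)), smul_zero]
    have h3 : e a * (∑ i ∈ s, c i • e i + 1 - ∑ i ∈ s, e i) = e a := by
      rw [mul_sub, mul_add, h1, h2, mul_one, zero_add, sub_zero]
    rw [Finset.prod_insert ha, ← ih, ← det_idem (he.idem a).eq, ← det_mul, Finset.sum_insert ha,
      Finset.sum_insert ha, sub_mul, add_mul, Matrix.smul_mul, h3, one_mul]
    congr 1
    abel

variable [Fintype ι]

theorem det_sum (he : CompleteOrthogonalIdempotents e) (c : ι → K) :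
    (∑ i, c i • e i).det = ∏ i, c i ^ (e i).rank := by
  rw [← det_sum' he.toOrthogonalIdempotents, he.complete, add_sub_cancel_right]

theorem trace_sum (he : ∀ i, e i * e i = e i) (c : ι → K) :
    (∑ i, c i • e i).trace = ∑ i, c i * (e i).rank := by
  rw [Matrix.trace_sum]
  exact Finset.sum_congr rfl fun i _ => by rw [trace_smul, trace_idem (he i), smul_eq_mul]

theorem rank_map {L : Type*} [Field L] (φ : K →+* L) (A : Matrix n n K) :
    (A.map φ).rank = A.rank := by
  classical
  obtain ⟨P, Q, D, h⟩ := Pivot.exists_list_transvec_mul_diagonal_mul_list_transvec A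
  have hu : ∀ R : List (TransvectionStruct n K), (R.map TransvectionStruct.toMatrix).prod.det = 1 :=
    fun R => TransvectionStruct.det_toMatrix_prod R
  have hv : ∀ R : List (TransvectionStruct n K),
      IsUnit (((R.map TransvectionStruct.toMatrix).prod).map φ).det := fun R => by
    rw [← RingHom.mapMatrix_apply, ← RingHom.map_det, hu, map_one]; exact isUnit_one
  rw [h, Matrix.map_mul, Matrix.map_mul, rank_mul_eq_left_of_isUnit_det _ _ (hv Q),
    rank_mul_eq_right_of_isUnit_det _ _ (hv P),
    rank_mul_eq_left_of_isUnit_det _ _ (by rw [hu]; exact isUnit_one),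
    rank_mul_eq_right_of_isUnit_det _ _ (by rw [hu]; exact isUnit_one),
    diagonal_map (map_zero φ), rank_diagonal, rank_diagonal]
  simp

section Fin
variable [Fintype K] {A : Type*} [Ring A] [Algebra K A]

theorem van {z : A} (hz : z ^ Fintype.card K = z) {P : K[X]} (hP : ∀ a, P.eval a = 0) :
    aeval z P = 0 := by
  classical
  have h1 : (X ^ Fintype.card K - X : K[X]).Monic :=
    monic_X_pow_sub (by rw [degree_X]; exact_mod_cast Fintype.one_lt_card)
  have h2 := prod_multiset_X_sub_C_of_monic_of_roots_card_eq h1 (by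
    rw [FiniteField.roots_X_pow_card_sub_X, FiniteField.X_pow_card_sub_X_natDegree_eq K
      Fintype.one_lt_card]; rfl)
  rw [FiniteField.roots_X_pow_card_sub_X] at h2
  obtain ⟨R, rfl⟩ : (X ^ Fintype.card K - X : K[X]) ∣ P := by
    rw [← h2]
    exact Finset.prod_dvd_of_coprime (fun a _ b _ h => pairwise_coprime_X_sub_C
      (s := id) Function.injective_id h) fun a _ => dvd_iff_isRoot.2 (hP a)
  simp [hz]

/-- the projector on the `a`-eigenspace. -/
def pr (a : K) (z : A) : A := 1 - (z - algebraMap K A a) ^ (Fintype.card K - 1)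

theorem pr_eq (a : K) (z : A) : pr a z = aeval z (1 - (X - C a) ^ (Fintype.card K - 1)) := by
  simp [pr]

theorem ev [DecidableEq K] (a b : K) :
    1 - (b - a) ^ (Fintype.card K - 1) = if b = a then 1 else 0 := by
  split_ifs with h
  · rw [h, sub_self, zero_pow (Nat.sub_ne_zero_of_lt Fintype.one_lt_card), sub_zero]
  · rw [FiniteField.pow_card_sub_one_eq_one _ (sub_ne_zero.2 h), sub_self]

theorem pr_coi {z : A} (hz : z ^ Fintype.card K = z) :
    CompleteOrthogonalIdempotents fun a : K => pr a z := by
  classical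
  refine CompleteOrthogonalIdempotents.iff_ortho_complete.2 ⟨fun a b h => ?_, ?_⟩
  · show pr a z * pr b z = 0
    rw [pr_eq, pr_eq, ← map_mul]
    refine van hz fun c => ?_
    simp only [eval_mul, eval_sub, eval_one, eval_pow, eval_X, eval_C, ev]
    by_cases h1 : c = a
    · rw [if_neg (fun h2 : c = b => h (h1.symm.trans h2)), mul_zero]
    · rw [if_neg h1, zero_mul]
  · simp only [pr_eq]
    rw [← map_sum, ← sub_eq_zero, ← map_one (aeval z : K[X] →ₐ[K] A), ← map_sub]
    refine van hz fun c => ?_
    simp only [eval_finsetSum, eval_sub, eval_one, eval_pow, eval_X, eval_C, ev]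
    simp

theorem mul_pr {z : A} (hz : z ^ Fintype.card K = z) (a : K) : z * pr a z = a • pr a z := by
  classical
  have := van hz (P := (X - C a) * (1 - (X - C a) ^ (Fintype.card K - 1))) fun c => by
    simp only [eval_mul, eval_sub, eval_one, eval_pow, eval_X, eval_C, ev]
    split_ifs with h <;> simp [*]
  rw [map_mul, ← pr_eq, map_sub, aeval_X, aeval_C, sub_mul, sub_eq_zero] at this
  rw [this, Algebra.smul_def]

theorem eq_sum {z : A} (hz : z ^ Fintype.card K = z) : z = ∑ a : K, a • pr a z := by
  simp only [← mul_pr hz]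
  rw [← Finset.mul_sum, (pr_coi hz).complete, mul_one]

theorem comm_pr {g z : A} (h : Commute g z) (a : K) : Commute g (pr a z) :=
  (Commute.one_right g).sub_right ((h.sub_right (Algebra.commutes a g).symm).pow_right _)

theorem comm_pr_pr {g z : A} (h : Commute g z) (a b : K) : Commute (pr a g) (pr b z) :=
  (comm_pr (comm_pr h b).symm a).symm

/-- products of two commuting complete families. -/
theorem pr_pr_coi {g z : A} (h : Commute g z) (hg : g ^ Fintype.card K = g)
    (hz : z ^ Fintype.card K = z) :
    CompleteOrthogonalIdempotents fun x : K × K => pr x.1 g * pr x.2 z := by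
  refine CompleteOrthogonalIdempotents.iff_ortho_complete.2 ⟨fun x y hxy => ?_, ?_⟩
  · show pr x.1 g * pr x.2 z * (pr y.1 g * pr y.2 z) = 0
    rw [(comm_pr_pr h y.1 x.2).symm.mul_mul_mul_comm]
    by_cases h1 : x.1 = y.1
    · rw [(pr_coi hz).ortho (fun h2 : x.2 = y.2 => hxy (Prod.ext h1 h2)), mul_zero]
    · rw [(pr_coi hg).ortho h1, zero_mul]
  · rw [Fintype.sum_prod_type]
    show ∑ a : K, ∑ b : K, pr a g * pr b z = 1
    rw [← Finset.sum_mul_sum, (pr_coi hg).complete, (pr_coi hz).complete, mul_one]

/-- `g` on the image of a commuting idempotent. -/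
theorem det_idem_pr {g E : Matrix n n K} (h : Commute g E) (hE : E * E = E)
    (hg : g ^ Fintype.card K = g) : (g * E + 1 - E).det = ∏ a : K, a ^ (pr a g * E).rank := by
  have hc := pr_coi hg
  have ho : OrthogonalIdempotents fun a : K => pr a g * E := ⟨fun a => by
      show pr a g * E * (pr a g * E) = _
      rw [(comm_pr h.symm a).mul_mul_mul_comm, (hc.idem a).eq, hE], fun a b hab => by
      show pr a g * E * (pr b g * E) = 0
      rw [(comm_pr h.symm b).mul_mul_mul_comm, hc.ortho hab, zero_mul]⟩
  rw [← det_sum' ho fun a => a, ← Finset.sum_mul, hc.complete, one_mul]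
  simp only [← Matrix.smul_mul]
  rw [← Finset.sum_mul, ← eq_sum hg]

theorem det_pr {g z : Matrix n n K} (h : Commute g z) (hg : g ^ Fintype.card K = g)
    (hz : z ^ Fintype.card K = z) (b : K) :
    (g * pr b z + 1 - pr b z).det = ∏ a : K, a ^ (pr a g * pr b z).rank :=
  det_idem_pr (comm_pr h b) ((pr_coi hz).idem b).eq hg

theorem trace_pr_pr {g z : Matrix n n K} (h : Commute g z) (hg : g ^ Fintype.card K = g)
    (hz : z ^ Fintype.card K = z) (c : K → K → K) :
    (∑ a, ∑ b, c a b • (pr a g * pr b z)).trace =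
      ∑ a, ∑ b, c a b * (pr a g * pr b z).rank := by
  rw [Matrix.trace_sum]
  exact Finset.sum_congr rfl fun a _ =>
    trace_sum (fun b => ((pr_pr_coi h hg hz).idem (a, b)).eq) _

theorem eq_sum_pr_pr {g z : A} (hg : g ^ Fintype.card K = g) (hz : z ^ Fintype.card K = z) :
    z = ∑ a : K, ∑ b : K, b • (pr a g * pr b z) := by
  simp only [← mul_smul_comm, ← Finset.mul_sum]
  rw [← eq_sum hz, ← Finset.sum_mul, (pr_coi hg).complete, one_mul]

/-- Projectors and field endomorphisms. -/
theorem pr_map (φ : K →+* K) (a : K) (z : Matrix n n K) : (pr a z).map φ = pr (φ a) (z.map φ) := by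
  have : φ.mapMatrix (algebraMap K (Matrix n n K) a) = algebraMap K _ (φ a) := by
    ext i j
    simp [Matrix.algebraMap_matrix_apply, apply_ite φ]
  rw [← RingHom.mapMatrix_apply, ← RingHom.mapMatrix_apply, pr, pr, map_sub, map_one, map_pow,
    map_sub, this]

theorem rank_pr_pr (φ : K →+* K) {g z : Matrix n n K} (hg : g.map φ = g) (hz : z.map φ = z)
    (a b : K) : (pr (φ a) g * pr (φ b) z).rank = (pr a g * pr b z).rank := by
  rw [← rank_map φ (pr a g * pr b z), Matrix.map_mul, pr_map, pr_map, hg, hz]

end Fin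

end CL.KGV.IdM
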