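import Mathlib

/-!
Logarithmic weights on a cyclic group of order `p ^ N - 1` and the re-indexing that exchanges the
two arguments of the pairing.
-/

set_option autoImplicit false

namespace CL.KGV.Jx

open Finset Function

theorem prod_orb {X D : Type*} [Fintype X] [CommMonoid D] (φ : Equiv.Perm X) (f : X → D) (d : X → ℕ)
    (hd : ∀ x, d (φ x) = d x) :
    ∏ x, f x ^ d x = ∏ᶠ O : MulAction.orbitRel.Quotient (Subgroup.zpowers φ) X,
      (∏ k ∈ range (minimalPeriod φ O.out), f ((φ ^ k) O.out)) ^ d O.out := by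
  classical
  have : Fintype (MulAction.orbitRel.Quotient (Subgroup.zpowers φ) X) := Fintype.ofFinite _
  have hdk : ∀ (k : ℕ) x, d ((φ ^ k) x) = d x := fun k x => by
    induction k with
    | zero => rfl
    | succ k ih => rw [pow_succ', Equiv.Perm.mul_apply, hd, ih]
  rw [finprod_eq_prod_of_fintype, ← prod_fiberwise univ
    (fun x => (Quotient.mk _ x : MulAction.orbitRel.Quotient (Subgroup.zpowers φ) X))]
  refine prod_congr rfl fun O _ => ?_
  rw [← prod_pow]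
  symm
  refine prod_bij (fun k _ => (φ ^ k) O.out) (fun k _ => ?_) (fun a ha b hb h => ?_) (fun y hy => ?_)
    (fun k _ => by rw [hdk])
  · rw [mem_filter]
    refine ⟨mem_univ _, ?_⟩
    conv_rhs => rw [← Quotient.out_eq O]
    exact Quotient.sound ⟨⟨φ ^ k, Subgroup.npow_mem_zpowers φ k⟩, rfl⟩
  · refine iterate_injOn_Iio_minimalPeriod (f := φ) (x := O.out) (mem_range.1 ha) (mem_range.1 hb) ?_
    simpa only [Equiv.Perm.coe_pow] using h
  · rw [mem_filter] at hy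
    obtain ⟨⟨g, hg⟩, hg'⟩ : y ∈ MulAction.orbit (Subgroup.zpowers φ) O.out :=
      Quotient.exact (hy.2.trans (Quotient.out_eq O).symm)
    obtain ⟨k, rfl⟩ := (mem_powers_iff_mem_zpowers.2 hg : g ∈ Submonoid.powers φ)
    have hp : O.out ∈ periodicPts φ := φ.injective.mem_periodicPts _
    refine ⟨k % minimalPeriod φ O.out, mem_range.2 (Nat.mod_lt _ (minimalPeriod_pos_of_mem_periodicPts hp)), ?_⟩
    rw [Equiv.Perm.coe_pow, iterate_mod_minimalPeriod_eq, ← Equiv.Perm.coe_pow]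
    exact hg'

variable {C : Type*} [CommGroup C] {p N : ℕ}

theorem pw_add (a : C) (i j : ℕ) : (a ^ p ^ i) ^ p ^ j = a ^ p ^ (i + j) := by rw [← pow_mul, ← pow_add]

theorem pw_mul {a : C} {r : ℕ} (h : a ^ p ^ r = a) (t : ℕ) : a ^ p ^ (r * t) = a := by
  induction t with
  | zero => simp
  | succ t ih => rw [Nat.mul_succ, ← pw_add, ih, h]

theorem root {ω : C} {M m : ℕ} (hω : orderOf ω = M) (hM : 0 < M) (hg : ∀ x, x ∈ Submonoid.powers ω)
    (hm : m ∣ M) {a : C} (ha : a ^ m = 1) : ∃ A : ℕ, a = (ω ^ (M / m)) ^ A := by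
  obtain ⟨n, rfl⟩ := hg a
  obtain ⟨t, rfl⟩ := hm
  have hm0 : 0 < m := Nat.pos_of_mul_pos_right hM |> fun h => by
    rcases Nat.eq_zero_or_pos m with h | h
    · simp [h] at hM
    · exact h
  have : m * t ∣ n * m := by rw [← hω, orderOf_dvd_iff_pow_eq_one, pow_mul]; exact ha
  rw [mul_comm n] at this
  obtain ⟨A, rfl⟩ := Nat.dvd_of_mul_dvd_mul_left hm0 this
  exact ⟨A, by rw [Nat.mul_div_cancel_left _ hm0, ← pow_mul]⟩

theorem geo (hp : 2 ≤ p) (d t : ℕ) : (∑ k ∈ range t, p ^ (d * k)) * (p ^ d - 1) = p ^ (d * t) - 1 := by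
  have h1 : 1 ≤ p ^ d := Nat.one_le_pow _ _ (by omega)
  have := Nat.geomSum_eq (m := p ^ d) (n := t)
  simp only [pow_mul]
  have h2 := geom_sum_mul_add (p ^ d - 1) t
  rw [Nat.sub_add_cancel h1] at h2
  omega

theorem shift {F : ℕ → C} {r : ℕ} (h : ∀ k, F (k + r) = F k) (s : ℕ) :
    ∏ k ∈ range r, F (k + s) = ∏ k ∈ range r, F k := by
  induction s with
  | zero => rfl
  | succ s ih =>
    have h1 := prod_range_succ (fun k => F (k + s)) r
    have h2 := prod_range_succ' (fun k => F (k + s)) r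
    rw [h1, zero_add, add_comm r s, h, ih] at h2
    rw [mul_right_cancel h2]
    exact prod_congr rfl fun k _ => by congr 1; omega

theorem prod_dvd (f : ℕ → C) {d : ℕ} (hd : 0 < d) (t l : ℕ) :
    ∏ k ∈ range (d * t), f k ^ (if d ∣ k then l else 0) = ∏ i ∈ range t, f (d * i) ^ l := by
  have : ∀ k, f k ^ (if d ∣ k then l else 0) = if d ∣ k then f k ^ l else 1 := fun k => by
    split_ifs <;> simp
  simp only [this]
  rw [← prod_filter]
  symm
  refine prod_bij (fun i _ => d * i) (fun i hi => ?_) (fun a _ b _ h => Nat.eq_of_mul_eq_mul_left hd h)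
    (fun k hk => ?_) (fun _ _ => rfl)
  · exact mem_filter.2 ⟨mem_range.2 (Nat.mul_lt_mul_of_pos_left (mem_range.1 hi) hd), dvd_mul_right _ _⟩
  · obtain ⟨h1, i, rfl⟩ := mem_filter.1 hk
    exact ⟨i, mem_range.2 (Nat.lt_of_mul_lt_mul_left (mem_range.1 h1)), rfl⟩

theorem key (hp : 2 ≤ p) {ω : C} {M r d l s A B : ℕ} {w : C → ℕ} (hr : p ^ r - 1 ∣ M) (hω : ω ^ M = 1)
    (hr0 : 0 < r) (hd : d ∣ r) {η : C} (hη : η = ω ^ (M / (p ^ r - 1)))
    (hl : (η ^ B) ^ p ^ s = (ω ^ (M / (p ^ d - 1))) ^ l)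
    (hw : ∀ k, w (((η ^ B) ^ p ^ s) ^ p ^ k) = if d ∣ k then l else 0) :
    ∏ k ∈ range r, ((η ^ A) ^ p ^ k) ^ w ((η ^ B) ^ p ^ k) = η ^ (A * B * p ^ (2 * s)) := by
  have h1 : 1 ≤ p ^ r := Nat.one_le_pow _ _ (by omega)
  have hηr : η ^ p ^ r = η := by
    rw [← Nat.sub_add_cancel h1, pow_succ, hη, ← pow_mul, Nat.div_mul_cancel hr, hω, one_mul]
  have hper : ∀ X k : ℕ, (η ^ X) ^ p ^ (k + r) = (η ^ X) ^ p ^ k := fun X k => by
    rw [add_comm, ← pw_add, ← pow_mul η X, mul_comm X, pow_mul, hηr]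
  rw [← shift (F := fun k => ((η ^ A) ^ p ^ k) ^ w ((η ^ B) ^ p ^ k)) (fun k => by simp only [hper]) s]
  obtain ⟨t, rfl⟩ := hd
  have hd0 : 0 < d := Nat.pos_of_mul_pos_right hr0 |> fun _ => Nat.pos_of_ne_zero (by rintro rfl; simp at hr0)
  have h2 : ∀ k, ((η ^ A) ^ p ^ (k + s)) ^ w ((η ^ B) ^ p ^ (k + s)) =
      (((η ^ A) ^ p ^ s) ^ p ^ k) ^ (if d ∣ k then l else 0) := fun k => by
    rw [← hw, pw_add, pw_add, add_comm s]
  simp only [h2]
  rw [prod_dvd (fun k => ((η ^ A) ^ p ^ s) ^ p ^ k) hd0, prod_pow, prod_pow_eq_pow_sum]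
  have hg := geo hp d t
  have hd1 : 0 < p ^ d - 1 := by
    have := Nat.one_lt_pow hd0.ne' (show 1 < p by omega); omega
  have hr1 : 0 < p ^ (d * t) - 1 := by
    have := Nat.one_lt_pow hr0.ne' (show 1 < p by omega); omega
  have h3 : M / (p ^ (d * t) - 1) * ∑ k ∈ range t, p ^ (d * k) = M / (p ^ d - 1) := by
    obtain ⟨e, rfl⟩ := hr
    rw [Nat.mul_div_cancel_left _ hr1, ← hg, mul_comm (∑ k ∈ range t, p ^ (d * k)), mul_assoc,
      Nat.mul_div_cancel_left _ hd1, mul_comm]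
  have h4 : (η ^ ∑ k ∈ range t, p ^ (d * k)) ^ l = (η ^ B) ^ p ^ s := by
    rw [hl, hη, ← pow_mul ω, h3]
  calc _ = ((η ^ ∑ k ∈ range t, p ^ (d * k)) ^ l) ^ (A * p ^ s) := by
        simp only [← pow_mul]; congr 1; ring
    _ = _ := by rw [h4]; simp only [← pow_mul]; congr 1; ring

theorem ex [Fintype C] [IsCyclic C] (hp : 2 ≤ p) (hN : 0 < N) (hC : Fintype.card C = p ^ N - 1) :
    ∃ (w : C → ℕ) (j : C → C → ℕ), (∀ a b, j (a ^ p) (b ^ p) = j a b) ∧
      (∀ a, Injective fun b => b ^ p ^ j a b) ∧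
      (∀ d : C → C → ℕ, (∀ a b, d (a ^ p) (b ^ p) = d a b) →
        ∏ a, ∏ b, a ^ (w b * d a b) = ∏ a, ∏ b, (b ^ p ^ j a b) ^ (w a * d a b)) ∧ w 1 = 0 ∧
      ∀ a, ∃ i b, (∀ k, a ^ p ^ k = a → b ^ p ^ k = b) ∧ b ^ w (a ^ p ^ i) = a ^ p ^ i ∧
        ∀ k, a ^ p ^ k ≠ a ^ p ^ i → w (a ^ p ^ k) = 0 := by
  classical
  obtain ⟨ω, hg⟩ := IsCyclic.exists_monoid_generator (α := C)
  set M := p ^ N - 1 with hM
  have hM0 : 0 < M := hC ▸ Fintype.card_pos
  have hω : orderOf ω = M := by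
    rw [← hC, ← Nat.card_eq_fintype_card]
    exact orderOf_eq_card_of_forall_mem_powers hg
  have hωM : ω ^ M = 1 := hω ▸ pow_orderOf_eq_one ω
  have h1 : ∀ r, p ^ r - 1 + 1 = p ^ r := fun r => Nat.sub_add_cancel (Nat.one_le_pow _ _ (by omega))
  have hN' : ∀ a : C, a ^ p ^ N = a := fun a => by
    rw [← h1, pow_succ, ← hM, ← hC, pow_card_eq_one, one_mul]
  have hinj : ∀ k, Injective fun a : C => a ^ p ^ k := fun k a b h => by
    have h' : a ^ p ^ k = b ^ p ^ k := h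
    have e : k + (N - 1) * k = N * k := by
      obtain ⟨n, rfl⟩ : ∃ n, N = n + 1 := ⟨N - 1, by omega⟩
      simp only [Nat.add_sub_cancel]; ring
    rw [← pw_mul (hN' a) k, ← pw_mul (hN' b) k, ← e, ← pw_add, ← pw_add, h']
  let φ : Equiv.Perm C := Equiv.ofBijective (fun a => a ^ p)
    (Finite.injective_iff_bijective.1 (by simpa using hinj 1))
  have hφ : ∀ k a, (φ ^ k) a = a ^ p ^ k := fun k a => by
    induction k with
    | zero => simp
    | succ k ih => rw [pow_succ', Equiv.Perm.mul_apply, ih, ← pw_add, pow_one]; rfl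
  let Φ : Equiv.Perm (C × C) := φ.prodCongr φ
  have hΦ : ∀ k x, (Φ ^ k) x = (x.1 ^ p ^ k, x.2 ^ p ^ k) := fun k x => by
    induction k with
    | zero => simp
    | succ k ih => rw [pow_succ', Equiv.Perm.mul_apply, ih, ← pw_add, ← pw_add, pow_one]; rfl
  have hout : ∀ {X : Type _} [Finite X] (ψ : Equiv.Perm X), ∃ R : X → X, (∀ x, R (ψ x) = R x) ∧
      (∀ x, ∃ k : ℕ, (ψ ^ k) x = R x) ∧
      ∀ O : MulAction.orbitRel.Quotient (Subgroup.zpowers ψ) X, R O.out = O.out := fun {X} _ ψ => by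
    refine ⟨fun x => (Quotient.mk (MulAction.orbitRel (Subgroup.zpowers ψ) X) x).out, fun x => ?_,
      fun x => ?_, fun O => by simp only [Quotient.out_eq]⟩
    · exact congrArg Quotient.out (Quotient.sound ⟨⟨ψ, Subgroup.mem_zpowers ψ⟩, rfl⟩)
    · obtain ⟨⟨g, hg⟩, hg'⟩ : _ ∈ MulAction.orbit (Subgroup.zpowers ψ) x :=
        Quotient.exact (Quotient.out_eq (Quotient.mk (MulAction.orbitRel (Subgroup.zpowers ψ) X) x))
      obtain ⟨k, rfl⟩ := (mem_powers_iff_mem_zpowers.2 hg : g ∈ Submonoid.powers ψ)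
      exact ⟨k, hg'⟩
  obtain ⟨rep, hrep, hσ, -⟩ := hout φ
  obtain ⟨R, hR, hRk, hRo⟩ := hout Φ
  choose σ hσ using hσ
  simp only [hφ] at hσ
  have hrepk : ∀ k a, rep (a ^ p ^ k) = rep a := fun k a => by
    induction k with
    | zero => simp
    | succ k ih => rw [← pw_add, pow_one]; exact (hrep _).trans ih
  have hRk' : ∀ k x, R ((Φ ^ k) x) = R x := fun k x => by
    induction k with
    | zero => rfl
    | succ k ih => rw [pow_succ', Equiv.Perm.mul_apply, hR, ih]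
  have hdeg : ∀ a k, a ^ p ^ k = a ↔ minimalPeriod φ a ∣ k := fun a k => by
    rw [← isPeriodicPt_iff_minimalPeriod_dvd, IsPeriodicPt, IsFixedPt, ← Equiv.Perm.coe_pow, hφ]
  have hdv : ∀ {r}, r ∣ N → p ^ r - 1 ∣ M := by
    rintro r ⟨t, ht⟩
    rw [hM, ht, ← geo hp]; exact dvd_mul_left _ _
  have hroot : ∀ {r} (a : C), r ∣ N → a ^ p ^ r = a → ∃ A : ℕ, a = (ω ^ (M / (p ^ r - 1))) ^ A :=
    fun {r} a hr ha => root hω hM0 hg (hdv hr) (by
      rw [← h1, pow_succ] at ha; exact mul_eq_right.1 ha)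
  have hl : ∀ a : C, ∃ l : ℕ, a = (ω ^ (M / (p ^ minimalPeriod φ a - 1))) ^ l ∧ (a = 1 → l = 0) := fun a => by
    by_cases h : a = 1
    · exact ⟨0, by rw [pow_zero, h], fun _ => rfl⟩
    · obtain ⟨A, hA⟩ := hroot a ((hdeg a N).1 (hN' a)) ((hdeg a _).2 dvd_rfl)
      exact ⟨A, hA, fun h' => absurd h' h⟩
  choose l hl hl1 using hl
  have hrr : ∀ a, rep (rep a) = rep a := fun a => by conv_lhs => rw [← hσ a, hrepk]
  have hw : ∀ a k, (if rep a ^ p ^ k = rep (rep a ^ p ^ k) then l (rep a ^ p ^ k) else 0) =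
      if minimalPeriod φ (rep a) ∣ k then l (rep a) else 0 := fun a k => by
    rw [hrepk, hrr]
    by_cases h : rep a ^ p ^ k = rep a
    · rw [if_pos h, if_pos ((hdeg _ _).1 h), h]
    · rw [if_neg h, if_neg (fun h' => h ((hdeg _ _).2 h'))]
  refine ⟨fun a => if a = rep a then l a else 0,
    fun a b => 2 * σ (R (a, b)).2 + 2 * (N - 1) * σ (R (a, b)).1, fun a b => ?_, fun a b b' h => ?_,
    fun d hd => ?_, by simp [hl1], fun a => ?_⟩
  · have : R (a ^ p, b ^ p) = R (a, b) := hR (a, b)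
    simp only [this]
  · obtain ⟨k, hk⟩ := hRk (a, b)
    obtain ⟨k', hk'⟩ := hRk (a, b')
    have hRR : R (a, b') = R (a, b) := by
      beta_reduce at h
      rw [← hk, ← hk', hΦ, hΦ] at h
      dsimp only at h
      obtain ⟨n, hn⟩ : ∃ n, N = n + 1 := ⟨N - 1, by omega⟩
      have hn' : N - 1 = n := by omega
      rw [hn'] at h
      have ha : a ^ p ^ (k + σ (a ^ p ^ k)) = a ^ p ^ (k' + σ (a ^ p ^ k')) := by
        rw [← pw_add, ← pw_add, hσ, hσ, hrepk, hrepk]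
      have hb : b ^ p ^ (k + σ (b ^ p ^ k)) = b' ^ p ^ (k' + σ (b' ^ p ^ k')) := by
        rw [← pw_add, ← pw_add, hσ, hσ, hrepk, hrepk, ← hrepk _ b, h, hrepk]
      generalize σ (a ^ p ^ k) = sa at *
      generalize σ (a ^ p ^ k') = sa' at *
      generalize σ (b ^ p ^ k) = sb at *
      generalize σ (b' ^ p ^ k') = sb' at *
      have ha1 : a ^ p ^ (k + sa + n * (k' + sa')) = a := by
        rw [← pw_add, ha, pw_add, show k' + sa' + n * (k' + sa') = N * (k' + sa') by rw [hn]; ring,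
          pw_mul (hN' a)]
      have ha2 : a ^ p ^ (2 * (k + sa + n * (k' + sa'))) = a := by rw [mul_comm, pw_mul ha1]
      have hb2 : b ^ p ^ (2 * (k + sa + n * (k' + sa'))) = b' := by
        apply hinj (2 * sb + 2 * n * sa + 2 * (k' + sb'))
        beta_reduce
        calc _ = ((b ^ p ^ (N * (2 * sa + 2 * k'))) ^ p ^ (k + sb)) ^ p ^ (k + sb + (2 * sb' + 2 * n * sa')) := by
              rw [pw_add, pw_add, pw_add, hn]; congr 2; ring
          _ = (b' ^ p ^ (2 * sb' + 2 * n * sa')) ^ p ^ (k + sb + (k' + sb')) := by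
              rw [pw_mul (hN' b), hb, pw_add, pw_add]; congr 2; ring
          _ = (b ^ p ^ (k + sb)) ^ p ^ (2 * sb + 2 * n * sa + (k' + sb')) := by
              rw [← h, pw_add, pw_add]; congr 2; ring
          _ = _ := by rw [hb, pw_add]; congr 2; ring
      rw [← hRk' (2 * (k + sa + n * (k' + sa'))) (a, b), hΦ, ha2, hb2]
    beta_reduce at h
    rw [hRR] at h
    exact hinj _ h
  · have hd' : ∀ x : C × C, d (Φ x).1 (Φ x).2 = d x.1 x.2 := fun x => hd x.1 x.2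
    simp only [pow_mul _ _ (d _ _)]
    rw [← Fintype.prod_prod_type', ← Fintype.prod_prod_type', prod_orb Φ _ _ hd', prod_orb Φ _ _ hd']
    refine finprod_congr fun O => ?_
    congr 1
    have hO := hRo O
    generalize O.out = x at hO
    obtain ⟨a, b⟩ := x
    have hpt : IsPeriodicPt Φ N (a, b) := by
      rw [IsPeriodicPt, IsFixedPt, ← Equiv.Perm.coe_pow, hΦ, hN', hN']
    have hrN := hpt.minimalPeriod_dvd
    have hr0 := hpt.minimalPeriod_pos hN
    have hfix := isPeriodicPt_minimalPeriod Φ (a, b)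
    rw [IsPeriodicPt, IsFixedPt, ← Equiv.Perm.coe_pow, hΦ, Prod.mk.injEq] at hfix
    generalize minimalPeriod Φ (a, b) = r at *
    obtain ⟨A, hA⟩ := hroot a hrN hfix.1
    obtain ⟨B, hB⟩ := hroot b hrN hfix.2
    have hdr : ∀ c : C, c ^ p ^ r = c → minimalPeriod φ (rep c) ∣ r := fun c hc =>
      (hdeg _ _).1 (by rw [← hσ c, pw_add, add_comm, ← pw_add, hc])
    have e1 : ∀ k : ℕ, R (((Φ ^ k) (a, b)).1, ((Φ ^ k) (a, b)).2) = (a, b) := fun k => (hRk' k _).trans hO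
    simp only [e1]
    simp only [hΦ]
    obtain ⟨η, hη⟩ : ∃ η, η = ω ^ (M / (p ^ r - 1)) := ⟨_, rfl⟩
    rw [← hη] at hA hB
    have k1 := key (w := fun a => if a = rep a then l a else 0) (A := A) (B := B) (s := σ b) (l := l (rep b))
      hp (hdv hrN) hωM hr0 (hdr b hfix.2) hη (by rw [← hB, hσ, ← hl]) (fun k => by rw [← hB, hσ]; exact hw b k)
    have k2 := key (w := fun a => if a = rep a then l a else 0) (A := B * p ^ (2 * σ b + 2 * (N - 1) * σ a))
      (B := A) (s := σ a) (l := l (rep a))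
      hp (hdv hrN) hωM hr0 (hdr a hfix.1) hη (by rw [← hA, hσ, ← hl]) (fun k => by rw [← hA, hσ]; exact hw a k)
    rw [← hA, ← hB] at k1
    rw [← hA, pow_mul η B, ← hB] at k2
    rw [k1]
    refine Eq.trans ?_ (k2.symm.trans (prod_congr rfl fun k _ => by rw [pw_add, pw_add, add_comm k]))
    obtain ⟨n, hn⟩ : ∃ n, N = n + 1 := ⟨N - 1, by omega⟩
    conv_lhs => rw [← pw_mul (hN' η) (2 * σ a)]
    rw [← pow_mul, hn, Nat.add_sub_cancel]
    congr 1
    ring
  · refine ⟨σ a, ω ^ (M / (p ^ minimalPeriod φ (rep a) - 1)), fun k hk => ?_, ?_, fun k hk => ?_⟩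
    · have : rep a ^ p ^ k = rep a := by rw [← hσ a, pw_add, add_comm, ← pw_add, hk]
      obtain ⟨t, rfl⟩ := (hdeg _ _).1 this
      refine pw_mul ?_ t
      have e := Nat.div_mul_cancel (hdv ((hdeg (rep a) N).1 (hN' _)))
      generalize M / (p ^ minimalPeriod φ (rep a) - 1) = z at e ⊢
      rw [← h1, pow_succ, ← pow_mul, e, hωM, one_mul]
    · rw [hσ]
      simp only [if_pos (hrr a).symm]
      rw [← hl]
    · rw [hσ] at hk
      exact if_neg (by rwa [hrepk])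

end CL.KGV.Jx
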