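import Mathlib

/-!
# Gauss sums over the units of a finite regular ring: the recursion
-/

set_option autoImplicit false

namespace CL.K86
open Finset
open scoped Classical

variable {p : ℕ} [Fact p.Prime] {C : Type*} [Ring C] [Fintype C]

/-- a symmetric non-degenerate trace -/
structure Tr (τ : C →+ ZMod p) : Prop where
  symm : ∀ x y, τ (x * y) = τ (y * x)
  nd : ∀ c, c ≠ 0 → ∃ y, τ (c * y) ≠ 0

/-- a character of the units extended by zero -/
structure Ch (θ : C → ℂ) : Prop where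
  mul : ∀ x y, θ (x * y) = θ x * θ y
  nu : ∀ x, ¬ IsUnit x → θ x = 0
  sq : ∀ t, t * t = 0 → θ (1 + t) = 1

/-- the additive group `e C f` -/
def Hm (e f : C) : AddSubgroup C where
  carrier := {x | e * x = x ∧ x * f = x}
  add_mem' := fun {a b} ha hb => ⟨by rw [mul_add, ha.1, hb.1], by rw [add_mul, ha.2, hb.2]⟩
  zero_mem' := ⟨mul_zero _, zero_mul _⟩
  neg_mem' := fun {a} ha => ⟨by rw [mul_neg, ha.1], by rw [neg_mul, ha.2]⟩

omit [Fintype C] in
theorem mem_Hm {e f x : C} : x ∈ Hm e f ↔ e * x = x ∧ x * f = x := Iff.rfl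

omit [Fintype C] in
theorem mk_mem {e f : C} (he : e * e = e) (hf : f * f = f) (y : C) : e * y * f ∈ Hm e f :=
  ⟨by rw [← mul_assoc, ← mul_assoc, he], by rw [mul_assoc, hf]⟩

/-- the Gauss sum of the corner ring -/
noncomputable def Gs (ψ : AddChar (ZMod p) ℂ) (τ : C →+ ZMod p) (θ : C → ℂ) (e : C) : ℂ :=
  ∑ x : Hm e e, ψ (τ x) * θ (x + 1 - e)

theorem psi_ne {ψ : AddChar (ZMod p) ℂ} (hψ : ψ ≠ 1) {k : ZMod p} (hk : k ≠ 0) : ψ k ≠ 1 := by
  intro h
  apply hψ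
  ext a
  have : a = (a * k⁻¹).val • k := by rw [nsmul_eq_mul, ZMod.natCast_zmod_val, mul_assoc, inv_mul_cancel₀ hk, mul_one]
  rw [this, AddChar.map_nsmul_eq_pow, h, one_pow, AddChar.one_apply]

theorem sum_char {ψ : AddChar (ZMod p) ℂ} (hψ : ψ ≠ 1) {A : Type*} [AddCommGroup A] [Fintype A] (l : A →+ ZMod p) :
    ∑ a, ψ (l a) = if l = 0 then (Fintype.card A : ℂ) else 0 := by
  split_ifs with h
  · simp [h]
  · obtain ⟨a, ha⟩ : ∃ a, l a ≠ 0 := by
      by_contra hh; push_neg at hh; exact h (AddMonoidHom.ext hh)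
    refine AddChar.sum_eq_zero_iff_ne_zero (ψ := ψ.compAddMonoidHom l) |>.2 fun e => psi_ne hψ ha ?_
    exact DFunLike.congr_fun e a

variable {ψ : AddChar (ZMod p) ℂ} {τ : C →+ ZMod p} {θ : C → ℂ} {e f : C}

omit [Fintype C] in
theorem tri (hθ : Ch θ) (he : e * e = e) (hf : f * f = f) (hef : e * f = 0) (hfe : f * e = 0)
    {a b d : C} (ha : a ∈ Hm e e) (hb : b ∈ Hm e f) (hd : d ∈ Hm f f) :
    θ (a + b + d + 1 - (e + f)) = θ (a + 1 - e) * θ (d + 1 - f) := by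
  have h1 : b * b = 0 := by rw [← hb.2, mul_assoc, ← hb.1, ← mul_assoc f, ← mul_assoc f, hfe]; simp
  have h2 : d * b = 0 := by rw [← hd.2, ← hb.1, mul_assoc, ← mul_assoc f, hfe]; simp
  have h3 : f * b = 0 := by rw [← hb.1, ← mul_assoc, hfe]; simp
  have h4 : d * a = 0 := by rw [← hd.2, ← ha.1, mul_assoc, ← mul_assoc f, hfe]; simp
  have h5 : f * a = 0 := by rw [← ha.1, ← mul_assoc, hfe]; simp
  have h6 : b * a = 0 := by rw [← hb.2, mul_assoc, h5]; simp
  have h7 : d * e = 0 := by rw [← hd.2, mul_assoc, hfe]; simp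
  have h8 : b * e = 0 := by rw [← hb.2, mul_assoc, hfe]; simp
  have : a + b + d + 1 - (e + f) = (d + 1 - f) * (1 + b) * (a + 1 - e) := by
    simp only [mul_add, add_mul, mul_sub, sub_mul, mul_one, one_mul, h2, h3, h4, h5, h6, h7, h8, hfe, zero_mul]
    abel
  rw [this, hθ.mul, hθ.mul, hθ.sq b h1, mul_one, mul_comm]

theorem step (hψ : ψ ≠ 1) (hτ : Tr τ) (hθ : Ch θ) (he : e * e = e) (hf : f * f = f) (hef : e * f = 0) (hfe : f * e = 0) :
    Gs ψ τ θ (e + f) = Fintype.card (Hm e f) * (Gs ψ τ θ e * Gs ψ τ θ f) := by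
  have hc : (Fintype.card (Hm e f) : ℂ) ≠ 0 := Nat.cast_ne_zero.2 Fintype.card_ne_zero
  have hl : ∀ t ∈ Hm e f, (e + f) * t = t := fun t ht => by
    rw [add_mul, ht.1, ← ht.1, ← mul_assoc f, hfe, zero_mul, add_zero]
  have hr : ∀ t ∈ Hm e f, t * (e + f) = t := fun t ht => by
    rw [mul_add, ht.2, ← ht.2, mul_assoc _ f e, hfe, mul_zero, zero_add]
  have htt : ∀ t ∈ Hm e f, t * t = 0 := fun t ht => by
    rw [← ht.2, mul_assoc, ← ht.1, ← mul_assoc f, ← mul_assoc f, hfe]; simp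
  have h1 : ∀ t : Hm e f, Gs ψ τ θ (e + f) =
      ∑ x : Hm (e + f) (e + f), ψ (τ x) * θ (x + 1 - (e + f)) * ψ (τ (x * t)) := by
    intro t
    let m : Hm e f → Hm (e + f) (e + f) → Hm (e + f) (e + f) := fun t x => ⟨x + x * t,
      by rw [mul_add, ← mul_assoc, x.2.1], by rw [add_mul, x.2.2, mul_assoc, hr _ t.2]⟩
    have hm : ∀ t x, m (-t) (m t x) = x := fun t x => Subtype.ext (by
      show (x : C) + x * t + (x + x * t) * (-t : C) = x
      rw [add_mul, mul_assoc, mul_neg (t : C), htt _ t.2]; simp)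
    have hb : Function.Bijective (m t) :=
      Finite.injective_iff_bijective.1 (Function.LeftInverse.injective (hm t))
    rw [Gs, ← hb.sum_comp]
    refine sum_congr rfl fun x _ => ?_
    have : (x : C) + x * t + 1 - (e + f) = (x + 1 - (e + f)) * (1 + t) := by
      rw [mul_add, mul_one, sub_mul, add_mul, one_mul, hl _ t.2]; abel
    show ψ (τ (x + x * t)) * θ (x + x * t + 1 - (e + f)) = _
    rw [this, hθ.mul, hθ.sq _ (htt _ t.2), map_add, AddChar.map_add_eq_mul]; ring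
  have h2 : ∀ x : C, ∑ t : Hm e f, ψ (τ (x * t)) = if f * x * e = 0 then (Fintype.card (Hm e f) : ℂ) else 0 := by
    intro x
    have := sum_char hψ ((τ.comp (AddMonoidHom.mulLeft x)).comp (Hm e f).subtype)
    refine this.trans (if_congr ⟨fun h => ?_, fun h => ?_⟩ rfl rfl)
    · by_contra hh
      obtain ⟨y, hy⟩ := hτ.nd _ hh
      apply hy
      have := DFunLike.congr_fun h ⟨_, mk_mem he hf y⟩
      rw [mul_assoc, mul_assoc, hτ.symm, mul_assoc]
      exact this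
    · ext t
      show τ (x * t) = 0
      rw [← t.2.2, ← t.2.1, ← mul_assoc, hτ.symm, ← mul_assoc, ← mul_assoc, h, zero_mul, map_zero]
  have h3 : Gs ψ τ θ (e + f) =
      ∑ x : Hm (e + f) (e + f), if f * x * e = 0 then ψ (τ x) * θ (x + 1 - (e + f)) else 0 := by
    apply mul_left_cancel₀ hc
    rw [← nsmul_eq_mul, ← card_univ, ← sum_const, sum_congr rfl fun t _ => h1 t, sum_comm, card_univ, mul_sum]
    refine sum_congr rfl fun x _ => ?_
    rw [← mul_sum, h2]; split_ifs <;> ring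
  rw [h3, ← sum_filter]
  have h4 : ∑ y : Hm e f × Hm e e × Hm f f, (ψ (τ y.2.1) * θ (y.2.1 + 1 - e)) * (ψ (τ y.2.2) * θ (y.2.2 + 1 - f)) =
      Fintype.card (Hm e f) * (Gs ψ τ θ e * Gs ψ τ θ f) := by
    rw [Gs, Gs, sum_mul_sum]
    simp only [Fintype.sum_prod_type, sum_const, card_univ, nsmul_eq_mul]
  rw [← h4]
  symm
  have k1 : ∀ {x y : C} {u v : C}, x ∈ Hm u v → y * u = 0 → y * x = 0 := fun h hy => by
    rw [← h.1, ← mul_assoc, hy, zero_mul]
  have k2 : ∀ {x y : C} {u v : C}, x ∈ Hm u v → v * y = 0 → x * y = 0 := fun h hy => by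
    rw [← h.2, mul_assoc, hy, mul_zero]
  refine sum_bij' (fun y _ => ⟨y.2.1 + y.1 + y.2.2, ?_, ?_⟩)
    (fun x _ => (⟨_, mk_mem he hf x⟩, ⟨_, mk_mem he he x⟩, ⟨_, mk_mem hf hf x⟩)) ?_ (fun _ _ => mem_univ _) ?_ ?_ ?_
  · simp only [mul_add, add_mul, y.1.2.1, y.2.1.2.1, y.2.2.2.1, k1 y.1.2 hfe, k1 y.2.1.2 hfe, k1 y.2.2.2 hef]; abel
  · simp only [mul_add, add_mul, y.1.2.2, y.2.1.2.2, y.2.2.2.2, k2 y.1.2 hfe, k2 y.2.1.2 hef, k2 y.2.2.2 hfe]; abel
  · rintro ⟨b, a, d⟩ -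
    simp only [mem_filter, mem_univ, true_and, mul_add, add_mul, k1 b.2 hfe, k1 a.2 hfe, d.2.1, k2 d.2 hfe, zero_mul,
      add_zero]
  · rintro ⟨b, a, d⟩ -
    refine Prod.ext (Subtype.ext ?_) (Prod.ext (Subtype.ext ?_) (Subtype.ext ?_))
    · simp only [mul_add, add_mul, a.2.1, b.2.1, k1 d.2 hef, k2 a.2 hef, b.2.2, zero_mul, add_zero, zero_add]
    · simp only [mul_add, add_mul, a.2.1, b.2.1, k1 d.2 hef, k2 b.2 hfe, a.2.2, zero_mul, add_zero, zero_add]
    · simp only [mul_add, add_mul, k1 a.2 hfe, k1 b.2 hfe, d.2.1, d.2.2, zero_mul, add_zero, zero_add]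
  · intro x hx
    refine Subtype.ext ?_
    have h0 := (mem_filter.1 hx).2
    show e * x * e + e * x * f + f * x * f = x
    calc e * x * e + e * x * f + f * x * f = (e + f) * x * (e + f) - f * x * e := by noncomm_ring
      _ = x := by rw [h0, x.2.1, x.2.2, sub_zero]
  · rintro ⟨b, a, d⟩ -
    have : τ b = 0 := by rw [← b.2.2, hτ.symm, k1 b.2 hfe, map_zero]
    show _ = ψ (τ (a + b + d)) * θ (a + b + d + 1 - (e + f))
    rw [tri hθ he hf hef hfe a.2 b.2 d.2, map_add τ, map_add τ, this, add_zero, AddChar.map_add_eq_mul]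
    show ψ (τ a) * θ (a + 1 - e) * (ψ (τ d) * θ (d + 1 - f)) = _
    ring

end CL.K86
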