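import Cfsg.Agent.KGV.K86a

/-!
# Gauss sums over the units of a finite regular ring: primitive idempotents and the induction
-/

set_option autoImplicit false

namespace CL.K86
open Finset
open scoped Classical

variable {p : ℕ} [Fact p.Prime] {C : Type*} [Ring C] [Fintype C]
variable {ψ : AddChar (ZMod p) ℂ} {τ : C →+ ZMod p} {θ : C → ℂ} {e f : C}

/-- primitive idempotents -/
structure Prim (e : C) : Prop where
  idem : e * e = e
  ne : e ≠ 0
  unit : ∀ x ∈ Hm e e, x ≠ 0 → IsUnit (x + 1 - e)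

/-- `θ` is trivial on the units of the corner -/
def Triv (θ : C → ℂ) (e : C) : Prop := ∀ x ∈ Hm e e, IsUnit (x + 1 - e) → θ (x + 1 - e) = 1

omit [Fintype C] in
theorem cmul (he : e * e = e) {x y : C} (hx : x ∈ Hm e e) (hy : y ∈ Hm e e) :
    (x + 1 - e) * (y + 1 - e) = x * y + 1 - e := by
  simp only [mul_add, add_mul, mul_sub, sub_mul, mul_one, one_mul, he, hx.2, hy.1]; abel

omit [Fintype C] in
theorem Prim.nu (h : Prim e) : ¬ IsUnit (0 + 1 - e) := fun hu => h.ne (by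
  have : (0 + 1 - e) * e = 0 := by rw [sub_mul, zero_add, one_mul, h.idem, sub_self]
  exact (hu.mul_right_eq_zero).1 this)

omit [Fintype C] in
theorem Prim.cancel (h : Prim e) {x y : C} (hx : x ∈ Hm e e) (hy : y ∈ Hm e e) (h0 : y ≠ 0) (hxy : x * y = 0) : x = 0 := by
  have : x * (y + 1 - e) = 0 := by rw [mul_sub, mul_add, hxy, mul_one, hx.2, zero_add, sub_self]
  exact ((h.unit y hy h0).mul_left_eq_zero).1 this

theorem sum_tr (hψ : ψ ≠ 1) (hτ : Tr τ) (he : e * e = e) {c : C} (hc : c ∈ Hm e e) :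
    ∑ y : Hm e e, ψ (τ (c * y)) = if c = 0 then (Fintype.card (Hm e e) : ℂ) else 0 := by
  refine (sum_char hψ ((τ.comp (AddMonoidHom.mulLeft c)).comp (Hm e e).subtype)).trans
    (if_congr ⟨fun h => ?_, fun h => ?_⟩ rfl rfl)
  · by_contra hh
    obtain ⟨y, hy⟩ := hτ.nd _ hh
    apply hy
    have : τ (c * (e * y * e)) = 0 := DFunLike.congr_fun h ⟨_, mk_mem he he y⟩
    rwa [← mul_assoc, ← mul_assoc, hc.2, hτ.symm, ← mul_assoc, hc.1] at this
  · ext t; simp [h]

theorem Prim.triv (h : Prim e) (hψ : ψ ≠ 1) (hτ : Tr τ) (hθ : Ch θ) (ht : Triv θ e) : Gs ψ τ θ e = -1 := by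
  have h1 := sum_tr hψ hτ h.idem (c := e) ⟨h.idem, h.idem⟩
  rw [if_neg h.ne, ← add_sum_erase _ _ (mem_univ 0)] at h1
  rw [Gs, ← add_sum_erase _ _ (mem_univ 0)]
  simp only [ZeroMemClass.coe_zero, mul_zero, map_zero, AddChar.map_zero_eq_one] at h1
  rw [ZeroMemClass.coe_zero, hθ.nu _ h.nu, mul_zero, zero_add, eq_neg_iff_add_eq_zero, add_comm, ← h1]
  congr 1
  refine sum_congr rfl fun x hx => ?_
  rw [ht x x.2 (h.unit x x.2 fun e0 => (mem_erase.1 hx).1 (Subtype.ext e0)), mul_one, x.2.1]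

theorem Prim.shift (h : Prim e) (y : Hm e e) (hy : (y : C) ≠ 0) (F : C → ℂ) :
    ∑ x : Hm e e, F x = ∑ z : Hm e e, F (z * y) := by
  let m : Hm e e → Hm e e := fun z => ⟨z * y, by rw [← mul_assoc, z.2.1], by rw [mul_assoc, y.2.2]⟩
  have hb : Function.Bijective m := Finite.injective_iff_bijective.1 fun a b hab => Subtype.ext (sub_eq_zero.1
    (h.cancel (sub_mem a.2 b.2) y.2 hy (by rw [sub_mul]; exact sub_eq_zero.2 (congrArg Subtype.val hab))))
  exact (hb.sum_comp fun x => F x).symm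

theorem Prim.sum_zero (h : Prim e) (hθ : Ch θ) (ht : ¬ Triv θ e) : ∑ x : Hm e e, θ (x + 1 - e) = 0 := by
  simp only [Triv, not_forall] at ht
  obtain ⟨y, hy, hu, h1⟩ := ht
  have h0 : y ≠ 0 := fun e0 => h.nu (e0 ▸ hu)
  have := h.shift ⟨y, hy⟩ h0 fun x => θ (x + 1 - e)
  simp only [← cmul h.idem (Subtype.prop _) hy, hθ.mul, ← sum_mul] at this
  by_contra hh
  exact h1 (mul_left_cancel₀ hh (by rw [mul_one]; exact this.symm))

theorem Prim.norm (h : Prim e) (hψ : ψ ≠ 1) (hτ : Tr τ) (hθ : Ch θ) (hn : ∀ x, IsUnit x → ‖θ x‖ = 1) (ht : ¬ Triv θ e) :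
    ‖Gs ψ τ θ e‖ ^ 2 = Fintype.card (Hm e e) := by
  have : NeZero p := ⟨(Fact.out : p.Prime).ne_zero⟩
  have hc : ∀ k : ZMod p, (starRingEnd ℂ) (ψ k) = ψ (-k) := fun k => by
    rw [AddChar.map_neg_eq_inv, ← Complex.inv_eq_conj (AddChar.norm_apply ψ k)]
  have h1 : ∀ y : Hm e e, Gs ψ τ θ e * (starRingEnd ℂ) (ψ (τ y) * θ (y + 1 - e)) =
      ∑ z : Hm e e, θ (z + 1 - e) * (ψ (τ ((z - e) * y)) - if y = 0 then 1 else 0) := by
    intro y
    split_ifs with hy
    · simp [hy, hθ.nu _ (by simpa using h.nu)]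
    · have hy' : (y : C) ≠ 0 := fun e0 => hy (Subtype.ext e0)
      rw [Gs, h.shift y hy' fun x => ψ (τ x) * θ (x + 1 - e), sum_mul]
      refine sum_congr rfl fun z _ => ?_
      have h2 : θ (y + 1 - e) * (starRingEnd ℂ) (θ (y + 1 - e)) = 1 := by
        rw [Complex.mul_conj, Complex.normSq_eq_norm_sq, hn _ (h.unit y y.2 hy')]; simp
      rw [← cmul h.idem z.2 y.2, hθ.mul, map_mul (starRingEnd ℂ), hc, sub_mul (z : C), y.2.1, sub_eq_add_neg (_ * _), map_add τ, map_neg τ,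
        AddChar.map_add_eq_mul]
      linear_combination (ψ (τ (z * y)) * θ (z + 1 - e) * ψ (-τ y)) * h2
  have h3 : Gs ψ τ θ e * (starRingEnd ℂ) (Gs ψ τ θ e) = Fintype.card (Hm e e) := by
    nth_rw 2 [Gs]
    rw [map_sum, mul_sum, sum_congr rfl fun y _ => h1 y, sum_comm]
    have h4 : ∀ z : Hm e e, ∑ y : Hm e e, θ (z + 1 - e) * (ψ (τ ((z - e) * y)) - if y = 0 then 1 else 0) =
        (if z = ⟨e, h.idem, h.idem⟩ then (Fintype.card (Hm e e) : ℂ) else 0) - θ (z + 1 - e) := by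
      intro z
      rw [← mul_sum, sum_sub_distrib, sum_tr hψ hτ h.idem (sub_mem z.2 ⟨h.idem, h.idem⟩), sum_ite_eq' , if_pos (mem_univ _)]
      by_cases hz : z = ⟨e, h.idem, h.idem⟩
      · have : θ (e + 1 - e) = 1 := by simpa using hθ.sq 0 (mul_zero _)
        rw [if_pos hz, hz, if_pos (sub_self _), this]; ring
      · rw [if_neg hz, if_neg fun e0 => hz (Subtype.ext (sub_eq_zero.1 e0))]; ring
    rw [sum_congr rfl fun z _ => h4 z, sum_sub_distrib, h.sum_zero hθ ht, sum_ite_eq', if_pos (mem_univ _), sub_zero]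
  rw [Complex.mul_conj, Complex.normSq_eq_norm_sq] at h3
  exact_mod_cast h3

theorem int_psi (k : ZMod p) : IsIntegral ℤ (ψ k) := by
  refine IsIntegral.of_pow (Fact.out : p.Prime).pos ?_
  rw [← AddChar.map_nsmul_eq_pow, nsmul_eq_mul, ZMod.natCast_self, zero_mul, AddChar.map_zero_eq_one]
  exact isIntegral_one

theorem int_Gs (hi : ∀ x, IsIntegral ℤ (θ x)) : IsIntegral ℤ (Gs ψ τ θ e) :=
  IsIntegral.sum _ fun _ _ => (int_psi _).mul (hi _)

theorem Prim.dvd (h : Prim e) (hθ : Ch θ) (hi : ∀ x, IsIntegral ℤ (θ x)) (ht : ¬ Triv θ e) :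
    ∃ B, IsIntegral ℤ B ∧ Gs ψ τ θ e = (ψ 1 - 1) * B := by
  have : NeZero p := ⟨(Fact.out : p.Prime).ne_zero⟩
  refine ⟨∑ x : Hm e e, (∑ i ∈ range (τ x).val, ψ 1 ^ i) * θ (x + 1 - e),
    IsIntegral.sum _ fun _ _ => (IsIntegral.sum _ fun _ _ => (int_psi _).pow _).mul (hi _), ?_⟩
  rw [← sub_zero (Gs _ _ _ _), ← h.sum_zero hθ ht, Gs, ← sum_sub_distrib, mul_sum]
  refine sum_congr rfl fun x _ => ?_
  rw [← mul_assoc, mul_geom_sum, ← AddChar.map_nsmul_eq_pow, nsmul_eq_mul, mul_one, ZMod.natCast_zmod_val]; ring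

theorem triv_add (hτ : Tr τ) (hθ : Ch θ) (hnz : ∀ x, IsUnit x → θ x ≠ 0) (h : Prim e) (hf : f * f = f) (hef : e * f = 0)
    (hfe : f * e = 0) (h1 : Triv θ e) (h2 : Triv θ f) : Triv θ (e + f) := by
  have he := h.idem
  have A : ∀ x ∈ Hm (e + f) (e + f), IsUnit (x + 1 - (e + f)) → f * x * e = 0 → θ (x + 1 - (e + f)) = 1 := by
    intro x hx hu h0
    have e1 : x = e * x * e + e * x * f + f * x * f :=
      calc x = (e + f) * x * (e + f) - f * x * e := by rw [h0, hx.1, hx.2, sub_zero]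
        _ = _ := by noncomm_ring
    have e2 := tri hθ he hf hef hfe (mk_mem he he x) (mk_mem he hf x) (mk_mem hf hf x)
    rw [← e1] at e2
    have e3 := hnz _ hu
    rw [e2] at e3 ⊢
    rw [h1 _ (mk_mem he he x) (by_contra fun hh => left_ne_zero_of_mul e3 (hθ.nu _ hh)),
      h2 _ (mk_mem hf hf x) (by_contra fun hh => right_ne_zero_of_mul e3 (hθ.nu _ hh)), mul_one]
  have S : ∀ t x, x ∈ Hm (e + f) (e + f) → IsUnit (x + 1 - (e + f)) → t * t = 0 → (e + f) * t = t → t * (e + f) = t →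
      x + t * x ∈ Hm (e + f) (e + f) ∧ IsUnit (x + t * x + 1 - (e + f)) ∧
        θ (x + t * x + 1 - (e + f)) = θ (x + 1 - (e + f)) := by
    intro t x hx hu ht hl hr
    have e1 : x + t * x + 1 - (e + f) = (1 + t) * (x + 1 - (e + f)) := by
      rw [add_mul 1, one_mul, mul_sub, mul_add t x, mul_one, hr]; abel
    have e2 : θ (x + t * x + 1 - (e + f)) = θ (x + 1 - (e + f)) := by rw [e1, hθ.mul, hθ.sq t ht, one_mul]
    exact ⟨⟨by rw [mul_add, hx.1, ← mul_assoc, hl], by rw [add_mul, hx.2, mul_assoc, hx.2]⟩,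
      by_contra fun hh => hnz _ hu (e2 ▸ hθ.nu _ hh), e2⟩
  have B : ∀ x ∈ Hm (e + f) (e + f), IsUnit (x + 1 - (e + f)) → e * x * e ≠ 0 → θ (x + 1 - (e + f)) = 1 := by
    intro x hx hu h0
    obtain ⟨w, hw⟩ := (h.unit _ (mk_mem he he x) h0).exists_left_inv
    have e1 : w * (e * x * e) = e := by
      have := congrArg (· * e) hw
      simp only [mul_assoc, sub_mul, add_mul, one_mul, he, add_sub_cancel_right] at this
      simpa only [mul_assoc] using this
    obtain ⟨s1, s2, s3⟩ := S (-(f * x * e * w * e)) x hx hu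
      (by rw [neg_mul_neg]; simp only [mul_assoc]; rw [← mul_assoc e f, hef]; simp)
      (by rw [mul_neg, add_mul]; simp only [← mul_assoc, hef, hf, zero_mul, zero_add])
      (by rw [neg_mul, mul_add]; simp only [mul_assoc, hef, he, mul_zero, add_zero])
    rw [← s3]
    refine A _ s1 s2 ?_
    calc f * (x + -(f * x * e * w * e) * x) * e = f * x * e - (f * f) * x * e * (w * (e * x * e)) := by noncomm_ring
      _ = 0 := by rw [e1, hf, mul_assoc _ e e, he, sub_self]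
  intro x hx hu
  by_cases h0 : e * x * e = 0
  · have h3 : f * x * e ≠ 0 := fun h4 => h.ne ((hu.mul_right_eq_zero).1 (by
      calc (x + 1 - (e + f)) * e = (e + f) * x * e + (e - e * e) - f * e := by rw [hx.1]; noncomm_ring
        _ = 0 := by rw [add_mul, add_mul, h0, h4, he, hfe]; simp))
    obtain ⟨y, hy⟩ := hτ.nd _ h3
    obtain ⟨s1, s2, s3⟩ := S (e * y * f) x hx hu
      (by simp only [mul_assoc]; rw [← mul_assoc f e, hfe]; simp)
      (by rw [add_mul]; simp only [← mul_assoc, hfe, he, zero_mul, add_zero])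
      (by rw [mul_add]; simp only [mul_assoc, hfe, hf, mul_zero, zero_add])
    rw [← s3]
    refine B _ s1 s2 fun h5 => hy ?_
    have : e * (y * (f * x)) * e = 0 :=
      calc e * (y * (f * x)) * e = e * x * e + (e * e) * y * f * x * e := by rw [h0, he]; noncomm_ring
        _ = e * (x + e * y * f * x) * e := by noncomm_ring
        _ = 0 := h5
    calc τ (f * x * e * y) = τ (y * (f * x) * (e * e)) := by rw [hτ.symm, he, mul_assoc y]
      _ = τ (e * (y * (f * x)) * e) := by rw [← mul_assoc, hτ.symm, ← mul_assoc]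
      _ = 0 := by rw [this, map_zero]
  · exact B x hx hu h0

end CL.K86
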