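import Cfsg.Agent.KGV.K86b

/-!
# Gauss sums over the units of a finite regular ring: the induction
-/

set_option autoImplicit false

namespace CL.K86
open Finset
open scoped Classical

variable {p : ℕ} [Fact p.Prime] {C : Type*} [Ring C] [Fintype C]
variable {ψ : AddChar (ZMod p) ℂ} {τ : C →+ ZMod p} {θ θ₀ : C → ℂ}

theorem exists_prim (hreg : ∀ x : C, ∃ y, x * y * x = x) {e : C} (he : e * e = e) (h0 : e ≠ 0) :
    ∃ u, Prim u ∧ u ∈ Hm e e := by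
  obtain ⟨u, hu, hmin⟩ := exists_min_image (univ.filter fun u : C => u * u = u ∧ u ≠ 0 ∧ u ∈ Hm e e)
    (fun u => Nat.card (Hm u u)) ⟨e, by simpa using ⟨he, h0, he, he⟩⟩
  obtain ⟨h1, h2, h3⟩ := (mem_filter.1 hu).2
  refine ⟨u, ⟨h1, h2, fun x hx hx0 => ?_⟩, h3⟩
  obtain ⟨y, hy⟩ := hreg x
  have hy' := mk_mem h1 h1 y
  have e1 : x * (u * y * u) * x = x := by
    rw [← mul_assoc, ← mul_assoc, hx.2, mul_assoc _ u, hx.1, hy]
  generalize u * y * u = z at hy' e1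
  have hw : x * z ∈ Hm u u := ⟨by rw [← mul_assoc, hx.1], by rw [mul_assoc, hy'.2]⟩
  have hle : ∀ {a b : C}, a ∈ Hm b b → Hm a a ≤ Hm b b := fun {a b} h c hc =>
    ⟨by rw [← hc.1, ← mul_assoc, h.1], by rw [← hc.2, mul_assoc, h.2]⟩
  have h4 := hmin (x * z) (mem_filter.2 ⟨mem_univ _, by rw [← mul_assoc, e1], fun h => hx0 (by rw [← e1, h, zero_mul]),
    hle h3 hw⟩)
  have h5 : Hm (x * z) (x * z) = Hm u u := AddSubgroup.eq_of_le_of_card_ge (hle hw) h4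
  have h6 : u ∈ Hm (x * z) (x * z) := h5 ▸ ⟨h1, h1⟩
  have h7 : x * z = u := hw.2.symm.trans h6.1
  refine IsUnit.of_mul_eq_one (z + 1 - u) ?_
  rw [cmul h1 hx hy', h7]; abel

theorem card_Hm (hp : ∀ x : C, p • x = 0) (e f : C) : ∃ k, Fintype.card (Hm e f) = p ^ k := by
  have : IsPGroup p (Multiplicative (Hm e f)) := fun x => ⟨1, by
    rw [pow_one]; exact congrArg Multiplicative.ofAdd (Subtype.ext (hp _) : p • x.toAdd = 0)⟩
  obtain ⟨k, hk⟩ := IsPGroup.iff_card.1 this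
  exact ⟨k, by rw [← hk, ← Nat.card_eq_fintype_card]; rfl⟩

theorem Gs_zero (hθ : Ch θ) : Gs ψ τ θ 0 = 1 := by
  have h1 : θ 1 = 1 := by simpa using hθ.sq 0 (mul_zero _)
  rw [Gs, Fintype.sum_eq_single 0 fun x hx => absurd (Subtype.ext (x.2.1.symm.trans (zero_mul _))) hx]
  simp [h1]

theorem main (hψ : ψ ≠ 1) (hτ : Tr τ) (hreg : ∀ x : C, ∃ y, x * y * x = x) (hp : ∀ x : C, p • x = 0)
    (hθ : Ch θ) (hθ₀ : Ch θ₀) (h0 : ∀ e, Triv θ₀ e) (hn : ∀ x, IsUnit x → ‖θ x‖ = 1) (hi : ∀ x, IsIntegral ℤ (θ x))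
    (ν : C → ℕ) (hν1 : ∀ e, 1 ≤ ν e) (hνm : ∀ e f, e * e = e → f * f = f → e * f = 0 → f * e = 0 → ν e * ν f ≤ ν (e + f))
    (hνp : ∀ e, Prim e → Triv θ e ∨ Fintype.card (Hm e e) ≤ ν e) (e : C) (he : e * e = e) :
    ∃ (j : ℕ) (A : ℂ), (Gs ψ τ θ₀ e = (p : ℂ) ^ j ∨ Gs ψ τ θ₀ e = -(p : ℂ) ^ j) ∧ Gs ψ τ θ e = Gs ψ τ θ₀ e * A ∧
      IsIntegral ℤ A ∧ ‖A‖ ^ 2 ≤ ν e ∧ (¬ Triv θ e → ∃ B, IsIntegral ℤ B ∧ A = (ψ 1 - 1) * B) := by
  induction hk : Nat.card (Hm e e) using Nat.strong_induction_on generalizing e with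
  | _ n ih =>
  by_cases he0 : e = 0
  · subst he0
    refine ⟨0, 1, Or.inl (by rw [Gs_zero hθ₀, pow_zero]), by rw [Gs_zero hθ, Gs_zero hθ₀, one_mul], isIntegral_one,
      by simpa using hν1 0, fun h => absurd (fun x hx _ => ?_) h⟩
    rw [← hx.1]; simpa using hθ.sq 0 (mul_zero _)
  obtain ⟨u, hu, hue⟩ := exists_prim hreg he he0
  obtain ⟨f, rfl⟩ : ∃ f, e = u + f := ⟨e - u, by abel⟩
  have huf : u * f = 0 := by have := hue.2; rw [mul_add, hu.idem] at this; exact add_eq_left.1 this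
  have hfu : f * u = 0 := by have := hue.1; rw [add_mul, hu.idem] at this; exact add_eq_left.1 this
  have hf : f * f = f := by
    rw [mul_add, add_mul, add_mul, hu.idem, huf, hfu, add_zero, zero_add] at he; exact add_left_cancel he
  have hlt : Hm f f < Hm (u + f) (u + f) := lt_of_le_of_ne (fun c hc =>
    ⟨by rw [← hc.1, ← mul_assoc, add_mul, huf, hf, zero_add], by rw [← hc.2, mul_assoc, mul_add, hfu, hf, zero_add]⟩)
    fun h => hu.ne (by have : u ∈ Hm f f := h ▸ hue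
                       exact this.1.symm.trans hfu)
  obtain ⟨j, A, a1, a2, a3, a4, a5⟩ := ih _ (hk ▸ lt_of_le_of_ne (AddSubgroup.card_le_of_le hlt.le) fun h =>
    hlt.ne (AddSubgroup.eq_of_le_of_card_ge hlt.le h.ge)) f hf rfl
  obtain ⟨k, hk'⟩ := card_Hm hp u f
  have s0 := step hψ hτ hθ₀ hu.idem hf huf hfu
  have s1 := step hψ hτ hθ hu.idem hf huf hfu
  rw [hu.triv hψ hτ hθ₀ (h0 u), hk', Nat.cast_pow] at s0
  rw [hk', Nat.cast_pow] at s1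
  have b1 : ‖Gs ψ τ θ u‖ ^ 2 ≤ ν u := by
    by_cases ht : Triv θ u
    · rw [hu.triv hψ hτ hθ ht]; simpa using hν1 u
    · rw [hu.norm hψ hτ hθ hn ht]; exact_mod_cast (hνp u hu).resolve_left ht
  refine ⟨k + j, -Gs ψ τ θ u * A, ?_, by rw [s0, s1, a2]; ring, (int_Gs hi).neg.mul a3, ?_, fun h => ?_⟩
  · rw [s0, pow_add]
    rcases a1 with a | a
    · right; rw [a]; ring
    · left; rw [a]; ring
  · rw [norm_mul, norm_neg, mul_pow]
    exact (mul_le_mul b1 a4 (by positivity) (by positivity)).trans (by exact_mod_cast hνm u f hu.idem hf huf hfu)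
  · by_cases ht : Triv θ u
    · obtain ⟨B, b2, b3⟩ := a5 fun h2 => h (triv_add hτ hθ (fun x hx h3 => by simpa [h3] using hn x hx) hu hf huf hfu ht h2)
      exact ⟨-Gs ψ τ θ u * B, (int_Gs hi).neg.mul b2, by rw [b3]; ring⟩
    · obtain ⟨B, b2, b3⟩ := hu.dvd (ψ := ψ) (τ := τ) hθ hi ht
      exact ⟨-B * A, b2.neg.mul a3, by rw [b3]; ring⟩

end CL.K86
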