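import Cfsg.Agent.KGV.K99b
import Cfsg.Agent.KGV.A.AsmD

/-! The evaluation of twisted Gauss sums over the centralizer of a semisimple automorphism. -/

set_option autoImplicit false

namespace CL.KGA.K99
open Finset Subgroup LinearMap
open scoped ComplexConjugate

universe u

theorem nondeg {p : ℕ} [Fact p.Prime] {V : Type*} [AddCommGroup V] [Module (ZMod p) V] [Finite V]
    (g : (Module.End (ZMod p) V)ˣ) {m : ℕ} (hm : ¬ p ∣ m) (hg : g ^ m = 1)
    {a : Module.End (ZMod p) V} (ha : g.1 * a = a * g.1) (h0 : a ≠ 0) (t : ZMod p) :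
    ∃ z, g.1 * z = z * g.1 ∧ trace (ZMod p) V (a * z) = t := by
  obtain ⟨v, hv⟩ : ∃ v, a v ≠ 0 := by
    by_contra! h
    exact h0 (LinearMap.ext h)
  obtain ⟨f, hf⟩ : ∃ f : Module.Dual (ZMod p) V, f (a v) ≠ 0 := by
    by_contra! h
    exact hv ((Module.forall_dual_apply_eq_zero_iff (ZMod p) _).1 h)
  have hm' : (m : ZMod p) ≠ 0 := fun h => hm ((ZMod.natCast_eq_zero_iff _ _).1 h)
  let z : Module.End (ZMod p) V := ((t / (m * f (a v))) • f).smulRight v
  have hz : trace (ZMod p) V (a * z) = t / m := by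
    have : a * z = ((t / (m * f (a v))) • f).smulRight (a v) := by ext w; simp [z]
    rw [this, trace_smulRight, LinearMap.smul_apply, smul_eq_mul]
    field_simp
  let w : ℕ → Module.End (ZMod p) V := fun i => (g ^ i).1 * z * (g ^ i)⁻¹.1
  refine ⟨∑ i ∈ range m, w i, ?_, ?_⟩
  · have h1 : ∀ i, g.1 * w i = w (i + 1) * g.1 := fun i => by
      simp only [w, pow_succ', mul_inv_rev, Units.val_mul, mul_assoc, Units.inv_mul, mul_one]
    have h2 : ∑ i ∈ range m, w (i + 1) = ∑ i ∈ range m, w i := by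
      have := (sum_range_succ w m).symm.trans (sum_range_succ' w m)
      rw [show w m = w 0 by simp only [w, hg, pow_zero], add_left_inj] at this
      exact this.symm
    rw [mul_sum, sum_congr rfl fun i _ => h1 i, ← sum_mul, h2]
  · have h1 : ∀ i, trace (ZMod p) V (a * w i) = t / m := fun i => by
      have : a * (g ^ i).1 = (g ^ i).1 * a := by
        rw [Units.val_pow_eq_pow_val]; exact ((Commute.symm ha).pow_right i).eq
      simp only [w]
      rw [← mul_assoc, trace_mul_comm, ← mul_assoc, ← mul_assoc, mul_assoc _ a, this, ← mul_assoc,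
        Units.inv_mul, one_mul, hz]
    rw [mul_sum, map_sum, sum_congr rfl fun i _ => h1 i, sum_const, card_range, nsmul_eq_mul]
    field_simp

theorem kondoSt (p : ℕ) [hp : Fact p.Prime] : KondoSt.{u} p := by
  intro V _ _ _ g m hm hg θ N hN hθ h1 ψ hψ
  classical
  have : Finite (Module.End (ZMod p) V) := Finite.of_injective _ DFunLike.coe_injective
  let C := Subalgebra.centralizer (ZMod p) ({g.1} : Set (Module.End (ZMod p) V))
  have mC : ∀ x, x ∈ C ↔ g.1 * x = x * g.1 := fun x => by simp [C, Subalgebra.mem_centralizer_iff]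
  let _ : Fintype C := Fintype.ofFinite C
  let _ : Fintype (centralizer ({g} : Set (Module.End (ZMod p) V)ˣ)) := Fintype.ofFinite _
  let j : centralizer ({g} : Set (Module.End (ZMod p) V)ˣ) →* C :=
    { toFun := fun x => ⟨x.1.1, (mC _).2 (congrArg Units.val (mem_centralizer_singleton_iff.1 x.2)).symm⟩
      map_one' := rfl
      map_mul' := fun _ _ => rfl }
  have ji : Function.Injective j := fun x y h =>
    Subtype.ext (Units.ext (congrArg Subtype.val h))
  have ju : ∀ x, IsUnit (j x) := fun x => (Group.isUnit x).map j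
  have js : ∀ a : C, IsUnit a → ∃ x, j x = a := by
    rintro _ ⟨a, rfl⟩
    exact ⟨⟨Units.map C.val.toMonoidHom a, mem_centralizer_singleton_iff.2
      (Units.ext ((mC _).1 a.1.2).symm)⟩, rfl⟩
  let χ : C → ℂ := fun a => if h : ∃ x, j x = a then θ h.choose else 0
  have hj : ∀ x, χ (j x) = θ x := fun x => by
    have h : ∃ y, j y = j x := ⟨x, rfl⟩
    simp only [χ, dif_pos h, ji h.choose_spec]
  let φ : AddChar C ℂ :=
    { toFun := fun x => ψ (trace (ZMod p) V x.1)
      map_zero_eq_one' := by simp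
      map_add_eq_mul' := fun a b => by simp [ψ.map_add_eq_mul] }
  have hN0 : N ≠ 0 := fun h => hN (h ▸ dvd_zero p)
  have hφ : Ad φ := ⟨fun a b => congrArg ψ (trace_mul_comm _ a.1 b.1), fun a ha => by
      obtain ⟨t, ht⟩ := AddChar.ne_one_iff.1 hψ
      obtain ⟨z, z1, z2⟩ := nondeg g hm hg ((mC _).1 a.2) (fun h => ha (Subtype.ext h)) t
      exact ⟨⟨z, (mC _).2 z1⟩, fun h => ht (z2 ▸ h)⟩, fun a ha => by
      have : trace (ZMod p) V a.1 = 0 :=
        (isNilpotent_trace_of_isNilpotent (ha.map C.val)).eq_zero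
      exact (congrArg ψ this).trans ψ.map_zero_eq_one⟩
  have hχ : Mu χ := ⟨fun a b ha hb => by
      obtain ⟨x, rfl⟩ := js a ha
      obtain ⟨y, rfl⟩ := js b hb
      rw [← map_mul, hj, hj, hj, map_mul], fun t ht => by
      obtain ⟨x, hx⟩ := js _ (unit_uni ht)
      have h2 : ∀ n : ℕ, (1 + t) ^ n = 1 + (n : ZMod p) • t := fun n => by
        induction n with
        | zero => simp
        | succ n ih =>
          rw [pow_succ, ih, Nat.cast_succ, add_smul, one_smul, mul_add, add_mul, add_mul, smul_mul_assoc,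
            smul_mul_assoc, ht]
          simp [add_assoc]
      have h3 : x ^ p = 1 := ji (by rw [map_pow, hx, h2, map_one]; simp)
      have h4 : θ x ^ p = 1 := by rw [← map_pow, h3, map_one]
      rw [← hx, hj]
      exact (pow_eq_one_iff_of_coprime (hp.out.coprime_iff_not_dvd.2 hN)).1 ⟨h4, hθ x⟩⟩
  have hψ1 : IsIntegral ℤ (ψ 1) := IsIntegral.of_pow hp.out.pos (by
    rw [← ψ.map_nsmul_eq_pow, nsmul_eq_mul, mul_one, ZMod.natCast_self, ψ.map_zero_eq_one]
    exact isIntegral_one)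
  obtain ⟨i, A, k1, k2, k3, k4, k5⟩ := main (V := V) (φ := φ) (χ := χ) (π := ψ 1 - 1) hp.out
    (k := Module.finrank (ZMod p) C) (by rw [Module.natCard_eq_pow_finrank (K := ZMod p), Nat.card_zmod])
    hφ hχ (fun a ha => by
      obtain ⟨x, rfl⟩ := js a ha
      rw [hj, Complex.mul_conj, Complex.normSq_eq_norm_sq, Complex.norm_eq_one_of_pow_eq_one (hθ x) hN0]
      simp)
    (fun a ha => by
      obtain ⟨x, rfl⟩ := js a ha
      exact IsIntegral.of_pow (Nat.pos_of_ne_zero hN0) (by rw [hj, hθ]; exact isIntegral_one))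
    (fun x => (φ.map_neg_eq_conj x).symm) (hψ1.sub isIntegral_one)
    (fun x => ⟨∑ i ∈ range (trace (ZMod p) V x.1).val, ψ 1 ^ i,
      IsIntegral.sum _ fun i _ => hψ1.pow i, by
        rw [mul_geom_sum, ← ψ.map_nsmul_eq_pow, nsmul_eq_mul, mul_one, ZMod.natCast_zmod_val]
        exact (add_sub_cancel _ _).symm⟩)
    (fun a ha => Subtype.ext (LinearMap.ext ha)) (d := ⟨g.1, (mC _).2 rfl⟩)
    (fun x => Subtype.ext ((mC _).1 x.2)) (fun a ha h => by
      obtain ⟨x, rfl⟩ := js a ha
      rw [hj]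
      exact h1 x fun v => LinearMap.congr_fun (congrArg Subtype.val h) v) 1 (mul_one 1)
  have tr : ∀ κ : C → ℂ, ∑ᶠ x, ψ (trace (ZMod p) V x.1.1) * κ (j x) = F φ κ 1 := fun κ => by
    rw [finsum_eq_sum_of_fintype, F]
    refine sum_bij (fun x _ => j x) (fun x _ => mem_G.2 ⟨⟨one_mul _, mul_one _⟩, by simpa using ju x⟩)
      (fun x _ y _ h => ji h) (fun a ha => ?_) fun x _ => by rw [add_sub_cancel_right]; rfl
    obtain ⟨x, hx⟩ := js a (by simpa using (mem_G.1 ha).2)
    exact ⟨x, mem_univ _, hx⟩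
  have t1 := tr fun _ => 1
  have t2 := tr χ
  simp only [mul_one] at t1
  simp only [hj] at t2
  rw [t1, t2]
  refine ⟨i, A, k1, k2, k3, ?_, fun h => k5 ?_⟩
  · have e1 : nn V (⟨g.1, (mC _).2 rfl⟩ : C) 1 = Nat.card {v // g.1 v = v} :=
      Nat.card_congr (Equiv.subtypeEquivRight fun v => ⟨fun h => h.2, fun h => ⟨one_smul _ _, h⟩⟩)
    have e2 : nn V (1 : C) 1 = Nat.card V :=
      Nat.card_congr (Equiv.subtypeUnivEquiv fun v => ⟨one_smul _ _, one_smul _ _⟩)
    rwa [e1, e2] at k4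
  · obtain ⟨x, hx⟩ := DFunLike.ne_iff.1 h
    exact ⟨j x, mem_G.2 ⟨⟨one_mul _, mul_one _⟩, by simpa using ju x⟩, by
      rw [add_sub_cancel_right, hj]; exact hx⟩

end CL.KGA.K99
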