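import Mathlib

/-! Gauss sums over the unit groups of the corners of a finite ring. -/

set_option autoImplicit false

namespace CL.KGA.K99
open Finset

variable {C : Type*} [Ring C] [Fintype C]

open Classical in
/-- the corner `a C b` -/
noncomputable def cn (a b : C) : Finset C := univ.filter fun t => a * t = t ∧ t * b = t

open Classical in
/-- the units of the corner ring -/
noncomputable def G (e : C) : Finset C := (cn e e).filter fun x => IsUnit (x + 1 - e)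

theorem mem_cn {a b t : C} : t ∈ cn a b ↔ a * t = t ∧ t * b = t := by simp [cn]

theorem mem_G {e x : C} : x ∈ G e ↔ (e * x = x ∧ x * e = x) ∧ IsUnit (x + 1 - e) := by
  simp [G, mem_cn]

/-- additive character data -/
structure Ad (φ : AddChar C ℂ) : Prop where
  symm : ∀ a b, φ (a * b) = φ (b * a)
  nd : ∀ a, a ≠ 0 → ∃ z, φ (a * z) ≠ 1
  nil : ∀ a, IsNilpotent a → φ a = 1

/-- multiplicative character data -/
structure Mu (χ : C → ℂ) : Prop where
  mul : ∀ a b, IsUnit a → IsUnit b → χ (a * b) = χ a * χ b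
  uni : ∀ t, t * t = 0 → χ (1 + t) = 1

/-- the Gauss sum -/
noncomputable def F (φ : AddChar C ℂ) (χ : C → ℂ) (e : C) : ℂ := ∑ x ∈ G e, φ x * χ (x + 1 - e)

variable {φ : AddChar C ℂ} {χ : C → ℂ}

open Classical in
theorem sum_cn (hφ : Ad φ) {a b : C} (ha : a * a = a) (hb : b * b = b) (x : C) :
    ∑ t ∈ cn a b, φ (x * t) = if b * x * a = 0 then ((cn a b).card : ℂ) else 0 := by
  split_ifs with h
  · rw [sum_congr rfl (g := fun _ => (1 : ℂ)) fun t ht => ?_]
    · simp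
    · obtain ⟨h1, h2⟩ := mem_cn.1 ht
      rw [← h2, ← h1, ← mul_assoc, hφ.symm, ← mul_assoc, ← mul_assoc, h, zero_mul, φ.map_zero_eq_one]
  · obtain ⟨z, hz⟩ := hφ.nd _ h
    have h0 : φ (x * (a * z * b)) ≠ 1 := by
      rwa [← mul_assoc, hφ.symm, ← mul_assoc, ← mul_assoc]
    have h1 : a * (a * z * b) = a * z * b := by rw [← mul_assoc, ← mul_assoc, ha]
    have h2 : a * z * b * b = a * z * b := by rw [mul_assoc, hb]
    have : ∑ t ∈ cn a b, φ (x * t) = ∑ t ∈ cn a b, φ (x * (a * z * b)) * φ (x * t) := by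
      refine (sum_nbij' (fun t => a * z * b + t) (fun t => t - a * z * b) ?_ ?_ ?_ ?_ ?_).symm
      · intro t ht; obtain ⟨h3, h4⟩ := mem_cn.1 ht
        exact mem_cn.2 ⟨by rw [mul_add, h1, h3], by rw [add_mul, h2, h4]⟩
      · intro t ht; obtain ⟨h3, h4⟩ := mem_cn.1 ht
        exact mem_cn.2 ⟨by rw [mul_sub, h1, h3], by rw [sub_mul, h2, h4]⟩
      · intro t _; simp
      · intro t _; simp
      · intro t _; rw [mul_add, φ.map_add_eq_mul]
    rw [← mul_sum] at this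
    by_contra h3
    exact h0 (mul_right_cancel₀ h3 (this.symm.trans (one_mul _).symm))

omit [Fintype C] in
theorem unit_uni {t : C} (h : t * t = 0) : IsUnit (1 + t) :=
  ⟨⟨1 + t, 1 - t, by rw [add_mul, mul_sub, mul_sub, h]; simp, by rw [sub_mul, mul_add, mul_add, h]; simp⟩, rfl⟩

theorem G_mul_right (hχ : Mu χ) {e x t : C} (hx : x ∈ G e) (h1 : e * t = t) (h2 : t * e = t)
    (ht : t * t = 0) : x + x * t ∈ G e ∧ χ (x + x * t + 1 - e) = χ (x + 1 - e) := by
  obtain ⟨⟨h3, h4⟩, hu⟩ := mem_G.1 hx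
  have : x + x * t + 1 - e = (x + 1 - e) * (1 + t) := by
    rw [mul_add, sub_mul, sub_mul, h1]; noncomm_ring
  refine ⟨mem_G.2 ⟨⟨by rw [mul_add, ← mul_assoc, h3], by rw [add_mul, mul_assoc, h2, h4]⟩, ?_⟩, ?_⟩
  · rw [this]; exact hu.mul (unit_uni ht)
  · rw [this, hχ.mul _ _ hu (unit_uni ht), hχ.uni _ ht, mul_one]

theorem G_mul_left (hχ : Mu χ) {e x t : C} (hx : x ∈ G e) (h1 : e * t = t) (h2 : t * e = t)
    (ht : t * t = 0) : x + t * x ∈ G e ∧ χ (x + t * x + 1 - e) = χ (x + 1 - e) := by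
  obtain ⟨⟨h3, h4⟩, hu⟩ := mem_G.1 hx
  have : x + t * x + 1 - e = (1 + t) * (x + 1 - e) := by
    rw [add_mul, mul_sub, mul_sub, h2]; noncomm_ring
  refine ⟨mem_G.2 ⟨⟨by rw [mul_add, ← mul_assoc, h3, h1], by rw [add_mul, mul_assoc, h4]⟩, ?_⟩, ?_⟩
  · rw [this]; exact (unit_uni ht).mul hu
  · rw [this, hχ.mul _ _ (unit_uni ht) hu, hχ.uni _ ht, one_mul]

/-- orthogonal idempotents -/
structure Or (a b : C) : Prop where
  aa : a * a = a
  bb : b * b = b
  ab : a * b = 0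
  ba : b * a = 0

theorem tri_mk (hχ : Mu χ) {a b : C} (h : Or a b) {x y t : C} (hx : x ∈ G a) (hy : y ∈ G b)
    (ht : t ∈ cn a b) : x + y + t ∈ G (a + b) ∧
      χ (x + y + t + 1 - (a + b)) = χ (x + 1 - a) * χ (y + 1 - b) := by
  obtain ⟨⟨x1, x2⟩, xu⟩ := mem_G.1 hx
  obtain ⟨⟨y1, y2⟩, yu⟩ := mem_G.1 hy
  obtain ⟨t1, t2⟩ := mem_cn.1 ht
  have bx : b * x = 0 := by rw [← x1, ← mul_assoc, h.ba, zero_mul]
  have xb : x * b = 0 := by rw [← x2, mul_assoc, h.ab, mul_zero]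
  have ay : a * y = 0 := by rw [← y1, ← mul_assoc, h.ab, zero_mul]
  have ya : y * a = 0 := by rw [← y2, mul_assoc, h.ba, mul_zero]
  have bt : b * t = 0 := by rw [← t1, ← mul_assoc, h.ba, zero_mul]
  have ta : t * a = 0 := by rw [← t2, mul_assoc, h.ba, mul_zero]
  have xy : x * y = 0 := by rw [← y1, ← mul_assoc, xb, zero_mul]
  have tt : t * t = 0 := by
    calc t * t = t * (a * t) := by rw [t1]
      _ = 0 := by rw [← mul_assoc, ta, zero_mul]
  have tx : t * x = 0 := by rw [← x1, ← mul_assoc, ta, zero_mul]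
  have yt : y * t = 0 := by rw [← t1, ← mul_assoc, ya, zero_mul]
  have e1 : x + y + t + 1 - (a + b) = (y + 1 - b) * (1 + t) * (x + 1 - a) := by
    have yx : y * x = 0 := by rw [← x1, ← mul_assoc, ya, zero_mul]
    simp only [mul_add, add_mul, mul_sub, sub_mul, mul_one, one_mul, yt, bt, yx, bx, ya, h.ba, tx, ta,
      zero_mul]
    abel
  refine ⟨mem_G.2 ⟨⟨?_, ?_⟩, ?_⟩, ?_⟩
  · simp only [mul_add, add_mul, x1, y1, t1, bx, ay, bt]; abel
  · simp only [mul_add, add_mul, x2, y2, t2, xb, ya, ta]; abel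
  · rw [e1]; exact (yu.mul (unit_uni tt)).mul xu
  · rw [e1, hχ.mul _ _ (yu.mul (unit_uni tt)) xu, hχ.mul _ _ yu (unit_uni tt), hχ.uni _ tt, mul_one,
      mul_comm]

theorem tri_ex {a b : C} (h : Or a b) {x : C} (hx : x ∈ G (a + b)) (h0 : b * x * a = 0) :
    a * x * a ∈ G a ∧ b * x * b ∈ G b ∧ a * x * b ∈ cn a b ∧
      a * x * a + b * x * b + a * x * b = x := by
  obtain ⟨⟨x1, x2⟩, xu⟩ := mem_G.1 hx
  have l1 : ∀ z, a * (a * z) = a * z := fun z => by rw [← mul_assoc, h.aa]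
  have l2 : ∀ z, b * (b * z) = b * z := fun z => by rw [← mul_assoc, h.bb]
  have xa : x * a = a * x * a := by
    conv_lhs => rw [← x1, add_mul, add_mul, h0, add_zero]
  have bx : b * x = b * x * b := by
    conv_lhs => rw [← x2, ← mul_assoc, mul_add, h0, zero_add]
  refine ⟨mem_G.2 ⟨⟨by rw [mul_assoc, l1], by rw [mul_assoc, h.aa]⟩, ?_⟩,
    mem_G.2 ⟨⟨by rw [mul_assoc, l2], by rw [mul_assoc, h.bb]⟩, ?_⟩,
    mem_cn.2 ⟨by rw [mul_assoc, l1], by rw [mul_assoc, h.bb]⟩, ?_⟩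
  · refine IsLeftRegular.isUnit_of_finite (isLeftRegular_iff_right_eq_zero_of_mul.2 fun z hz => ?_)
    have h1 : a * x * a * z = 0 := by
      have := congrArg (a * ·) hz
      simp only [sub_mul, add_mul, mul_sub, mul_add, one_mul, mul_zero, mul_assoc, l1] at this
      simpa [mul_assoc] using this
    have h2 : z = a * z := by
      rw [sub_mul, add_mul, h1, zero_add, one_mul] at hz
      exact sub_eq_zero.1 hz
    refine xu.isRegular.left.mul_left_eq_zero_iff.1 ?_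
    rw [sub_mul, add_mul, add_mul, one_mul, ← h2, h2, ← mul_assoc, xa, h1, ← mul_assoc, h.ba]
    simp
  · refine IsRightRegular.isUnit_of_finite (isRightRegular_iff_left_eq_zero_of_mul.2 fun z hz => ?_)
    have h1 : z * (b * x * b) = 0 := by
      have := congrArg (· * b) hz
      simp only [sub_mul, add_mul, mul_sub, mul_add, mul_one, zero_mul, mul_assoc, h.bb] at this
      simpa [mul_assoc] using this
    have h2 : z = z * b := by
      rw [mul_sub, mul_add, h1, zero_add, mul_one] at hz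
      exact sub_eq_zero.1 hz
    refine xu.isRegular.right.mul_right_eq_zero_iff.1 ?_
    rw [mul_sub, mul_add, mul_add, mul_one, ← h2, h2, mul_assoc, bx, h1, mul_assoc, h.ba]
    simp
  · conv_rhs => rw [← x1, add_mul, bx, ← x2, ← mul_assoc, mul_add]
    rw [x2]; abel

theorem step (hφ : Ad φ) (hχ : Mu χ) {a b : C} (h : Or a b) :
    F φ χ (a + b) = (cn a b).card * F φ χ a * F φ χ b := by
  classical
  have hT : ∀ t ∈ cn a b, (a + b) * t = t ∧ t * (a + b) = t ∧ t * t = 0 ∧ φ t = 1 := fun t ht => by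
    obtain ⟨t1, t2⟩ := mem_cn.1 ht
    have bt : b * t = 0 := by rw [← t1, ← mul_assoc, h.ba, zero_mul]
    have ta : t * a = 0 := by rw [← t2, mul_assoc, h.ba, mul_zero]
    refine ⟨by rw [add_mul, t1, bt, add_zero], by rw [mul_add, t2, ta, zero_add], ?_, ?_⟩
    · calc t * t = t * (a * t) := by rw [t1]
        _ = 0 := by rw [← mul_assoc, ta, zero_mul]
    · rw [← t1, hφ.symm, ta, φ.map_zero_eq_one]
  have h1 : ∀ t ∈ cn a b, F φ χ (a + b) = ∑ x ∈ G (a + b), φ x * χ (x + 1 - (a + b)) * φ (x * t) := by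
    intro t ht
    obtain ⟨t1, t2, t3, -⟩ := hT t ht
    refine (sum_nbij' (fun x => x + x * t) (fun x => x + x * (-t)) ?_ ?_ ?_ ?_ ?_).symm
    · exact fun x hx => (G_mul_right hχ hx t1 t2 t3).1
    · exact fun x hx => (G_mul_right hχ hx (by simp [t1]) (by simp [t2]) (by simp [t3])).1
    · intro x _; simp [add_mul, mul_assoc, t3]
    · intro x _; simp [add_mul, mul_assoc, t3]
    · intro x hx
      rw [(G_mul_right hχ hx t1 t2 t3).2, φ.map_add_eq_mul]; ring
  have hne : ((cn a b).card : ℂ) ≠ 0 :=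
    Nat.cast_ne_zero.2 (card_pos.2 ⟨0, mem_cn.2 ⟨by simp, by simp⟩⟩).ne'
  have h2 : F φ χ (a + b) = ∑ x ∈ (G (a + b)).filter fun x => b * x * a = 0,
      φ x * χ (x + 1 - (a + b)) := by
    refine mul_left_cancel₀ hne ?_
    rw [← nsmul_eq_mul, ← sum_const, sum_congr rfl h1, sum_comm, sum_filter, mul_sum]
    refine sum_congr rfl fun x _ => ?_
    rw [← mul_sum, sum_cn hφ h.aa h.bb]
    split_ifs <;> ring
  rw [h2, F, F, mul_assoc, sum_mul_sum, ← sum_product', ← nsmul_eq_mul, ← sum_const, ← sum_product']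
  refine sum_nbij' (fun x => (a * x * b, a * x * a, b * x * b)) (fun q => q.2.1 + q.2.2 + q.1)
    ?_ ?_ ?_ ?_ ?_
  · intro x hx
    obtain ⟨h3, h4, h5, -⟩ := tri_ex h (mem_filter.1 hx).1 (mem_filter.1 hx).2
    exact mem_product.2 ⟨h5, mem_product.2 ⟨h3, h4⟩⟩
  · rintro ⟨t, x, y⟩ hq
    obtain ⟨ht, hq⟩ := mem_product.1 hq
    obtain ⟨hx, hy⟩ := mem_product.1 hq
    refine mem_filter.2 ⟨(tri_mk hχ h hx hy ht).1, ?_⟩
    obtain ⟨⟨x1, x2⟩, -⟩ := mem_G.1 hx
    obtain ⟨⟨y1, y2⟩, -⟩ := mem_G.1 hy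
    obtain ⟨t1, t2⟩ := mem_cn.1 ht
    dsimp only at *
    rw [← x1, ← y2, ← t1]
    simp [mul_add, add_mul, ← mul_assoc, h.ba, mul_assoc _ b a]
  · intro x hx
    exact (tri_ex h (mem_filter.1 hx).1 (mem_filter.1 hx).2).2.2.2
  · rintro ⟨t, x, y⟩ hq
    obtain ⟨ht, hq⟩ := mem_product.1 hq
    obtain ⟨hx, hy⟩ := mem_product.1 hq
    obtain ⟨⟨x1, x2⟩, -⟩ := mem_G.1 hx
    obtain ⟨⟨y1, y2⟩, -⟩ := mem_G.1 hy
    obtain ⟨t1, t2⟩ := mem_cn.1 ht
    dsimp only at *
    have bx : b * x = 0 := by rw [← x1, ← mul_assoc, h.ba, zero_mul]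
    have xb : x * b = 0 := by rw [← x2, mul_assoc, h.ab, mul_zero]
    have ay : a * y = 0 := by rw [← y1, ← mul_assoc, h.ab, zero_mul]
    have bt : b * t = 0 := by rw [← t1, ← mul_assoc, h.ba, zero_mul]
    have ta : t * a = 0 := by rw [← t2, mul_assoc, h.ba, mul_zero]
    simp [mul_add, add_mul, x1, x2, y1, y2, t1, t2, bx, xb, ay, bt, ta]
  · intro x hx
    obtain ⟨h3, h4, h5, h6⟩ := tri_ex h (mem_filter.1 hx).1 (mem_filter.1 hx).2
    have := (tri_mk hχ h h3 h4 h5).2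
    rw [h6] at this
    rw [this]
    have h7 : φ x = φ (a * x * a) * φ (b * x * b) := by
      rw [← φ.map_add_eq_mul, ← mul_one (φ (_ + _)), ← (hT _ h5).2.2.2, ← φ.map_add_eq_mul, h6]
    rw [h7]; ring

/-- primitive idempotents -/
def Pr (e : C) : Prop := e * e = e ∧ e ≠ 0 ∧ ∀ x, e * x = x → x * e = x → x ≠ 0 → IsUnit (x + 1 - e)

omit [Fintype C] in
theorem pow_idem [Finite C] (x : C) : ∃ n, 0 < n ∧ x ^ n * x ^ n = x ^ n := by
  obtain ⟨i, j, hij, h⟩ := Finite.exists_ne_map_eq_of_infinite fun n : ℕ => x ^ n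
  wlog hlt : i < j generalizing i j
  · exact this j i hij.symm h.symm (by omega)
  obtain ⟨d, rfl⟩ := Nat.exists_eq_add_of_lt hlt
  have key : ∀ k r, x ^ (i + r + k * (d + 1)) = x ^ (i + r) := fun k r => by
    induction k with
    | zero => simp
    | succ k ih =>
      rw [show i + r + (k + 1) * (d + 1) = (i + d + 1) + (r + k * (d + 1)) by ring, pow_add, ← h,
        ← pow_add, ← add_assoc, ih]
  refine ⟨(i + 1) * (d + 1), by positivity, ?_⟩
  have := key (i + 1) (i * d + d + 1)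
  rwa [show i + (i * d + d + 1) = (i + 1) * (d + 1) by ring, pow_add] at this

omit [Fintype C] in
theorem corner_pow {e x : C} (he : e * e = e) (h1 : e * x = x) (h2 : x * e = x) (n : ℕ) :
    e * x ^ (n + 1) = x ^ (n + 1) ∧ x ^ (n + 1) * e = x ^ (n + 1) ∧
      (x + 1 - e) ^ (n + 1) = x ^ (n + 1) + 1 - e := by
  have a1 : ∀ n, e * x ^ (n + 1) = x ^ (n + 1) := fun n => by rw [pow_succ', ← mul_assoc, h1]
  have a2 : ∀ n, x ^ (n + 1) * e = x ^ (n + 1) := fun n => by rw [pow_succ, mul_assoc, h2]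
  refine ⟨a1 n, a2 n, ?_⟩
  induction n with
  | zero => simp
  | succ n ih =>
    rw [pow_succ, ih, pow_succ x (n + 1)]
    simp only [mul_add, add_mul, mul_sub, sub_mul, mul_one, one_mul, a2, h1, he]
    abel

theorem sub_idem (hφ : Ad φ) {e : C} (he : e * e = e) (h0 : e ≠ 0) (hp : ¬ Pr e) :
    ∃ a, a * a = a ∧ a ≠ 0 ∧ a ≠ e ∧ e * a = a ∧ a * e = a := by
  simp only [Pr, not_and, not_forall] at hp
  obtain ⟨x, h1, h2, hx, hu⟩ := hp he h0
  obtain ⟨z, hz⟩ := hφ.nd x hx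
  have b1 : e * (x * z * e) = x * z * e := by rw [← mul_assoc, ← mul_assoc, h1]
  have b2 : x * z * e * e = x * z * e := by rw [mul_assoc, he]
  have b3 : x * z * e + 1 - e = (x + 1 - e) * (e * z * e + 1 - e) := by
    simp only [mul_add, add_mul, mul_sub, sub_mul, mul_one, one_mul, ← mul_assoc, h2, he]
    abel
  obtain ⟨n, hn, hi⟩ := pow_idem (x * z * e)
  obtain ⟨n, rfl⟩ := Nat.exists_eq_succ_of_ne_zero hn.ne'
  obtain ⟨c1, c2, c3⟩ := corner_pow he b1 b2 n
  refine ⟨_, hi, fun h => hz ?_, fun h => hu ?_, c1, c2⟩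
  · rw [← h1, mul_assoc, hφ.symm]
    exact hφ.nil _ ⟨_, h⟩
  · rw [h, add_sub_cancel_left] at c3
    have := IsUnit.of_pow_eq_one c3 n.succ_ne_zero
    rw [b3] at this
    exact isUnit_of_mul_isUnit_left this

theorem cn_lt {e a : C} (he : e * e = e) (ha : a ≠ e) (h1 : e * a = a) (h2 : a * e = a) :
    (cn a 1).card < (cn e 1).card := by
  refine card_lt_card ⟨fun x hx => mem_cn.2 ⟨?_, mul_one _⟩, fun h => ha ?_⟩
  · rw [← (mem_cn.1 hx).1, ← mul_assoc, h1]
  · exact h2.symm.trans (mem_cn.1 (h (mem_cn.2 ⟨he, mul_one _⟩))).1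

theorem exists_pr (hφ : Ad φ) (e : C) (he : e * e = e) (h0 : e ≠ 0) :
    ∃ a, Pr a ∧ e * a = a ∧ a * e = a := by
  induction hn : (cn e 1).card using Nat.strong_induction_on generalizing e with
  | _ n ih =>
  by_cases hp : Pr e
  · exact ⟨e, hp, he, he⟩
  obtain ⟨a, a1, a2, a3, a4, a5⟩ := sub_idem hφ he h0 hp
  obtain ⟨b, b1, b2, b3⟩ := ih _ (hn ▸ cn_lt he a3 a4 a5) a a1 a2 rfl
  exact ⟨b, b1, by rw [← b2, ← mul_assoc, a4], by rw [← b3, mul_assoc, a5]⟩

theorem idem_ind (hφ : Ad φ) {P : C → Prop} (h0 : P 0)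
    (hs : ∀ a b, Or a b → Pr a → P b → P (a + b)) (e : C) (he : e * e = e) : P e := by
  induction hn : (cn e 1).card using Nat.strong_induction_on generalizing e with
  | _ n ih =>
  by_cases h : e = 0
  · exact h ▸ h0
  obtain ⟨a, a1, a2, a3⟩ := exists_pr hφ e he h
  have b1 : (e - a) * (e - a) = e - a := by
    simp only [mul_sub, sub_mul, he, a2, a3, a1.1]; abel
  have := hs a (e - a) ⟨a1.1, b1, by rw [mul_sub, a3, a1.1, sub_self],
    by rw [sub_mul, a2, a1.1, sub_self]⟩ a1 (ih _ (hn ▸ cn_lt he (fun h => a1.2.1 (by simpa using h))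
      (by rw [mul_sub, he, a2]) (by rw [sub_mul, he, a3])) _ b1 rfl)
  simpa using this

theorem triv_step (hφ : Ad φ) (hχ : Mu χ) {a b : C} (h : Or a b) (ha : Pr a)
    (h1 : ∀ x ∈ G a, χ (x + 1 - a) = 1) (h2 : ∀ x ∈ G b, χ (x + 1 - b) = 1) :
    ∀ x ∈ G (a + b), χ (x + 1 - (a + b)) = 1 := by
  have k1 : ∀ x ∈ G (a + b), a * x * a ≠ 0 → χ (x + 1 - (a + b)) = 1 := fun x hx hne => by
    obtain ⟨w, hw⟩ := (ha.2.2 (a * x * a) (by rw [← mul_assoc, ← mul_assoc, h.aa])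
      (by rw [mul_assoc, h.aa]) hne).exists_left_inv
    have hw' : w * (a * x * a) = a := by
      have := congrArg (· * a) hw
      simp only [mul_assoc, sub_mul, add_mul, h.aa, one_mul, add_sub_cancel_right] at this
      simpa [mul_assoc] using this
    obtain ⟨k2, k3⟩ := G_mul_left hχ (t := -(b * x * a * w * a)) hx
      (by simp [add_mul, ← mul_assoc, h.ab, h.bb]) (by simp [mul_add, mul_assoc, h.ab, h.aa])
      (by simp only [neg_mul_neg, ← mul_assoc, mul_assoc _ a b, h.ab, mul_zero, zero_mul])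
    have k4 : b * (x + -(b * x * a * w * a) * x) * a = 0 := by
      have : b * x * a * (w * (a * x * a)) = b * x * a := by rw [hw', mul_assoc, h.aa]
      simp only [mul_add, add_mul, neg_mul, mul_neg, ← mul_assoc, h.bb] at this ⊢
      rw [this, add_neg_cancel]
    obtain ⟨h3, h4, h5, h6⟩ := tri_ex h k2 k4
    have := (tri_mk hχ h h3 h4 h5).2
    rw [h6, h1 _ h3, h2 _ h4, mul_one] at this
    rw [← k3, this]
  intro x hx
  by_cases hne : a * x * a = 0
  swap
  · exact k1 x hx hne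
  obtain ⟨⟨x1, x2⟩, xu⟩ := mem_G.1 hx
  have ax : a * x ≠ 0 := fun h0 => ha.2.1 (xu.isRegular.right.mul_right_eq_zero_iff.1 (by
    rw [mul_sub, mul_add, mul_add, h0, h.aa, h.ab]; simp))
  have axb : a * x * b = a * x := by
    conv_rhs => rw [← x2, ← mul_assoc, mul_add, hne, zero_add]
  obtain ⟨z, hz⟩ := hφ.nd _ ax
  obtain ⟨k2, k3⟩ := G_mul_right hχ (t := b * z * a) hx
    (by simp [add_mul, ← mul_assoc, h.ab, h.bb]) (by simp [mul_add, mul_assoc, h.ab, h.aa])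
    (by simp only [← mul_assoc, mul_assoc _ a b, h.ab, mul_zero, zero_mul])
  rw [← k3]
  refine k1 _ k2 fun h0 => hz ?_
  simp only [mul_add, add_mul, hne, zero_add, ← mul_assoc, axb, mul_assoc _ a a, h.aa] at h0
  rw [← h.aa, mul_assoc, mul_assoc, hφ.symm, ← mul_assoc, h0, φ.map_zero_eq_one]

end CL.KGA.K99
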