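import Cfsg.Agent.KGV.K99a

/-! The Kondo recursion in a finite ring. -/

set_option autoImplicit false

namespace CL.KGA.K99
open Finset
open scoped ComplexConjugate

variable {C : Type*} [Ring C] [Fintype C] {φ : AddChar C ℂ} {χ : C → ℂ}

omit [Fintype C] in
theorem Mu.one (hχ : Mu χ) : χ 1 = 1 := by simpa using hχ.uni 0 (by simp)

omit [Fintype C] in
theorem mu_one : Mu (fun _ : C => (1 : ℂ)) := ⟨fun _ _ _ _ => by simp, fun _ _ => rfl⟩

theorem G_zero : G (0 : C) = {0} := by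
  ext x
  rw [mem_G, mem_singleton]
  exact ⟨fun h => by simpa using h.1.1.symm, by rintro rfl; simp⟩

open Classical in
theorem G_pr {e : C} (he : Pr e) : G e = (cn e e).erase 0 := by
  ext x
  rw [mem_G, mem_erase, mem_cn]
  refine ⟨fun h => ⟨?_, h.1⟩, fun h => ⟨h.2, he.2.2 x h.2.1 h.2.2 h.1⟩⟩
  rintro rfl
  exact he.2.1 (h.2.isRegular.right.mul_right_eq_zero_iff.1 (by simp [mul_sub, he.1]))

theorem sum_G_pr (hφ : Ad φ) {e : C} (he : Pr e) {y : C} (h1 : e * y = y) (h2 : y * e = y) :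
    ∑ x ∈ G e, φ (y * x) = (open Classical in if y = 0 then ((cn e e).card : ℂ) else 0) - 1 := by
  classical
  have := sum_cn hφ he.1 he.1 y
  rw [h1, h2, ← add_sum_erase _ _ (mem_cn.2 ⟨mul_zero e, zero_mul e⟩), mul_zero,
    φ.map_zero_eq_one, ← G_pr he] at this
  rw [eq_sub_iff_add_eq, add_comm, this]

theorem G_mul (hχ : Mu χ) {e x y : C} (he : e * e = e) (hx : x ∈ G e) (hy : y ∈ G e) :
    x * y ∈ G e ∧ χ (x * y + 1 - e) = χ (x + 1 - e) * χ (y + 1 - e) := by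
  obtain ⟨⟨x1, x2⟩, xu⟩ := mem_G.1 hx
  obtain ⟨⟨y1, y2⟩, yu⟩ := mem_G.1 hy
  have : x * y + 1 - e = (x + 1 - e) * (y + 1 - e) := by
    simp only [mul_add, add_mul, mul_sub, sub_mul, mul_one, one_mul, x2, y1, he]; abel
  exact ⟨mem_G.2 ⟨⟨by rw [← mul_assoc, x1], by rw [mul_assoc, y2]⟩, this ▸ xu.mul yu⟩,
    by rw [this, hχ.mul _ _ xu yu]⟩

theorem sum_G_mul {e y : C} (he : e * e = e) (hy : y ∈ G e) (f : C → ℂ) :
    ∑ x ∈ G e, f (x * y) = ∑ x ∈ G e, f x := by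
  have hi : Set.InjOn (· * y) (G e) := fun x hx z hz h => by
    obtain ⟨⟨-, x2⟩, -⟩ := mem_G.1 hx
    obtain ⟨⟨-, z2⟩, -⟩ := mem_G.1 hz
    refine (mem_G.1 hy).2.isRegular.right ?_
    simp only [mul_add, mul_sub, mul_one, x2, z2, add_sub_cancel_right]
    exact h
  have hm : Set.MapsTo (· * y) (G e) (G e) := fun x hx => (G_mul mu_one he hx hy).1
  exact sum_nbij (· * y) hm hi (Finset.surjOn_of_injOn_of_card_le _ hm hi le_rfl) fun _ _ => rfl

theorem sum_chi (hχ : Mu χ) {e y : C} (he : e * e = e) (hy : y ∈ G e) (h : χ (y + 1 - e) ≠ 1) :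
    ∑ x ∈ G e, χ (x + 1 - e) = 0 := by
  have := sum_G_mul he hy fun x => χ (x + 1 - e)
  rw [sum_congr rfl fun x hx => (G_mul hχ he hx hy).2, ← sum_mul] at this
  by_contra h3
  exact h (mul_left_cancel₀ h3 (this.trans (mul_one _).symm))

theorem norm_pr (hφ : Ad φ) (hχ : Mu χ) (hn : ∀ u, IsUnit u → χ u * conj (χ u) = 1)
    (hc : ∀ x, conj (φ x) = φ (-x)) {e y : C} (he : Pr e) (hy : y ∈ G e) (h : χ (y + 1 - e) ≠ 1) :
    F φ χ e * conj (F φ χ e) = (cn e e).card := by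
  classical
  have ee : e ∈ G e := mem_G.2 ⟨⟨he.1, he.1⟩, by simp⟩
  rw [F, map_sum, mul_sum]
  have : ∀ z ∈ G e, (∑ x ∈ G e, φ x * χ (x + 1 - e)) * conj (φ z * χ (z + 1 - e)) =
      ∑ u ∈ G e, χ (u + 1 - e) * φ ((u - e) * z) := fun z hz => by
    rw [← sum_G_mul he.1 hz, sum_mul]
    refine sum_congr rfl fun u hu => ?_
    rw [(G_mul hχ he.1 hu hz).2, map_mul (starRingEnd ℂ), hc, sub_mul, (mem_G.1 hz).1.1, sub_eq_add_neg (u * z),
      φ.map_add_eq_mul]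
    linear_combination φ (u * z) * χ (u + 1 - e) * φ (-z) * hn _ (mem_G.1 hz).2
  rw [sum_congr rfl this, sum_comm]
  have h2 : ∀ u ∈ G e, ∑ z ∈ G e, χ (u + 1 - e) * φ ((u - e) * z) =
      (if u = e then ((cn e e).card : ℂ) else 0) - χ (u + 1 - e) := fun u hu => by
    rw [← mul_sum, sum_G_pr hφ he (by rw [mul_sub, (mem_G.1 hu).1.1, he.1])
      (by rw [sub_mul, (mem_G.1 hu).1.2, he.1])]
    by_cases h3 : u = e
    · subst h3; simp [hχ.one]
    · simp [h3, sub_eq_zero]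
  rw [sum_congr rfl h2, sum_sub_distrib, sum_chi hχ he.1 hy h, sub_zero, sum_ite_eq' , if_pos ee]

variable {V : Type*} [AddCommGroup V] [Module C V] [Finite V]

/-- number of common fixed vectors -/
noncomputable def nn (V : Type*) [AddCommGroup V] [Module C V] (d e : C) : ℕ :=
  Nat.card {v : V // e • v = v ∧ d • v = v}

omit [Fintype C] [Finite V] in
theorem nn_add {d a b : C} (h : Or a b) (hd : ∀ x, d * x = x * d) :
    nn V d (a + b) = nn V d a * nn V d b := by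
  rw [nn, nn, nn, ← Nat.card_prod]
  refine Nat.card_congr ⟨fun v => (⟨a • v.1, by rw [smul_smul, h.aa], by
      rw [smul_smul, hd, mul_smul, v.2.2]⟩, ⟨b • v.1, by rw [smul_smul, h.bb], by
      rw [smul_smul, hd, mul_smul, v.2.2]⟩), fun q => ⟨q.1.1 + q.2.1, ?_, by
      rw [smul_add, q.1.2.2, q.2.2.2]⟩, fun v => Subtype.ext ?_, fun q => ?_⟩
  · have h1 : b • q.1.1 = 0 := by rw [← q.1.2.1, smul_smul, h.ba, zero_smul]
    have h2 : a • q.2.1 = 0 := by rw [← q.2.2.1, smul_smul, h.ab, zero_smul]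
    rw [add_smul, smul_add, smul_add, h1, h2, q.1.2.1, q.2.2.1, add_zero, zero_add]
  · exact (add_smul _ _ _).symm.trans v.2.1
  · have h1 : b • q.1.1 = 0 := by rw [← q.1.2.1, smul_smul, h.ba, zero_smul]
    have h2 : a • q.2.1 = 0 := by rw [← q.2.2.1, smul_smul, h.ab, zero_smul]
    refine Prod.ext (Subtype.ext ?_) (Subtype.ext ?_)
    · simp only [smul_add, h2, q.1.2.1, add_zero]
    · simp only [smul_add, h1, q.2.2.1, zero_add]

omit [Fintype C] in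
theorem nn_le (d e : C) : nn V d e ≤ nn V 1 e :=
  Nat.card_le_card_of_injective (fun v => ⟨v.1, v.2.1, one_smul _ _⟩)
    fun _ _ h => Subtype.ext (by simpa using h)

omit [Fintype C] [Finite V] in
theorem unit_kill {e x : C} (hu : IsUnit (x + 1 - e)) {v : V} (h1 : e • v = v) (h2 : x • v = 0) :
    v = 0 := by
  refine hu.smul_left_cancel.1 ?_
  rw [sub_smul, add_smul, h1, h2, one_smul]; simp

theorem cn_le (hf : ∀ a : C, (∀ v : V, a • v = 0) → a = 0) {e : C} (he : Pr e) :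
    (cn e e).card ≤ nn V 1 e := by
  obtain ⟨v, hv⟩ : ∃ v : V, e • v ≠ 0 := by
    by_contra! h
    exact he.2.1 (hf _ h)
  rw [← Nat.card_eq_finsetCard]
  refine Nat.card_le_card_of_injective (fun x => ⟨x.1 • e • v, by
    rw [smul_smul, (mem_cn.1 x.2).1], one_smul _ _⟩) fun x y h => Subtype.ext ?_
  by_contra hne
  refine hv (unit_kill (he.2.2 (x.1 - y.1) ?_ ?_ (sub_ne_zero.2 hne)) (by rw [smul_smul, he.1]) ?_)
  · rw [mul_sub, (mem_cn.1 x.2).1, (mem_cn.1 y.2).1]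
  · rw [sub_mul, (mem_cn.1 x.2).2, (mem_cn.1 y.2).2]
  · rw [sub_smul]; exact sub_eq_zero.2 (congrArg Subtype.val h)

theorem cn_card {p k : ℕ} (hp : p.Prime) (hC : Nat.card C = p ^ k) (a b : C) :
    ∃ i, (cn a b).card = p ^ i := by
  let T : AddSubgroup C :=
    { carrier := {t | a * t = t ∧ t * b = t}
      add_mem' := fun h1 h2 => ⟨by rw [mul_add, h1.1, h2.1], by rw [add_mul, h1.2, h2.2]⟩
      zero_mem' := ⟨mul_zero _, zero_mul _⟩
      neg_mem' := fun h => ⟨by rw [mul_neg, h.1], by rw [neg_mul, h.2]⟩ }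
  obtain ⟨i, -, hi⟩ := (Nat.dvd_prime_pow hp).1 (hC ▸ T.card_addSubgroup_dvd_card)
  refine ⟨i, hi ▸ ?_⟩
  rw [← Nat.card_eq_finsetCard]
  exact Nat.card_congr (Equiv.subtypeEquivRight fun x => mem_cn)

theorem main {p k : ℕ} (hp : p.Prime) (hC : Nat.card C = p ^ k) (hφ : Ad φ) (hχ : Mu χ)
    (hn : ∀ u, IsUnit u → χ u * conj (χ u) = 1) (hi : ∀ u, IsUnit u → IsIntegral ℤ (χ u))
    (hc : ∀ x, conj (φ x) = φ (-x)) {π : ℂ} (hπ : IsIntegral ℤ π)
    (hb : ∀ x, ∃ b, IsIntegral ℤ b ∧ φ x = 1 + π * b)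
    (hf : ∀ a : C, (∀ v : V, a • v = 0) → a = 0) {d : C} (hd : ∀ x, d * x = x * d)
    (h1 : ∀ u, IsUnit u → u * (d - 1) = d - 1 → χ u = 1) (e : C) (he : e * e = e) :
    ∃ (j : ℕ) (A : ℂ), (F φ (fun _ => 1) e = p ^ j ∨ F φ (fun _ => 1) e = -p ^ j) ∧
      F φ χ e = F φ (fun _ => 1) e * A ∧ IsIntegral ℤ A ∧ ‖A‖ ^ 2 * nn V d e ≤ nn V 1 e ∧
      ((∃ x ∈ G e, χ (x + 1 - e) ≠ 1) → ∃ B, IsIntegral ℤ B ∧ A = π * B) := by
  classical
  have hpr : ∀ e, Pr e → ∃ A : ℂ, F φ (fun _ => 1) e = -1 ∧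
      F φ χ e = F φ (fun _ => 1) e * A ∧ IsIntegral ℤ A ∧ ‖A‖ ^ 2 * nn V d e ≤ nn V 1 e ∧
      ((∃ x ∈ G e, χ (x + 1 - e) ≠ 1) → ∃ B, IsIntegral ℤ B ∧ A = π * B) := fun e he => by
    have hS : F φ (fun _ => 1) e = -1 := by
      have := sum_G_pr hφ he he.1 he.1
      rw [if_neg he.2.1, zero_sub] at this
      rw [F, ← this]
      exact sum_congr rfl fun x hx => by rw [(mem_G.1 hx).1.1, mul_one]
    by_cases ht : ∃ x ∈ G e, χ (x + 1 - e) ≠ 1
    swap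
    · refine ⟨1, hS, ?_, isIntegral_one, by simpa using nn_le d e, fun h => (ht h).elim⟩
      push Not at ht
      rw [mul_one, F, F]
      exact sum_congr rfl fun x hx => by rw [ht x hx]
    obtain ⟨y, hy, hy1⟩ := ht
    choose b hb1 hb2 using hb
    have hF : -F φ χ e = π * -∑ x ∈ G e, b x * χ (x + 1 - e) := by
      rw [F, sum_congr rfl fun x _ => by rw [hb2 x, add_mul, one_mul, mul_assoc], sum_add_distrib,
        sum_chi hχ he.1 hy hy1, zero_add, ← mul_sum, mul_neg]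
    have hB : IsIntegral ℤ (-∑ x ∈ G e, b x * χ (x + 1 - e)) :=
      (IsIntegral.sum _ fun x hx => (hb1 x).mul (hi _ (mem_G.1 hx).2)).neg
    refine ⟨-F φ χ e, hS, by rw [hS]; ring, hF ▸ hπ.mul hB, ?_, fun _ => ⟨_, hB, hF⟩⟩
    have h2 : e * (d - 1) ≠ 0 := fun h => hy1 (h1 _ (mem_G.1 hy).2 (by
      rw [sub_mul, add_mul, h, ← (mem_G.1 hy).1.2, mul_assoc, h]; simp))
    have h3 := he.2.2 (e * (d - 1)) (by rw [← mul_assoc, he.1])
      (by rw [mul_assoc, sub_mul, hd, one_mul, mul_sub, ← mul_assoc, he.1, mul_sub, mul_one]) h2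
    have h4 : nn V d e = 1 := by
      rw [nn, Nat.card_eq_one_iff_exists]
      refine ⟨⟨0, smul_zero _, smul_zero _⟩, fun v => Subtype.ext (unit_kill h3 v.2.1 ?_)⟩
      rw [mul_smul, sub_smul, v.2.2, one_smul, sub_self, smul_zero]
    have h5 := norm_pr hφ hχ hn hc he hy hy1
    rw [Complex.mul_conj, Complex.normSq_eq_norm_sq] at h5
    rw [h4, norm_neg, Nat.cast_one, mul_one]
    have h6 : ‖F φ χ e‖ ^ 2 = (cn e e).card := by exact_mod_cast h5
    rw [h6]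
    exact_mod_cast cn_le hf he
  refine idem_ind hφ (P := fun e => ∃ (j : ℕ) (A : ℂ),
    (F φ (fun _ => 1) e = p ^ j ∨ F φ (fun _ => 1) e = -p ^ j) ∧
      F φ χ e = F φ (fun _ => 1) e * A ∧ IsIntegral ℤ A ∧ ‖A‖ ^ 2 * nn V d e ≤ nn V 1 e ∧
      ((∃ x ∈ G e, χ (x + 1 - e) ≠ 1) → ∃ B, IsIntegral ℤ B ∧ A = π * B)) ?_ ?_ e he
  · refine ⟨0, 1, Or.inl ?_, ?_, isIntegral_one, by simpa using nn_le d 0, ?_⟩
    · simp [F, G_zero]
    · simp [F, G_zero, hχ.one]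
    · simp [G_zero, hχ.one]
  · rintro a b h ha ⟨j, A, k1, k2, k3, k4, k5⟩
    obtain ⟨A', l1, l2, l3, l4, l5⟩ := hpr a ha
    obtain ⟨i, hi⟩ := cn_card hp hC a b
    refine ⟨i + j, A' * A, ?_, ?_, l3.mul k3, ?_, fun h0 => ?_⟩
    · rw [step hφ mu_one h, hi, l1]
      rcases k1 with k1 | k1 <;> rw [k1]
      · right; push_cast; ring
      · left; push_cast; ring
    · rw [step hφ mu_one h, step hφ hχ h, k2, l2]; ring
    · rw [nn_add h hd, nn_add h (by simp), norm_mul, Nat.cast_mul, Nat.cast_mul]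
      calc _ = (‖A'‖ ^ 2 * nn V d a) * (‖A‖ ^ 2 * nn V d b) := by ring
        _ ≤ _ := mul_le_mul l4 k4 (by positivity) (by positivity)
    · by_cases m1 : ∃ x ∈ G a, χ (x + 1 - a) ≠ 1
      · obtain ⟨B, m2, m3⟩ := l5 m1
        exact ⟨B * A, m2.mul k3, by rw [m3, mul_assoc]⟩
      by_cases m2 : ∃ x ∈ G b, χ (x + 1 - b) ≠ 1
      · obtain ⟨B, m3, m4⟩ := k5 m2
        exact ⟨A' * B, l3.mul m3, by rw [m4]; ring⟩
      push Not at m1 m2
      obtain ⟨x, hx, hx1⟩ := h0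
      exact (hx1 (triv_step hφ hχ h ha m1 m2 x hx)).elim

end CL.KGA.K99
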