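import Cfsg.Agent.KGV.I.Idem
import Mathlib.FieldTheory.Finite.Basic
import Mathlib.LinearAlgebra.Matrix.NonsingularInverse
import Mathlib.GroupTheory.Subgroup.Centralizer
import Mathlib.Algebra.CharP.Algebra

/-! The re-indexing bijection on the centralizer of a semisimple matrix. -/

set_option autoImplicit false

namespace CL.KGV.Rx

open Function CL.KGV.Idem

section gen
variable {K A ι : Type*} [Field K] [Ring A] [Algebra K A] [Fintype ι]

theorem sum_mul_P {P : ι → A} (hP : CompleteOrthogonalIdempotents P) (c : ι → K) (i : ι) :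
    (∑ j, c j • P j) * P i = c i • P i := by
  rw [Finset.sum_mul, Finset.sum_eq_single i]
  · rw [smul_mul_assoc, (hP.idem i).eq]
  · intro j _ hj
    rw [smul_mul_assoc, hP.ortho hj, smul_zero]
  · simp

theorem pow_mul_P {s e : A} {c : K} (h : s * e = c • e) (k : ℕ) : s ^ k * e = c ^ k • e := by
  induction k with
  | zero => simp
  | succ k ih => rw [pow_succ, mul_assoc, h, mul_smul_comm, ih, smul_smul, pow_succ']

theorem ext_P {P : ι → A} (hP : CompleteOrthogonalIdempotents P) {s t : A}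
    (h : ∀ i, s * P i = t * P i) : s = t := by
  rw [← mul_one s, ← mul_one t, ← hP.complete, Finset.mul_sum, Finset.mul_sum]
  exact Finset.sum_congr rfl fun i _ => h i

theorem ep_mul [Fintype K] [DecidableEq K] {s e : A} {c : K} (h : s * e = c • e) (b : K) :
    ep s b * e = if c = b then e else 0 := by
  have h1 : (s - algebraMap K A b) * e = (c - b) • e := by
    rw [sub_mul, h, ← Algebra.smul_def, sub_smul]
  rw [ep, sub_mul, one_mul, pow_mul_P h1]
  split_ifs with hc
  · rw [hc, sub_self, zero_pow (by have := Fintype.one_lt_card (α := K); omega), zero_smul,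
      sub_zero]
  · rw [FiniteField.pow_card_sub_one_eq_one _ (sub_ne_zero.2 hc), one_smul, sub_self]

end gen

variable {p : ℕ} [Fact p.Prime] {n : Type*} [Fintype n] [DecidableEq n]

omit [Fintype n] [DecidableEq n] in
theorem descend (K : Type*) [Field K] [Algebra (ZMod p) K] (z : Matrix n n K)
    (hz : ∀ i j, z i j ^ p = z i j) :
    ∃ x : Matrix n n (ZMod p), x.map (algebraMap (ZMod p) K) = z := by
  have : CharP K p := charP_of_injective_algebraMap (algebraMap (ZMod p) K).injective p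
  have h : ∀ i j, ∃ c : ZMod p, algebraMap (ZMod p) K c = z i j := fun i j => by
    obtain ⟨m, hm⟩ := (mem_bot_iff_intCast p K).1
      ((Subfield.mem_bot_iff_pow_eq_self K p).2 (hz i j))
    exact ⟨m, by rw [map_intCast, hm]⟩
  choose x hx using h
  exact ⟨Matrix.of x, Matrix.ext fun i j => hx i j⟩

theorem ex_ep (K : Type*) [Field K] [Fintype K] [Algebra (ZMod p) K] (ρ : K → K → K)
    (h1 : ∀ a b, ρ (a ^ p) (b ^ p) = ρ a b ^ p) (h2 : ∀ a, Injective (ρ a))
    (h3 : ∀ a b, ∃ i : ℕ, ρ a b = b ^ p ^ i) (g : (Matrix n n (ZMod p))ˣ)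
    (hg : g ^ Fintype.card K = g)
    (hQ : ∀ y : (Matrix n n (ZMod p))ˣ, (y ^ Fintype.card K) ^ Fintype.card K =
      y ^ Fintype.card K) :
    ∃ r : Subgroup.centralizer ({g} : Set (Matrix n n (ZMod p))ˣ) ≃
        Subgroup.centralizer ({g} : Set (Matrix n n (ZMod p))ˣ), ∀ y,
      (((r y).1 : Matrix n n (ZMod p)).map (algebraMap (ZMod p) K)) ^ Fintype.card K =
        ∑ a, ∑ b, ρ a b • (ep ((g : Matrix n n (ZMod p)).map (algebraMap (ZMod p) K)) a *
          ep (((y.1 : Matrix n n (ZMod p)).map (algebraMap (ZMod p) K)) ^ Fintype.card K) b) := by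
  classical
  have : CharP K p := charP_of_injective_algebraMap (algebraMap (ZMod p) K).injective p
  set Q := Fintype.card K with hQdef
  let M : Matrix n n (ZMod p) →+* Matrix n n K := (algebraMap (ZMod p) K).mapMatrix
  have hM : Injective M := Matrix.map_injective (algebraMap (ZMod p) K).injective
  let Fr : Matrix n n K →+* Matrix n n K := (frobenius K p).mapMatrix
  have hFM : ∀ x, Fr (M x) = M x := fun x => Matrix.ext fun i j => by
    show algebraMap (ZMod p) K (x i j) ^ p = algebraMap (ZMod p) K (x i j)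
    rw [← map_pow, ZMod.pow_card]
  have hFa : ∀ a : K, Fr (algebraMap K _ a) = algebraMap K _ (a ^ p) := fun a =>
    Matrix.ext fun i j => by
      show (algebraMap K (Matrix n n K) a i j) ^ p = _
      rw [Matrix.algebraMap_matrix_apply, Matrix.algebraMap_matrix_apply]
      split_ifs
      · rfl
      · exact zero_pow (Fact.out : p.Prime).ne_zero
  let C := Subgroup.centralizer ({g} : Set (Matrix n n (ZMod p))ˣ)
  let G : Matrix n n K := M g
  have hG : G ^ Q = G := by
    rw [← map_pow, ← Units.val_pow_eq_pow_val, hg]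
  let S : C → Matrix n n K := fun y => M (y.1 : Matrix n n (ZMod p)) ^ Q
  have hSM : ∀ y, S y = M ((y.1 ^ Q : (Matrix n n (ZMod p))ˣ) : Matrix n n (ZMod p)) :=
    fun y => by rw [Units.val_pow_eq_pow_val, map_pow]
  have hS : ∀ y, S y ^ Q = S y := fun y => by
    rw [hSM, ← map_pow, ← Units.val_pow_eq_pow_val, hQ]
  have hc : ∀ y : C, Commute G (M (y.1 : Matrix n n (ZMod p))) := fun y => by
    have h := y.2 g rfl
    exact (show Commute (g : Matrix n n (ZMod p)) y.1 from congrArg Units.val h).map M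
  have hGS : ∀ y, Commute G (S y) := fun y => (hc y).pow_right Q
  let P : C → K × K → Matrix n n K := fun y ab => ep G ab.1 * ep (S y) ab.2
  have hP : ∀ y, CompleteOrthogonalIdempotents (P y) := fun y => coi2 hG (hS y) (hGS y)
  let T : C → Matrix n n K := fun y => ∑ ab : K × K, ρ ab.1 ab.2 • P y ab
  have hTP : ∀ y ab, T y * P y ab = ρ ab.1 ab.2 • P y ab := fun y ab =>
    sum_mul_P (hP y) (fun ab => ρ ab.1 ab.2) ab
  have hGP : ∀ y ab, G * P y ab = ab.1 • P y ab := fun y ab => by
    show G * (ep G ab.1 * ep (S y) ab.2) = _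
    rw [← mul_assoc, mul_ep hG, smul_mul_assoc]
  have hSP : ∀ y ab, S y * P y ab = ab.2 • P y ab := fun y ab => by
    show S y * (ep G ab.1 * ep (S y) ab.2) = ab.2 • (ep G ab.1 * ep (S y) ab.2)
    rw [(ep_commute (hGS y) ab.1 ab.2).eq, ← mul_assoc, mul_ep (hS y), smul_mul_assoc]
  have hTQ : ∀ y, T y ^ Q = T y := fun y => ext_P (hP y) fun ab => by
    rw [pow_mul_P (hTP y ab), FiniteField.pow_card, hTP]
  have hcT : ∀ y z, Commute z G → Commute z (S y) → Commute z (T y) := fun y z h h' =>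
    Commute.sum_right _ _ _ fun ab _ =>
      ((commute_ep h _).mul_right (commute_ep h' _)).smul_right _
  have hTu : ∀ y, IsUnit (T y) := fun y => by
    refine IsUnit.of_mul_eq_one (∑ ab : K × K, (ρ ab.1 ab.2)⁻¹ • P y ab)
      (ext_P (hP y) fun ab => ?_)
    rw [mul_assoc, sum_mul_P (hP y) (fun ab => (ρ ab.1 ab.2)⁻¹), mul_smul_comm, hTP, smul_smul,
      one_mul]
    by_cases h : ρ ab.1 ab.2 = 0
    · obtain ⟨i, hi⟩ := h3 ab.1 ab.2
      have hb : ab.2 = 0 := pow_eq_zero_iff (pow_ne_zero i (Fact.out : p.Prime).ne_zero) |>.1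
        (hi.symm.trans h)
      have h4 := hSP y ab
      rw [hb, zero_smul] at h4
      have hu : IsUnit (S y) := by rw [hSM]; exact (Units.isUnit _).map M
      rw [(hu.mul_right_eq_zero).1 h4, smul_zero]
    · rw [inv_mul_cancel₀ h, one_smul]
  have hFT : ∀ y, Fr (T y) = T y := fun y => by
    have hb : Bijective fun ab : K × K => (ab.1 ^ p, ab.2 ^ p) :=
      Finite.injective_iff_bijective.1 fun a b h => Prod.ext
        ((frobenius K p).injective (congrArg Prod.fst h))
        ((frobenius K p).injective (congrArg Prod.snd h))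
    rw [map_sum]
    refine (hb.sum_comp fun ab : K × K => ρ ab.1 ab.2 • P y ab).symm.trans ?_ |>.symm
    refine Finset.sum_congr rfl fun ab _ => ?_
    rw [Algebra.smul_def, Algebra.smul_def, map_mul, hFa, h1]
    congr 1
    show ep G (ab.1 ^ p) * ep (S y) (ab.2 ^ p) = Fr (ep G ab.1 * ep (S y) ab.2)
    have e1 : Fr G = G := hFM _
    have e2 : Fr (S y) = S y := by rw [hSM, hFM]
    rw [map_mul, map_ep Fr (· ^ p) hFa, map_ep Fr (· ^ p) hFa, e1, e2]
  have ht : ∀ y, ∃ t : (Matrix n n (ZMod p))ˣ, M t = T y := fun y => by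
    obtain ⟨x, hx⟩ := descend K (T y) fun i j => congrFun (congrFun (hFT y) i) j
    have hx' : M x = T y := hx
    have hu : IsUnit x := by
      rw [Matrix.isUnit_iff_isUnit_det, isUnit_iff_ne_zero]
      intro h0
      have := (Matrix.isUnit_iff_isUnit_det _).1 (hTu y)
      rw [← hx', ← RingHom.map_det, h0, map_zero] at this
      exact not_isUnit_zero this
    exact ⟨hu.unit, hx'⟩
  choose t ht using ht
  have hct : ∀ (y : C) (z : (Matrix n n (ZMod p))ˣ), Commute (M z) (T y) → Commute z (t y) :=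
    fun y z h => Units.ext (hM (by
      rw [Units.val_mul, Units.val_mul, map_mul, map_mul, ht]; exact h.eq))
  have hgt : ∀ y, Commute g (t y) := fun y => hct y g (hcT y _ (Commute.refl _) (hGS y))
  have hyt : ∀ y : C, Commute y.1 (t y) := fun y =>
    hct y _ (hcT y _ (hc y).symm ((Commute.refl _).pow_right Q))
  let r : C → C := fun y => ⟨y.1 * (y.1 ^ Q)⁻¹ * t y, by
    intro g' hg'
    rw [Set.mem_singleton_iff.1 hg']
    have h : Commute g y.1 := y.2 g rfl
    exact ((h.mul_right (h.pow_right Q).inv_right).mul_right (hgt y)).eq⟩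
  have hr : ∀ y, M ((r y).1 : Matrix n n (ZMod p)) ^ Q = T y := fun y => by
    have h5 : (y.1 * (y.1 ^ Q)⁻¹ * t y) ^ Q = t y ^ Q := by
      rw [((hyt y).mul_left ((hyt y).pow_left Q).inv_left).mul_pow,
        ((Commute.refl y.1).pow_right Q).inv_right.mul_pow, inv_pow, hQ, mul_inv_cancel, one_mul]
    rw [← map_pow, ← Units.val_pow_eq_pow_val]
    show M ((y.1 * (y.1 ^ Q)⁻¹ * t y) ^ Q : (Matrix n n (ZMod p))ˣ) = _
    rw [h5, Units.val_pow_eq_pow_val, map_pow, ht, hTQ]
  have hrec : ∀ y, S y = ∑ ab : K × K, ab.2 • (ep G ab.1 * ep (T y) (ρ ab.1 ab.2)) := fun y =>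
    ext_P (hP y) fun cd => by
      rw [hSP, Finset.sum_mul, Finset.sum_eq_single cd]
      · rw [smul_mul_assoc, mul_assoc, ep_mul (hTP y cd), if_pos rfl, ep_mul (hGP y cd),
          if_pos rfl]
      · intro ab _ hab
        rw [smul_mul_assoc, mul_assoc, ep_mul (hTP y cd)]
        split_ifs with h
        · rw [ep_mul (hGP y cd), if_neg, smul_zero]
          intro h'
          rw [h'] at h
          exact hab (Prod.ext h'.symm (h2 _ h).symm)
        · rw [mul_zero, smul_zero]
      · simp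
  have hinj : Injective r := fun y z h => by
    have hT : T y = T z := by rw [← hr, ← hr, h]
    have h6 : y.1 ^ Q = z.1 ^ Q := Units.ext (hM (by rw [← hSM, ← hSM, hrec, hrec, hT]))
    have h7 : t y = t z := Units.ext (hM (by rw [ht, ht, hT]))
    have h8 : y.1 * (y.1 ^ Q)⁻¹ * t y = z.1 * (z.1 ^ Q)⁻¹ * t z := congrArg Subtype.val h
    rw [h6, h7] at h8
    exact Subtype.ext (mul_right_cancel (mul_right_cancel h8))
  refine ⟨Equiv.ofBijective r (Finite.injective_iff_bijective.1 hinj), fun y => ?_⟩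
  rw [← Fintype.sum_prod_type']
  exact hr y

theorem ex (K : Type*) [Field K] [Fintype K] [Algebra (ZMod p) K] (ρ : K → K → K)
    (h1 : ∀ a b, ρ (a ^ p) (b ^ p) = ρ a b ^ p) (h2 : ∀ a, Injective (ρ a))
    (h3 : ∀ a b, ∃ i : ℕ, ρ a b = b ^ p ^ i) (g : (Matrix n n (ZMod p))ˣ)
    (hg : g ^ Fintype.card K = g)
    (hQ : ∀ y : (Matrix n n (ZMod p))ˣ, (y ^ Fintype.card K) ^ Fintype.card K =
      y ^ Fintype.card K) :
    ∃ r : Subgroup.centralizer ({g} : Set (Matrix n n (ZMod p))ˣ) ≃
        Subgroup.centralizer ({g} : Set (Matrix n n (ZMod p))ˣ), ∀ y,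
      (((r y).1 : Matrix n n (ZMod p)).map (algebraMap (ZMod p) K)) ^ Fintype.card K =
        ∑ a, ∑ b, ρ a b • ((1 - ((g : Matrix n n (ZMod p)).map (algebraMap (ZMod p) K) -
          a • 1) ^ (Fintype.card K - 1)) *
          (1 - (((y.1 : Matrix n n (ZMod p)).map (algebraMap (ZMod p) K)) ^ Fintype.card K -
            b • 1) ^ (Fintype.card K - 1))) := by
  obtain ⟨r, hr⟩ := ex_ep K ρ h1 h2 h3 g hg hQ
  refine ⟨r, fun y => ?_⟩
  rw [hr y]
  simp only [ep, Algebra.algebraMap_eq_smul_one]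

end CL.KGV.Rx
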