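import Cfsg.Agent.KGV.Z81.Calc
import Cfsg.Agent.KGV.Rx
import Cfsg.Agent.KGV.NT
import Cfsg.Agent.KGV.H1
import Cfsg.Agent.KGV.Big
import Cfsg.Agent.KGV.Idem
import Cfsg.Agent.KGV.Tr

set_option autoImplicit false
set_option linter.unusedSectionVars false

namespace CL.KGV.M19

open Finset Polynomial CL.KGV.Idem CL.KGV.Z81 Matrix

/-- the pairing data on a finite field -/
def PairSt (p : ℕ) [Fact p.Prime] (K : Type) [Field K] [Fintype K] [Algebra (ZMod p) K] : Prop :=
    ∃ (l : K → ℕ) (ρ : K → K → K),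
      (∀ a b, ρ (a ^ p) (b ^ p) = ρ a b ^ p) ∧ (∀ a, Function.Injective (ρ a)) ∧
      (∀ a b, ∃ i : ℕ, ρ a b = b ^ p ^ i) ∧
      (∀ m : K → K → ℕ, (∀ a b, m (a ^ p) (b ^ p) = m a b) → (∀ b, m 0 b = 0) → (∀ a, m a 0 = 0) →
        ∏ a, ∏ b, a ^ (l b * m a b) = ∏ a, ∏ b, ρ a b ^ (l a * m a b)) ∧
      (∀ m : K → K → ℕ, (∀ a b, m (a ^ p) (b ^ p) = m a b) → (∀ b, m 0 b = 0) → (∀ a, m a 0 = 0) →
        ∑ a, ∑ b, (m a b : K) * ρ a b = ∑ a, ∑ b, (m a b : K) * b) ∧
      l 1 = 0 ∧
      ∀ a : K, a ≠ 0 → ∃ j : ℕ, ∃ P : (ZMod p)[X],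
        (aeval (a ^ p ^ j) P) ^ (l (a ^ p ^ j)) = a ^ p ^ j ∧
          ∀ i : ℕ, a ^ p ^ i ≠ a ^ p ^ j → l (a ^ p ^ i) = 0

theorem io (K : Type) [Field K] [Finite K] : ∃ f : K →* ℂ, ∀ c, f c = 1 → c = 1 := by
  classical
  obtain ⟨ι, hι⟩ := Big.iota K
  refine ⟨⟨⟨fun c => if h : c = 0 then 0 else (ι (Units.mk0 c h) : ℂ), ?_⟩, fun a b => ?_⟩,
    fun c hc => ?_⟩
  · rw [dif_neg one_ne_zero, Units.mk0_one, map_one, Units.val_one]
  · by_cases ha : a = 0
    · simp [ha]
    by_cases hb : b = 0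
    · simp [hb]
    simp only [dif_neg ha, dif_neg hb, dif_neg (mul_ne_zero ha hb)]
    rw [Units.mk0_mul, map_mul, Units.val_mul]
  · by_cases h : c = 0
    · simp [h] at hc
    · have h1 : (ι (Units.mk0 c h) : ℂ) = 1 := by simpa [h] using hc
      have h2 : Units.mk0 c h = 1 := hι (by rw [map_one]; exact Units.ext h1)
      exact congrArg Units.val h2

variable {K : Type} [Field K] [Fintype K] {n : Type} [Fintype n] [DecidableEq n]

theorem La_pow (l : K → ℕ) {s z : Matrix n n K} (hs : s ^ Fintype.card K = s) (hw : Commute z s)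
    (k : ℕ) : La l s (z ^ k) = La l s z ^ k := by
  induction k with
  | zero => simp [La_one]
  | succ k ih => rw [pow_succ, La_mul l hs hw, ih, pow_succ]

theorem ep_zero {s t : Matrix n n K} (hs : s ^ Fintype.card K = s) (ht : t * s = 1) :
    ep s (0 : K) = 0 := by
  have h := mul_ep hs (0 : K)
  rw [zero_smul] at h
  rw [← one_mul (ep s (0 : K)), ← ht, mul_assoc, h, mul_zero]

variable {p : ℕ} [Fact p.Prime] [CharP K p]

theorem ep_frob {s : Matrix n n K} (hs : s.map (frobenius K p) = s) (a : K) :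
    (ep s a).map (frobenius K p) = ep s (a ^ p) := by
  have h := map_ep (F := K) (frobenius K p).mapMatrix (fun a => a ^ p) (fun a => by
    ext i j
    by_cases hij : i = j <;> simp [Matrix.algebraMap_matrix_apply, hij, frobenius_def,
      (Fact.out : p.Prime).ne_zero]) s a
  simp only [RingHom.mapMatrix_apply] at h
  rw [h, hs]

theorem nt (l : K → ℕ) [Algebra (ZMod p) K]
    (hl : ∀ a : K, a ≠ 0 → ∃ j : ℕ, ∃ P : (ZMod p)[X],
        (aeval (a ^ p ^ j) P) ^ (l (a ^ p ^ j)) = a ^ p ^ j ∧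
          ∀ i : ℕ, a ^ p ^ i ≠ a ^ p ^ j → l (a ^ p ^ i) = 0)
    {g t : Matrix n n K} (hg : g ^ Fintype.card K = g) (ht : t * g = 1)
    (hF : g.map (frobenius K p) = g) (h1 : g ≠ 1) :
    ∃ x : Matrix n n K, x.map (frobenius K p) = x ∧ x * g = g * x ∧ IsUnit x.det ∧ La l g x ≠ 1 := by
  classical
  obtain ⟨a, ha1, ha⟩ : ∃ a : K, a ≠ 1 ∧ ep g a ≠ 0 := by
    by_contra hc
    push Not at hc
    apply h1
    rw [← sum_ep hg, ← (coi hg).complete]
    refine Finset.sum_congr rfl fun a _ => ?_
    by_cases h : a = 1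
    · rw [h, one_smul]
    · rw [hc a h, smul_zero]
  have ha0 : a ≠ 0 := by rintro rfl; exact ha (ep_zero hg ht)
  obtain ⟨j, P, hP, hz⟩ := hl a ha0
  have hne : ∀ i : ℕ, ep g (a ^ p ^ i) ≠ 0 := fun i => by
    induction i with
    | zero => simpa using ha
    | succ i ih =>
      rw [pow_succ, pow_mul, ← ep_frob hF]
      intro h
      apply ih
      ext u v
      have := congrFun (congrFun h u) v
      simpa using this
  have h01 : a ^ p ^ j ≠ 1 := fun h => ha1 (by
    have := (iterateFrobenius K p j).injective (a₁ := a) (a₂ := 1) (by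
      rw [iterateFrobenius_def, h, map_one])
    exact this)
  have hb : aeval (a ^ p ^ j) P ≠ 0 := fun h => by
    rw [h] at hP
    by_cases h2 : l (a ^ p ^ j) = 0
    · rw [h2, pow_zero] at hP; exact h01 hP.symm
    · rw [zero_pow h2] at hP; exact pow_ne_zero _ ha0 hP.symm
  have hab : ∀ k, (a ^ p ^ j) ^ p ^ k = a ^ p ^ j →
      (aeval (a ^ p ^ j) P) ^ p ^ k = aeval (a ^ p ^ j) P := fun k hk => by
    let σ : K →ₐ[ZMod p] K := { iterateFrobenius K p k with
      commutes' := fun r => by
        show (algebraMap (ZMod p) K r) ^ p ^ k = _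
        rw [← map_pow, ZMod.pow_card_pow] }
    have h3 := aeval_algHom_apply σ (a ^ p ^ j) P
    have h4 : σ (a ^ p ^ j) = a ^ p ^ j := hk
    rw [h4] at h3
    exact h3.symm
  obtain ⟨x, hx1, hx2, hx3, hx4, hx5⟩ := NT.ex p g (fun a => ep g a) (fun a => ((coi hg).idem a).eq)
    (fun a c h => (coi hg).ortho h) (ep_frob hF) (mul_ep hg)
    (fun a => by rw [← (commute_ep (Commute.refl g) a).eq, mul_ep hg]) (hne j) hb hab
  refine ⟨x, hx1, hx2, hx3, ?_⟩
  rw [La, Finset.prod_eq_single (a ^ p ^ j)]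
  · rw [← add_sub_assoc, hx4, hP]; exact h01
  · intro c _ hc
    by_cases h : ∃ k, c = (a ^ p ^ j) ^ p ^ k
    · obtain ⟨k, rfl⟩ := h
      rw [← pow_mul, ← pow_add] at hc ⊢
      rw [hz _ hc, pow_zero]
    · push Not at h
      rw [← add_sub_assoc, hx5 c h, one_pow]
  · simp

theorem mat_of (p : ℕ) [Fact p.Prime]
    (hP : ∀ (K : Type) [Field K] [Fintype K] [Algebra (ZMod p) K], PairSt p K) : Tr.Mat p := by
  classical
  intro n
  obtain ⟨k, hk, hQ, hQ'⟩ := Big.ex p (GL (Fin n) (ZMod p))
  let K := GaloisField p k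
  letI : Fintype K := Fintype.ofFinite K
  have hK : Fintype.card K = p ^ k := by
    rw [← Nat.card_eq_fintype_card]; exact GaloisField.card p k hk
  rw [← hK] at hQ hQ'
  obtain ⟨l, ρ, r1, r2, r3, r4, r5, l1, l2⟩ := hP K
  obtain ⟨f, hf⟩ := io K
  let φ : Matrix (Fin n) (Fin n) (ZMod p) →+* Matrix (Fin n) (Fin n) K :=
    (algebraMap (ZMod p) K).mapMatrix
  let B : GL (Fin n) (ZMod p) →* Matrix (Fin n) (Fin n) K := φ.toMonoidHom.comp (Units.coeHom _)
  have hB : ∀ y, B y = (y.1).map (algebraMap (ZMod p) K) := fun y => rfl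
  have hBF : ∀ y, (B y).map (frobenius K p) = B y := fun y => by
    ext i j
    simp only [hB, Matrix.map_apply, frobenius_def]
    rw [← map_pow, ZMod.pow_card]
  have hs : ∀ y, (B y ^ Fintype.card K) ^ Fintype.card K = B y ^ Fintype.card K := fun y => by
    rw [← map_pow, ← map_pow, hQ]
  have hc : ∀ a y, a * y = y * a → Commute (B a) (B y) := fun a y h => by
    show B a * B y = B y * B a
    rw [← map_mul, h, map_mul]
  have hQ1 : 1 < Fintype.card K := Fintype.one_lt_card
  refine ⟨Fintype.card K - 1, ?_, fun y a => f (La l (B y ^ Fintype.card K) (B a)),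
    fun y a b _ hb => ?_, fun y => ?_, fun y g a _ => ?_, fun g m hm hg => ?_⟩
  · intro h
    have h2 : p ∣ Fintype.card K := hK ▸ dvd_pow_self p hk
    have h3 : p ∣ 1 := by
      have := (Nat.dvd_sub h2 h)
      rwa [show Fintype.card K - (Fintype.card K - 1) = 1 by omega] at this
    exact (Fact.out : p.Prime).one_lt.ne' (Nat.dvd_one.1 h3)
  · simp only [map_mul]
    rw [La_mul l (hs y) ((hc _ _ hb).pow_right _), map_mul]
  · simp only [map_one, La_one]
  · have h := La_conj l (Units.map φ.toMonoidHom g) (B y ^ Fintype.card K) (B a)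
    rw [← Units.conj_pow] at h
    simp only [map_mul]
    exact congrArg f h
  · have hg1 : g ^ Fintype.card K = g := hQ' g m hm hg
    have hG : B g ^ Fintype.card K = B g := by rw [← map_pow, hg1]
    have hinv : ∀ y, B y⁻¹ * B y = 1 := fun y => by rw [← map_mul, inv_mul_cancel, map_one]
    simp only [hG]
    refine ⟨fun x hx => ?_, fun x hx hx' => ?_, fun h1 => ?_, ?_⟩
    · have h0 : La l (B g) (B x) ≠ 0 := fun h => by
        have h2 := La_mul l hG (z := B x⁻¹) (hc _ _ hx)
        rw [hinv, La_one, h, mul_zero] at h2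
        exact one_ne_zero h2
      rw [← map_pow, FiniteField.pow_card_sub_one_eq_one _ h0, map_one]
    · have hx2 : B x * (B g - 1) = B g - 1 := by
        have := congrArg φ hx'
        rw [map_mul, map_sub, map_one] at this
        exact this
      have : La l (B g) (B x) = 1 := by
        refine Finset.prod_eq_one fun a _ => ?_
        by_cases ha : a = 1
        · rw [ha, l1, pow_zero]
        · have h3 : B x * ep (B g) a = ep (B g) a := H1.fix (B g) (B x) hG hx2 ha
          rw [h3, add_sub_cancel, det_one, one_pow]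
      rw [this, map_one]
    · have hinj : Function.Injective φ := fun u v h => by
        ext i j
        exact (algebraMap (ZMod p) K).injective (congrFun (congrFun h i) j)
      obtain ⟨x, hx1, hx2, hx3, hx4⟩ := nt l l2 hG (hinv g) (hBF g) (fun h => h1 (Units.ext (hinj
        (by rw [Units.val_one, map_one]; exact h))))
      obtain ⟨y, rfl⟩ := Big.desc p x hx1
      have hy : y.det ≠ 0 := fun h => by
        have h5 : (y.map (algebraMap (ZMod p) K)).det = algebraMap (ZMod p) K y.det :=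
          ((algebraMap (ZMod p) K).map_det y).symm
        rw [h5, h, map_zero] at hx3
        exact not_isUnit_zero hx3
      refine ⟨GeneralLinearGroup.mkOfDetNeZero y hy, Units.ext (hinj ?_), fun h => hx4 (hf _ h)⟩
      rw [Units.val_mul, Units.val_mul, map_mul, map_mul]
      exact hx2
    · obtain ⟨r, hr⟩ := Rx.ex_ep K ρ r1 r2 r3 g hg1 hQ
      let q : Subgroup.centralizer ({g} : Set (GL (Fin n) (ZMod p))) ≃ {x // x * g = g * x} :=
        Equiv.subtypeEquivRight fun a => Subgroup.mem_centralizer_singleton_iff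
      refine ⟨(q.symm.trans r).trans q, fun x => ?_⟩
      set z : GL (Fin n) (ZMod p) := (r (q.symm x)).1 with hz
      have hzg : z * g = g * z := Subgroup.mem_centralizer_singleton_iff.1 (r (q.symm x)).2
      have hcm : Commute (B g) (B x.1 ^ Fintype.card K) := (hc _ _ x.2).symm.pow_right _
      have hz1 : B z ^ Fintype.card K = J (coi2 hG (hs x.1) hcm) fun i => ρ i.1 i.2 := by
        rw [J_apply, Fintype.sum_prod_type]
        exact hr (q.symm x)
      let μ : K → K → ℕ := fun a b => (ep (B g) a * ep (B x.1 ^ Fintype.card K) b).rank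
      have hsF : (B x.1 ^ Fintype.card K).map (frobenius K p) = B x.1 ^ Fintype.card K := by
        rw [← map_pow]; exact hBF _
      have m1 : ∀ a b, μ (a ^ p) (b ^ p) = μ a b := fun a b => by
        simp only [μ]
        rw [← ep_frob (hBF g), ← ep_frob hsF, ← Matrix.map_mul, IdM.rank_map]
      have m2 : ∀ b, μ 0 b = 0 := fun b => by
        simp only [μ]
        rw [ep_zero hG (hinv g), zero_mul, rank_zero]
      have m3 : ∀ a, μ a 0 = 0 := fun a => by
        simp only [μ]
        rw [ep_zero (hs x.1) (t := B (x.1 ^ Fintype.card K)⁻¹) (by rw [← map_pow]; exact hinv _),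
          mul_zero, rank_zero]
      show f (La l (B x.1 ^ Fintype.card K) (B g)) = f (La l (B g) (B z)) ∧ z.1.trace = x.1.1.trace
      constructor
      · congr 1
        have e1 := La_J l (coi2 hG (hs x.1) hcm) Prod.snd Prod.fst
        have e2 := La_J l (coi2 hG (hs x.1) hcm) Prod.fst fun i => ρ i.1 i.2
        rw [J_fst hG (hs x.1) hcm, J_snd hG (hs x.1) hcm, Fintype.prod_prod_type] at e1
        rw [J_fst hG (hs x.1) hcm, ← hz1, La_pow l hG (hc _ _ hzg), FiniteField.pow_card,
          Fintype.prod_prod_type] at e2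
        rw [e1, e2]
        exact r4 μ m1 m2 m3
      · apply (algebraMap (ZMod p) K).injective
        have e0 : ∀ y : GL (Fin n) (ZMod p), algebraMap (ZMod p) K y.1.trace =
            (B y ^ Fintype.card K).trace := fun y => by
          rw [FiniteField.trace_pow_card, FiniteField.pow_card, hB]
          simp [Matrix.trace]
        have e1 := trace_J (coi2 hG (hs x.1) hcm) Prod.snd
        have e2 := trace_J (coi2 hG (hs x.1) hcm) fun i => ρ i.1 i.2
        rw [J_snd hG (hs x.1) hcm, Fintype.sum_prod_type] at e1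
        rw [← hz1, Fintype.sum_prod_type] at e2
        rw [e0, e0, e1, e2]
        exact r5 μ m1 m2 m3

end CL.KGV.M19
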