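import Cfsg.Agent.KGV.Idem
import Cfsg.Agent.KGV.Rx
import Cfsg.Agent.KGV.NT
import Cfsg.Agent.KGV.H1

set_option autoImplicit false

namespace CL.KGV.M46

open Matrix CL.KGV.IdM

variable {K : Type*} [Field K] [Fintype K] {n : Type*} [Fintype n] [DecidableEq n]

theorem mul_E {A : Type*} [Ring A] {a b E : A} (hE : E * E = E) (hb : Commute b E) :
    (a * E + 1 - E) * (b * E + 1 - E) = a * b * E + 1 - E := by
  have h1 : E * (b * E) = b * E := by rw [← mul_assoc, ← hb.eq, mul_assoc, hE]
  simp only [mul_sub, sub_mul, mul_add, add_mul, mul_one, one_mul, mul_assoc, h1, hE]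
  abel

theorem pow_E {A : Type*} [Ring A] {b E : A} (hE : E * E = E) (hb : Commute b E) (k : ℕ) :
    (b * E + 1 - E) ^ k = b ^ k * E + 1 - E := by
  induction k with
  | zero => simp
  | succ k ih => rw [pow_succ, ih, mul_E hE hb, pow_succ]

/-- the pairing with values in `K` -/
noncomputable def D (l : K → ℕ) (z a : Matrix n n K) : K :=
  ∏ b : K, (a * pr b z + 1 - pr b z).det ^ l b

theorem D_mul (l : K → ℕ) {z a c : Matrix n n K} (hz : z ^ Fintype.card K = z) (hc : Commute c z) :
    D l z (a * c) = D l z a * D l z c := by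
  unfold D
  rw [← Finset.prod_mul_distrib]
  refine Finset.prod_congr rfl fun b _ => ?_
  rw [← mul_pow, ← det_mul, mul_E ((pr_coi hz).idem b).eq (comm_pr hc b)]

theorem D_one (l : K → ℕ) (z : Matrix n n K) : D l z 1 = 1 := by
  simp [D]

theorem pr_conj (u : (Matrix n n K)ˣ) (b : K) (z : Matrix n n K) :
    pr b (u.1 * z * (u⁻¹).1) = u.1 * pr b z * (u⁻¹).1 := by
  have : u.1 * z * (u⁻¹).1 - algebraMap K _ b = u.1 * (z - algebraMap K _ b) * (u⁻¹).1 := by
    rw [mul_sub, sub_mul, ← Algebra.commutes b u.1, mul_assoc _ u.1, Units.mul_inv, mul_one]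
  rw [pr, pr, this, Units.conj_pow, mul_sub, sub_mul, mul_one, Units.mul_inv]

theorem D_conj (l : K → ℕ) (u : (Matrix n n K)ˣ) (z a : Matrix n n K) :
    D l (u.1 * z * (u⁻¹).1) (u.1 * a * (u⁻¹).1) = D l z a := by
  unfold D
  refine Finset.prod_congr rfl fun b _ => ?_
  rw [pr_conj, ← det_units_conj u (a * pr b z + 1 - pr b z)]
  congr 2
  simp only [mul_sub, sub_mul, mul_add, add_mul, mul_one, mul_assoc, Units.mul_inv,
    Units.inv_mul_cancel_left]

theorem D_fix (l : K → ℕ) (hl : l 1 = 0) {g x : Matrix n n K} (hg : g ^ Fintype.card K = g)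
    (hx : x * (g - 1) = g - 1) : D l g x = 1 := by
  refine Finset.prod_eq_one fun b _ => ?_
  by_cases hb : b = 1
  · rw [hb, hl, pow_zero]
  · rw [pr, H1.fix1 g x hg hx hb, det_one, one_pow]

theorem pr_zero {g : Matrix n n K} (hu : IsUnit g) (hg : g ^ Fintype.card K = g) :
    pr (0 : K) g = 0 := by
  have := mul_pr hg (0 : K)
  rw [zero_smul] at this
  exact hu.mul_right_eq_zero.1 this

theorem D_left (l : K → ℕ) {g z : Matrix n n K} (h : Commute g z) (hg : g ^ Fintype.card K = g)
    (hz : z ^ Fintype.card K = z) :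
    D l z g = ∏ a : K, ∏ b : K, a ^ (l b * (pr a g * pr b z).rank) := by
  unfold D
  rw [Finset.prod_comm]
  refine Finset.prod_congr rfl fun b _ => ?_
  rw [det_pr h hg hz, ← Finset.prod_pow]
  refine Finset.prod_congr rfl fun a _ => ?_
  rw [← pow_mul, mul_comm]

theorem D_right (l : K → ℕ) (ρ : K → K → K) {g z x : Matrix n n K} (h : Commute g z)
    (hg : g ^ Fintype.card K = g) (hz : z ^ Fintype.card K = z) (hx : Commute x g)
    (e : x ^ Fintype.card K = ∑ a, ∑ b, ρ a b • (pr a g * pr b z)) :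
    D l g x = ∏ a : K, ∏ b : K, ρ a b ^ (l a * (pr a g * pr b z).rank) := by
  classical
  unfold D
  refine Finset.prod_congr rfl fun a _ => ?_
  have ho : OrthogonalIdempotents fun b : K => pr a g * pr b z :=
    ⟨fun b => (pr_pr_coi h hg hz).idem (a, b), fun b c hbc =>
      (pr_pr_coi h hg hz).ortho (i := (a, b)) (j := (a, c)) fun e => hbc (congrArg Prod.snd e)⟩
  have h1 : ∑ b : K, pr a g * pr b z = pr a g := by
    rw [← Finset.mul_sum, (pr_coi hz).complete, mul_one]
  have h2 : x ^ Fintype.card K * pr a g = ∑ b, ρ a b • (pr a g * pr b z) := by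
    rw [e, Finset.sum_mul, Finset.sum_eq_single a, Finset.sum_mul]
    · refine Finset.sum_congr rfl fun b _ => ?_
      rw [smul_mul_assoc, mul_assoc, ← (comm_pr_pr h a b).eq, ← mul_assoc,
        ((pr_coi hg).idem a).eq]
    · intro c _ hc
      rw [Finset.sum_mul]
      refine Finset.sum_eq_zero fun b _ => ?_
      rw [smul_mul_assoc, mul_assoc, ← (comm_pr_pr h a b).eq, ← mul_assoc,
        (pr_coi hg).ortho hc, zero_mul, smul_zero]
    · simp
  rw [← FiniteField.pow_card (det _), ← det_pow, pow_E ((pr_coi hg).idem a).eq (comm_pr hx a), h2]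
  conv_lhs => rw [← h1]
  simp only [h1]
  have := det_sum' ho (ρ a) Finset.univ
  rw [h1] at this
  rw [this, ← Finset.prod_pow]
  refine Finset.prod_congr rfl fun b _ => ?_
  rw [← pow_mul, mul_comm]

theorem tr_pow (x : Matrix n n K) : (x ^ Fintype.card K).trace = x.trace := by
  rw [FiniteField.trace_pow_card, FiniteField.pow_card]

theorem exists_pr {g : Matrix n n K} (hg : g ^ Fintype.card K = g) (h1 : g ≠ 1) :
    ∃ a : K, a ≠ 1 ∧ pr a g ≠ 0 := by
  by_contra! h
  apply h1
  have e1 := eq_sum hg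
  have e2 := (pr_coi hg).complete
  rw [Finset.sum_eq_single 1 (fun a _ ha => by rw [h a ha, smul_zero]) (by simp), one_smul] at e1
  rw [Finset.sum_eq_single 1 (fun a _ ha => h a ha) (by simp)] at e2
  exact e1.trans e2

end CL.KGV.M46
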