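import Cfsg.Agent.BLK.NormDef
import Cfsg.Agent.ORD.BlkCls

/-! Blocks with a normal defect group: the character counts from a class number bound. -/

set_option autoImplicit false
open Cfsg Subgroup CL.Char CL.Blk

namespace CL.KGV.ND44

universe u

/-- the class number of the inertial quotient -/
noncomputable abbrev kk {T : Type u} [Group T] (D : Subgroup T) [D.Normal] (ζ : D → ℂ) : ℕ :=
  Nat.card (ConjClasses (inertia D ζ ⧸
    (D ⊔ centralizer (D : Set T)).subgroupOf (inertia D ζ)))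

/-- the group-theoretic half -/
def Grp (p : ℕ) : Prop := ∀ (T : Type u) [Group T] [Finite T] (D : Subgroup T) [D.Normal],
  IsPGroup p D → ¬ p ∣ (D ⊔ centralizer (D : Set T)).index →
  ∀ (ι : Type u) [Fintype ι] (ζ : ι → IrrCharacter D),
    (∀ i j (t : T), conjN D t (ζ i).1 = (ζ j).1 → i = j) →
    ∑ i, kk D (ζ i).1 ≤ Nat.card D ∧
      ((∀ i, (ζ i).1 1 = 1) → ∑ i, kk D (ζ i).1 ≤ (commutator D).index)

theorem card_over_le {G : Type u} [Group G] [Finite G] (N : Subgroup G) [N.Normal] [Fintype N]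
    {θ : N → ℂ} (hθ : IsIrrCharacter N θ) :
    Nat.card (overSet N θ) ≤
      Nat.card (ConjClasses (inertia N θ ⧸ N.subgroupOf (inertia N θ))) := by
  have := Fintype.ofFinite G
  have h := le_inertia (N := N) hθ.isClassFunction
  have := Fintype.ofFinite (N.subgroupOf (inertia N θ))
  refine le_trans ?_ (CL.Ord.PC.card_overSet_le (N.subgroupOf (inertia N θ)) (hθ.subOf h)
    (inertia_subOf_eq_top h le_rfl))
  choose f h1 h2 h3 using fun χ : overSet N θ => clifford_ind_surj h hθ le_rfl χ.1.2 χ.2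
  refine Nat.card_le_card_of_injective (fun χ => ⟨⟨f χ, h1 χ⟩, ?_⟩) fun a b e => ?_
  · rw [mem_overSet, classInner_res_subOf h]
    exact (h3 χ).symm ▸ χ.2
  · have : f a = f b := congrArg (fun x => x.1.1) e
    exact Subtype.ext (Subtype.ext (by rw [← h2 a, ← h2 b, this]))

variable {p : ℕ} {M : Ideal AlgInt}

theorem exists_inj {G : Type u} [Group G] [Finite G] {B : Set (IrrCharacter G)} {D : Subgroup G}
    (hM : IsPModular p M) (hG : D ⊔ centralizer (D : Set G) = ⊤)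
    (hB : IsPBlock M B) (hBD : IsDefectGroup p M B D) :
    ∃ (c : ℂ) (α : B → IrrCharacter D), c ≠ 0 ∧ Function.Injective α ∧
      ∀ (θ : B) (y : D), θ.1.1 y = c * (α θ).1 y := by
  have := normal_of_sup_centralizer hG
  have h1r : ¬ p ∣ orderOf (1 : G) := by rw [orderOf_one]; exact hM.1.not_dvd_one
  obtain ⟨χ, hχ, hk⟩ := exists_mem_block_ker hM hB D hBD.isPGroup
  choose α hα using fun θ : B => exists_irr_of_mem_of_sup hM hG hB hBD hχ hk θ.2
  refine ⟨χ.1 1, α, χ.2.one_ne_zero, fun θ θ' h => ?_, fun θ y => ?_⟩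
  · refine Subtype.ext (Subtype.ext (eq_of_forall_pairs (D := D) hM.1
      (fun g y hy hn => irr_eq_zero_of_notMem_normal hM hB hBD θ.2 hy hn)
      (fun g y hy hn => irr_eq_zero_of_notMem_normal hM hB hBD θ'.2 hy hn) fun y s hs _ => ?_))
    rw [hα θ y s hs, hα θ' y s hs, h]
  · rw [mul_comm, ← hα θ y 1 h1r, mul_one]

theorem core {G : Type u} [Group G] [Finite G] {B : Set (IrrCharacter G)} {D : Subgroup G}
    [D.Normal] (hM : IsPModular p M) (hB : IsPBlock M B) (hD : IsDefectGroup p M B D) :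
    ∃ (T : Subgroup G) (_ : D ≤ T), ¬ p ∣ (D.subgroupOf T ⊔ centralizer (D.subgroupOf T : Set T)).index ∧
      ∃ (ι : Type u) (_ : Fintype ι) (ζ : ι → IrrCharacter (D.subgroupOf T))
        (S : ι → Set (IrrCharacter G)),
        (∀ i j (t : T), conjN _ t (ζ i).1 = (ζ j).1 → i = j) ∧
        (∀ i, Nat.card (S i) ≤ kk _ (ζ i).1) ∧
        ∀ χ ∈ B, ∃ i, χ ∈ S i ∧ (blockHeight p B (χ : G → ℂ) = 0 → (ζ i).1 1 = 1) := by
  classical
  have := Fintype.ofFinite G
  have := Fintype.ofFinite D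
  set H := D ⊔ centralizer (D : Set G) with hH
  have := Fintype.ofFinite H
  have hDH : D ≤ H := le_sup_left
  obtain ⟨b, hind, hd⟩ := exists_root_block hM hB hD hDH le_sup_right
    (sup_centralizer_le_normalizer D)
  have hb := ((isInducedBlock_iff hM).1 hind).1
  obtain ⟨c, α, hc, hinj, hα⟩ := exists_inj hM
    (subgroupOf_sup_centralizer_eq_top hDH le_rfl) hb hd
  choose β hβ using fun θ : b => subOf_surjective hDH (α θ).1
  have hβi : ∀ θ, IsIrrCharacter D (β θ) := fun θ =>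
    (isIrrCharacter_subOf_iff hDH).1 ((hβ θ).symm ▸ (α θ).2)
  have hres : ∀ (θ : b) (y : D), θ.1.1 ⟨y, hDH y.2⟩ = c * β θ y := fun θ y => by
    rw [← subOf_mk hDH (β θ) y, hβ]
    exact hα θ ⟨⟨y, hDH y.2⟩, y.2⟩
  have hβinj : ∀ θ θ', β θ = β θ' → θ = θ' := fun θ θ' e =>
    hinj (Subtype.ext (by rw [← hβ, ← hβ, e]))
  set T := cjStab (sb M H b)
  have hmem : ∀ x, x ∈ T ↔ ∀ θ ∈ b, irrCj H x θ ∈ b := fun x =>
    mem_cjStab.trans ((cj_sb_eq_iff b x).trans (cjN_eB_eq_iff_forall hM hb hb x))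
  have hHT : H ≤ T := fun x hx => (hmem x).2 fun θ hθ => by
    rwa [show irrCj H x θ = θ from Subtype.ext (conjN_of_mem θ.2.isClassFunction hx)]
  have hDT : D ≤ T := hDH.trans hHT
  have hI : ¬ p ∣ H.relIndex T :=
    not_dvd_relIndex_of_root hM hD hind (by rw [normalizer_eq_top]; exact le_top)
      (isFixed_iff_le_cjStab.2 le_rfl)
  have hsub : D.subgroupOf T ⊔ centralizer (D.subgroupOf T : Set T) = H.subgroupOf T := by
    refine le_antisymm (sup_le (subgroupOf_mono _ hDH) fun x hx => (le_sup_right : _ ≤ H)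
      (mem_centralizer_iff.2 fun y hy => congrArg Subtype.val
        (mem_centralizer_iff.1 hx ⟨y, hDT hy⟩ hy))) ?_
    rintro ⟨x, hx⟩ hxH
    obtain ⟨d, hd, e, he, rfl⟩ := (MSS.mem_sup_of_normalizes_left
      (centralizer_le_normalizer _)).1 hxH
    refine mul_mem_sup (x := (⟨d, hDT hd⟩ : T)) (y := ⟨e, hHT ((le_sup_right : _ ≤ H) he)⟩) hd ?_
    exact mem_centralizer_iff.2 fun y hy => Subtype.ext (mem_centralizer_iff.1 he y hy)
  have hβcj : ∀ (θ : b) (x : G) (hx : irrCj H x θ.1 ∈ b), β ⟨_, hx⟩ = conjN D x (β θ) :=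
    fun θ x hx => funext fun y => mul_left_cancel₀ hc (by
      rw [← hres, conjN_apply, ← hres]; rfl)
  let s : Setoid b := ⟨fun θ θ' => ∃ x ∈ T, irrCj H x θ.1 = θ'.1,
    fun θ => ⟨1, T.one_mem, Subtype.ext (conjN_one _)⟩,
    fun ⟨x, hx, e⟩ => ⟨x⁻¹, T.inv_mem hx, e ▸ Subtype.ext (conjN_inv_conjN _ _)⟩,
    fun ⟨x, hx, e⟩ ⟨y, hy, e'⟩ => ⟨x * y, T.mul_mem hx hy,
      e' ▸ e ▸ Subtype.ext (conjN_mul _ _ _)⟩⟩
  refine ⟨T, hDT, hsub ▸ hI, Quotient s, Fintype.ofFinite _,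
    fun i => ⟨subOf D T (β i.out), (hβi _).subOf hDT⟩, fun i => overSet H i.out.1.1,
    fun i j t e => ?_, fun i => (card_over_le H i.out.1.2).trans (le_of_eq ?_), fun χ hχ => ?_⟩
  · have e1 : conjN D (t : G) (β i.out) = β j.out := subOf_injective hDT e
    have hx := (hmem t).1 t.2 _ i.out.2
    have e2 := hβinj _ _ ((hβcj i.out t hx).trans e1)
    exact Quotient.out_equiv_out.1 ⟨t, t.2, congrArg Subtype.val e2⟩
  · have hIT : inertia H i.out.1.1 ≤ T :=
      inertia_le_of_stab hM hb (fun x hx => mem_cjStab.2 ((cj_sb_eq_iff b x).2 hx)) i.out.2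
    have e1 : inertia (D.subgroupOf T) (subOf D T (β i.out)) =
        (inertia H i.out.1.1).subgroupOf T := by
      rw [inertia_subOf hDT]
      ext t
      have hx := (hmem t).1 t.2 _ i.out.2
      rw [mem_subgroupOf, mem_subgroupOf, mem_inertia_iff, mem_inertia_iff, ← hβcj i.out t hx]
      exact ⟨fun e => congrArg (fun x : b => x.1.1) (hβinj _ _ e),
        fun e => congrArg β (Subtype.ext (Subtype.ext e))⟩
    let e := (MulEquiv.subgroupCongr e1).trans (subgroupOfEquivOfLe hIT)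
    refine (CL.Ord.PC.k_congr (QuotientGroup.congr _ _ e ?_)).symm
    rw [hsub]
    ext x
    exact mem_map_equiv (f := e)
  · obtain ⟨θ, hθ, hne⟩ := exists_under_of_covF hM hB hb (hind.covF hM) hχ
    obtain ⟨x, hx, e⟩ : s (Quotient.mk s ⟨θ, hθ⟩).out ⟨θ, hθ⟩ := Quotient.mk_out (s := s) ⟨θ, hθ⟩
    set θ' := (Quotient.mk s ⟨θ, hθ⟩).out
    have hne' : classInner (fun n : H => (χ : G → ℂ) n) θ'.1.1 ≠ 0 := by
      rw [← classInner_res_conjN χ.2.isClassFunction x]
      have e3 : conjN H x θ'.1.1 = θ.1 := congrArg Subtype.val e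
      rwa [e3]
    refine ⟨Quotient.mk s ⟨θ, hθ⟩, hne', fun h0 => ?_⟩
    have h4 : classInner (fun n : D => θ'.1.1 (inclusion hDH n)) (β θ') ≠ 0 := by
      have : (fun y : D => θ'.1.1 (inclusion hDH y)) = c • β θ' := funext fun y => hres θ' y
      rw [this, inner_smul_self (hβi _)]
      exact hc
    have h5 := inner_comp_ne_zero_of_constituent (inclusion hDH) (χ.2.isCharacter.res H) θ'.1.2
      hne' (hβi _).isCharacter h4
    rw [blockHeight_eq_of_normal hM hB hD hχ (ζ := ⟨_, hβi θ'⟩) h5] at h0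
    exact degree_eq_one_of_isPGroup hM.1 hD.isPGroup (ζ := ⟨_, hβi θ'⟩) h0

theorem card_le_sum {X ι : Type*} [Finite X] [Fintype ι] (A : Set X) (S : ι → Set X)
    (h : ∀ x ∈ A, ∃ i, x ∈ S i) : Nat.card A ≤ ∑ i, Nat.card (S i) := by
  choose f hf using h
  rw [← Nat.card_sigma]
  exact Nat.card_le_card_of_injective (fun x : A => (⟨f x x.2, x, hf x x.2⟩ : Σ i, S i))
    fun a b e => Subtype.ext (congrArg (fun y : Σ i, S i => y.2.1) e)

theorem main (hg : Grp.{u} p) {G : Type u} [Group G] [Finite G] (hM : IsPModular p M)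
    {B : Set (IrrCharacter G)} (hB : IsPBlock M B) {D : Subgroup G} [D.Normal]
    (hD : IsDefectGroup p M B D) : Nat.card B ≤ Nat.card D ∧
      Nat.card {χ : IrrCharacter G // χ ∈ B ∧ blockHeight p B (χ : G → ℂ) = 0} ≤
        (commutator D).index := by
  classical
  obtain ⟨T, hDT, hi, ι, _, ζ, S, h1, h2, h3⟩ := core hM hB hD
  have hp : IsPGroup p (D.subgroupOf T) := hD.isPGroup.comap_subtype
  let e := subgroupOfEquivOfLe hDT
  constructor
  · refine (card_le_sum B S fun χ hχ => (h3 χ hχ).imp fun _ h => h.1).trans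
      ((Finset.sum_le_sum fun i _ => h2 i).trans ?_)
    rw [← Nat.card_congr e.toEquiv]
    exact (hg T _ hp hi ι ζ h1).1
  · have h4 := (hg T _ hp hi {i // (ζ i).1 1 = 1} (fun i => ζ i.1)
      fun i j t h => Subtype.ext (h1 _ _ t h)).2 fun i => i.2
    refine (card_le_sum {χ | χ ∈ B ∧ blockHeight p B (χ : G → ℂ) = 0}
      (fun i : {i // (ζ i).1 1 = 1} => S i.1) fun χ hχ => ?_).trans
      ((Finset.sum_le_sum fun i _ => h2 i.1).trans (h4.trans (le_of_eq ?_)))
    · obtain ⟨i, h5, h6⟩ := h3 χ hχ.1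
      exact ⟨⟨i, h6 hχ.2⟩, h5⟩
    · exact Nat.card_congr e.abelianizationCongr.toEquiv

end CL.KGV.ND44
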