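import Cfsg.Agent.KGV.Pi
import Cfsg.Agent.KGV.Big

/-! The pairing of commuting matrices: definition, multiplicativity and the re-indexing. -/

set_option autoImplicit false
open Polynomial

namespace CL.KGV.P64
open CL.KGV.Pi

variable {K : Type*} [Field K] [Fintype K] {n : Type*} [Fintype n] [DecidableEq n]

theorem trace_idem {e : Matrix n n K} (he : e * e = e) : e.trace = (dg e : K) := by
  have h3 := congrArg (aeval (X + 1 : K[X])).toRingHom (det_poly he)
  rw [RingHom.map_det] at h3
  have h4 : ((aeval (X + 1 : K[X])).toRingHom : K[X] →+* K[X]).mapMatrix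
      ((X : K[X]) • e.map C + 1 - e.map C) = 1 + (X : K[X]) • e.map C := by
    ext1 i j
    simp [Matrix.one_apply]
    split_ifs <;> ring
  rw [h4] at h3
  rw [← Matrix.coeff_det_one_add_X_smul_one, h3]
  simp [coeff_X_add_one_pow]

theorem pi_mul_eig {A : Type*} [Ring A] [Algebra K A] [DecidableEq K] {z e : A}
    (hz : z ^ Fintype.card K = z) {μ : K} (he : z * e = μ • e) (c : K) :
    pi z c * e = if c = μ then e else 0 := by
  have h0 : ∀ c : K, c ≠ μ → pi z c * e = 0 := fun c hc => by
    have h1 : pi z c * z * e = c • (pi z c * e) := by rw [pi_mul hz, smul_mul_assoc]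
    have h2 : pi z c * z * e = μ • (pi z c * e) := by rw [mul_assoc, he, mul_smul_comm]
    have h3 : (c - μ) • (pi z c * e) = 0 := by rw [sub_smul, ← h1, ← h2, sub_self]
    have h4 := congrArg (fun x => (c - μ)⁻¹ • x) h3
    simpa [smul_smul, inv_mul_cancel₀ (sub_ne_zero.2 hc)] using h4
  split_ifs with h
  · subst h
    conv_rhs => rw [← one_mul e, ← sum_pi (K := K) z, Finset.sum_mul]
    rw [Finset.sum_eq_single c (fun b _ hb => h0 b hb) (by simp)]
  · exact h0 c h

/-- the pairing, with values in the field -/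
noncomputable def lam (l : K → ℕ) (z a : Matrix n n K) : K :=
  ∏ b : K, Matrix.det (a * pi z b + 1 - pi z b) ^ l b

theorem lam_mul (l : K → ℕ) {z : Matrix n n K} (hz : z ^ Fintype.card K = z) (a : Matrix n n K)
    {b : Matrix n n K} (hb : Commute b z) : lam l z (a * b) = lam l z a * lam l z b := by
  rw [lam, lam, lam, ← Finset.prod_mul_distrib]
  refine Finset.prod_congr rfl fun c _ => ?_
  rw [det_on_mul (pi_idem hz c) (commute_pi hb c).symm, mul_pow]

theorem lam_one (l : K → ℕ) (z : Matrix n n K) : lam l z 1 = 1 := by simp [lam]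

theorem lam_conj (l : K → ℕ) (u : (Matrix n n K)ˣ) (z a : Matrix n n K) :
    lam l ((u : Matrix n n K) * z * ((u⁻¹ : (Matrix n n K)ˣ) : Matrix n n K))
      ((u : Matrix n n K) * a * ((u⁻¹ : (Matrix n n K)ˣ) : Matrix n n K)) = lam l z a := by
  refine Finset.prod_congr rfl fun c _ => ?_
  rw [conj_pi, ← Matrix.det_units_conj u (a * pi z c + 1 - pi z c)]
  congr 2
  simp only [mul_add, add_mul, mul_sub, sub_mul, mul_one, Units.mul_inv, mul_assoc,
    Units.inv_mul_cancel_left]

theorem lam_pow (l : K → ℕ) {z : Matrix n n K} (hz : z ^ Fintype.card K = z) {a : Matrix n n K}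
    (ha : Commute a z) (k : ℕ) : lam l z (a ^ k) = lam l z a ^ k := by
  induction k with
  | zero => simp [lam_one]
  | succ k ih => rw [pow_succ, lam_mul l hz _ ha, ih, pow_succ]

theorem lam_fix (l : K → ℕ) (hl : l 1 = 0) {g x : Matrix n n K} (hg : g ^ Fintype.card K = g)
    (hx : x * (g - 1) = g - 1) : lam l g x = 1 := by
  refine Finset.prod_eq_one fun b _ => ?_
  by_cases hb : b = 1
  · rw [hb, hl, pow_zero]
  have h1 : (g - 1) * pi g b = (b - 1) • pi g b := by rw [sub_mul, mul_pi hg, one_mul, sub_smul, one_smul]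
  have h2 : (b - 1) • (x * pi g b) = (b - 1) • pi g b := by
    rw [← Matrix.mul_smul, ← h1, ← mul_assoc, hx]
  have h3 := congrArg (fun y => (b - 1)⁻¹ • y) h2
  simp only [smul_smul, inv_mul_cancel₀ (sub_ne_zero.2 hb), one_smul] at h3
  rw [h3, add_sub_cancel_left, Matrix.det_one, one_pow]

/-- joint projections -/
noncomputable def E (g z : Matrix n n K) (a b : K) : Matrix n n K := pi g a * pi z b

/-- the twisted semisimple part -/
noncomputable def S (ρ : K → K → K) (g z : Matrix n n K) : Matrix n n K :=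
  ∑ a, ∑ b, ρ a b • E g z a b

section two
variable {g z : Matrix n n K} (hg : g ^ Fintype.card K = g) (hz : z ^ Fintype.card K = z)
  (hc : Commute g z)
include hg hz hc

theorem E_mul [DecidableEq K] (a b c d : K) :
    E g z a b * E g z c d = if a = c ∧ b = d then E g z a b else 0 := by
  have : E g z a b * E g z c d = (pi g a * pi g c) * (pi z b * pi z d) := by
    rw [E, E, mul_assoc, ← mul_assoc (pi z b), ← (pi_commute hc c b).eq]
    simp only [mul_assoc]
  rw [this]
  split_ifs with h
  · rw [← h.1, ← h.2, pi_idem hg, pi_idem hz, E]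
  · rcases not_and_or.1 h with h | h
    · rw [pi_orth hg h, zero_mul]
    · rw [pi_orth hz h, mul_zero]

theorem E_idem (a b : K) : E g z a b * E g z a b = E g z a b := by
  classical
  rw [E_mul hg hz hc, if_pos ⟨rfl, rfl⟩]

theorem S_mul_E (ρ : K → K → K) (a b : K) : S ρ g z * E g z a b = ρ a b • E g z a b := by
  classical
  rw [S, Finset.sum_mul, Finset.sum_eq_single a, Finset.sum_mul, Finset.sum_eq_single b,
    smul_mul_assoc, E_idem hg hz hc]
  · intro d _ hd
    rw [smul_mul_assoc, E_mul hg hz hc, if_neg fun h => hd h.2, smul_zero]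
  · simp
  · intro c _ hca
    rw [Finset.sum_mul]
    refine Finset.sum_eq_zero fun d _ => ?_
    rw [smul_mul_assoc, E_mul hg hz hc, if_neg fun h => hca h.1, smul_zero]
  · simp

omit hg hz hc in
theorem sum_E (a : K) : ∑ b, E g z a b = pi g a := by
  simp only [E]; rw [← Finset.mul_sum, sum_pi, mul_one]

omit hg hz hc in
theorem sum_sum_E : ∑ a : K, ∑ b : K, E g z a b = 1 := by
  simp only [sum_E]; exact sum_pi g

theorem S_pow_mul_E (ρ : K → K → K) (a b : K) (k : ℕ) :
    S ρ g z ^ k * E g z a b = ρ a b ^ k • E g z a b := by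
  induction k with
  | zero => simp
  | succ k ih => rw [pow_succ', mul_assoc, ih, mul_smul_comm, S_mul_E hg hz hc, smul_smul, pow_succ]

theorem S_pow (ρ : K → K → K) (k : ℕ) : S ρ g z ^ k = S (fun a b => ρ a b ^ k) g z := by
  rw [← mul_one (S ρ g z ^ k), ← sum_sum_E (g := g) (z := z), Finset.mul_sum]
  simp only [Finset.mul_sum, S_pow_mul_E hg hz hc]
  rfl

theorem S_card (ρ : K → K → K) : S ρ g z ^ Fintype.card K = S ρ g z := by
  rw [S_pow hg hz hc]; simp only [FiniteField.pow_card]

theorem S_unit (ρ : K → K → K) (hρ : ∀ a b, b ≠ 0 → ρ a b ≠ 0) (hu : IsUnit z) :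
    S ρ g z ^ (Fintype.card K - 1) = 1 := by
  rw [S_pow hg hz hc, ← sum_sum_E (g := g) (z := z), S]
  refine Finset.sum_congr rfl fun a _ => Finset.sum_congr rfl fun b _ => ?_
  by_cases hb : b = 0
  · rw [hb, E, pi_zero_of_isUnit hz hu, mul_zero, smul_zero]
  · rw [FiniteField.pow_card_sub_one_eq_one _ (hρ a b hb), one_smul]

omit hg hc in
theorem S_snd : S (fun _ b => b) g z = z := by
  rw [S, Finset.sum_comm]
  simp only [E, ← Finset.smul_sum]
  simp only [← Finset.sum_mul, sum_pi, one_mul]
  exact sum_smul_pi hz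

theorem pi_S (ρ : K → K → K) (hρ : ∀ a, Function.Injective (ρ a)) (a b : K) :
    pi (S ρ g z) (ρ a b) * pi g a = E g z a b := by
  classical
  rw [← sum_E (g := g) (z := z), Finset.mul_sum, Finset.sum_eq_single b,
    pi_mul_eig (S_card hg hz hc ρ) (S_mul_E hg hz hc ρ a b), if_pos rfl]
  · intro d _ hd
    rw [pi_mul_eig (S_card hg hz hc ρ) (S_mul_E hg hz hc ρ a d), if_neg fun h => hd (hρ a h).symm]
  · simp

theorem trace_S (ρ : K → K → K) :
    (S ρ g z).trace = ∑ a, ∑ b, (dg (E g z a b) : K) * ρ a b := by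
  simp only [S, Matrix.trace_sum, Matrix.trace_smul, trace_idem (E_idem hg hz hc _ _), smul_eq_mul,
    mul_comm]

theorem lam_left (l : K → ℕ) : lam l z g = ∏ a, ∏ b, a ^ (l b * dg (E g z a b)) := by
  rw [Finset.prod_comm]
  refine Finset.prod_congr rfl fun b _ => ?_
  rw [det_on hg (pi_idem hz b) (commute_pi hc b).symm, ← Finset.prod_pow]
  exact Finset.prod_congr rfl fun a _ => by rw [← pow_mul, mul_comm]; rfl

theorem lam_right (l : K → ℕ) (ρ : K → K → K) :
    lam l g (S ρ g z) = ∏ a, ∏ b, ρ a b ^ (l a * dg (E g z a b)) := by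
  classical
  refine Finset.prod_congr rfl fun a _ => ?_
  have h1 : S ρ g z * pi g a = ∑ b, ρ a b • E g z a b := by
    rw [← sum_E (g := g) (z := z), Finset.mul_sum]
    simp only [S_mul_E hg hz hc]
  rw [h1, ← sum_E (z := z), det_sum _ _ (E_idem hg hz hc a), ← Finset.prod_pow]
  · exact Finset.prod_congr rfl fun b _ => by rw [← pow_mul, mul_comm]
  · intro b c hbc
    rw [E_mul hg hz hc, if_neg fun h => hbc h.2]

omit hg hz hc in
theorem commute_S (ρ : K → K → K) {y : Matrix n n K} (h1 : Commute y g) (h2 : Commute y z) :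
    Commute y (S ρ g z) :=
  Commute.sum_right _ _ _ fun a _ => Commute.sum_right _ _ _ fun b _ =>
    ((commute_pi h1 a).mul_right (commute_pi h2 b)).smul_right _

end two

theorem map_E (φ : K →+* K) {g z : Matrix n n K} (hg : g.map φ = g) (hz : z.map φ = z) (a b : K) :
    (E g z a b).map φ = E g z (φ a) (φ b) := by
  have h : ∀ a, φ.mapMatrix (algebraMap K (Matrix n n K) a) = algebraMap K (Matrix n n K) (φ a) :=
    fun a => by
      ext i j
      simp [Matrix.algebraMap_matrix_apply]
      split_ifs <;> simp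
  have h1 := map_pi φ.mapMatrix φ h g a
  have h2 := map_pi φ.mapMatrix φ h z b
  simp only [RingHom.mapMatrix_apply, hg, hz] at h1 h2
  rw [E, Matrix.map_mul, h1, h2, E]

theorem map_S (φ : K →+* K) (ρ : K → K → K) (hρ : ∀ a b, ρ (φ a) (φ b) = φ (ρ a b))
    {g z : Matrix n n K} (hg : g.map φ = g) (hz : z.map φ = z) : (S ρ g z).map φ = S ρ g z := by
  have hb : Function.Bijective φ := Finite.injective_iff_bijective.1 φ.injective
  have h1 : (S ρ g z).map φ = ∑ a, ∑ b, ρ (φ a) (φ b) • E g z (φ a) (φ b) := by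
    rw [← RingHom.mapMatrix_apply, S, map_sum]
    refine Finset.sum_congr rfl fun a _ => ?_
    rw [map_sum]
    refine Finset.sum_congr rfl fun b _ => ?_
    rw [← map_E φ hg hz, hρ]
    ext i j
    simp
  rw [h1, S]
  refine (hb.sum_comp fun a => ∑ b, ρ a (φ b) • E g z a (φ b)).trans ?_
  exact Finset.sum_congr rfl fun a _ => hb.sum_comp fun b => ρ a b • E g z a b

end CL.KGV.P64
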