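import Cfsg.Agent.KGV.Rev

set_option autoImplicit false

namespace CL.KGV.Pair36

open Equiv Finset Polynomial

section perm
variable {S : Type*} (φ : Perm S)

noncomputable def rp (a : S) : S := (Quotient.mk (Perm.SameCycle.setoid φ) a).out
theorem rp_sc (a : S) : φ.SameCycle (rp φ a) a := Quotient.mk_out (s := Perm.SameCycle.setoid φ) a
theorem rp_eq {a b : S} (h : φ.SameCycle a b) : rp φ a = rp φ b :=
  congrArg Quotient.out (Quotient.sound (s := Perm.SameCycle.setoid φ) h)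
theorem rp_rp (a : S) : rp φ (rp φ a) = rp φ a := rp_eq φ (rp_sc φ a)
noncomputable def ix (a : S) : ℤ := (rp_sc φ a).choose
theorem ix_spec (a : S) : (φ ^ ix φ a) (rp φ a) = a := (rp_sc φ a).choose_spec
theorem zz (i j : ℤ) (x : S) : (φ ^ i) ((φ ^ j) x) = (φ ^ (i + j)) x := by
  rw [zpow_add, Perm.mul_apply]
theorem rp_zpow (j : ℤ) (x : S) : rp φ ((φ ^ j) x) = rp φ x := (rp_eq φ ⟨j, rfl⟩).symm
theorem neg_eq {x : S} {i j : ℤ} (h : (φ ^ i) x = (φ ^ j) x) : (φ ^ (-i)) x = (φ ^ (-j)) x := by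
  have := congrArg (φ ^ (-i - j) : Perm S) h
  rw [zz, zz, show -i - j + i = -j by ring, show -i - j + j = -i by ring] at this
  exact this.symm
noncomputable def sg (a : S) : S := (φ ^ (-ix φ a)) (rp φ a)
theorem sg_spec {μ : S} (hμ : rp φ μ = μ) (j : ℤ) : sg φ ((φ ^ j) μ) = (φ ^ (-j)) μ := by
  have h := ix_spec φ ((φ ^ j) μ)
  unfold sg
  rw [rp_zpow, hμ] at h ⊢
  exact neg_eq φ h
theorem sg_sg : Function.Involutive (sg φ) := by
  intro a
  rw [← ix_spec φ a, sg_spec φ (rp_rp φ a), sg_spec φ (rp_rp φ a), neg_neg]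
theorem sg_phi (a : S) : sg φ (φ a) = φ⁻¹ (sg φ a) := by
  have e : φ a = (φ ^ (1 + ix φ a)) (rp φ a) := by rw [← zz, ix_spec, zpow_one]
  rw [e, sg_spec φ (rp_rp φ a), sg, ← zpow_neg_one, zz]
  congr 2; ring

theorem exrho [Finite S] : ∃ ρ : S → Perm S, (∀ a b, ρ (φ a) (φ b) = φ (ρ a b)) ∧
    (∀ a b, φ.SameCycle b (ρ a b)) ∧ ∀ a μ (j : ℤ), rp φ a = a → rp φ μ = μ →
      ∃ k : ℤ, (φ ^ k) a = a ∧ (ρ a).symm ((φ ^ j) μ) = (φ ^ k) ((φ ^ (-j)) μ) := by
  choose τ h1 h2 using Rev.tau φ (sg_sg φ).toPerm (sg_phi φ)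
  let d : S → ℕ := fun a => Function.minimalPeriod (φ • ·) a
  have hd : ∀ (a : S) (k : ℤ), (φ ^ k) a = a ↔ (d a : ℤ) ∣ k := fun a k =>
    MulAction.zpow_smul_eq_iff_minimalPeriod_dvd (a := φ) (b := a)
  let ρ : S → Perm S := fun a => φ ^ ix φ a * (τ (d (rp φ a)))⁻¹ * φ ^ (-ix φ a)
  have hc : ∀ (n : ℕ) (k : ℤ), Commute (τ n)⁻¹ (φ ^ ((n : ℤ) * k)) := fun n k => by
    have : Commute (τ n) (φ ^ n) := Equiv.ext fun a => h1 n a
    rw [zpow_mul, zpow_natCast]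
    exact (this.zpow_right k).inv_left
  have key : ∀ (μ : S) (i : ℤ), rp φ μ = μ → ρ ((φ ^ i) μ) = φ ^ i * (τ (d μ))⁻¹ * φ ^ (-i) := by
    intro μ i hμ
    have h := ix_spec φ ((φ ^ i) μ)
    show φ ^ ix φ ((φ ^ i) μ) * (τ (d (rp φ ((φ ^ i) μ))))⁻¹ * φ ^ (-ix φ ((φ ^ i) μ)) = _
    rw [rp_zpow, hμ] at h ⊢
    have h3 : (φ ^ (ix φ ((φ ^ i) μ) - i)) μ = μ := by
      have := congrArg (φ ^ (-i) : Perm S) h
      rwa [zz, zz, neg_add_cancel, zpow_zero, Perm.one_apply, neg_add_eq_sub] at this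
    obtain ⟨k, hk⟩ := (hd _ _).1 h3
    have e : ix φ ((φ ^ i) μ) = i + d μ * k := by rw [← hk]; ring
    rw [e, zpow_add, mul_assoc (φ ^ i), ← (hc (d μ) k).eq, neg_add, add_comm (-i), zpow_add]
    simp only [mul_assoc, zpow_neg, mul_inv_cancel_left]
  have sc : ∀ n x, φ.SameCycle x (τ n x) := fun n x => by
    obtain ⟨i, hi⟩ := h2 n x
    rw [hi]
    refine Perm.SameCycle.trans ?_ ⟨((n * i : ℕ) : ℤ), by rw [zpow_natCast]⟩
    exact (rp_sc φ x).symm.trans ⟨-ix φ x, rfl⟩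
  refine ⟨ρ, fun a b => ?_, fun a b => ?_, fun a μ j ha hμ => ?_⟩
  · have e : φ a = (φ ^ (1 + ix φ a)) (rp φ a) := by rw [← zz, ix_spec, zpow_one]
    have e2 : φ b = (φ ^ (1 : ℤ)) b := by rw [zpow_one]
    rw [e, key _ _ (rp_rp φ a), e2]
    show (φ ^ (1 + ix φ a)) ((τ (d (rp φ a)))⁻¹ ((φ ^ (-(1 + ix φ a))) ((φ ^ (1 : ℤ)) b))) =
      φ ((φ ^ ix φ a) ((τ (d (rp φ a)))⁻¹ ((φ ^ (-ix φ a)) b)))
    rw [zz φ (-(1 + ix φ a)), show -(1 + ix φ a) + 1 = -ix φ a by ring, ← zz, zpow_one]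
  · show φ.SameCycle b ((φ ^ ix φ a) ((τ (d (rp φ a)))⁻¹ ((φ ^ (-ix φ a)) b)))
    refine Perm.SameCycle.trans ?_ ⟨ix φ a, rfl⟩
    refine Perm.SameCycle.trans ⟨-ix φ a, rfl⟩ ?_
    have := sc (d (rp φ a)) ((τ (d (rp φ a)))⁻¹ ((φ ^ (-ix φ a)) b))
    rw [Perm.inv_def, Equiv.apply_symm_apply] at this
    exact this.symm
  · have h := key a 0 ha
    simp only [zpow_zero, Perm.one_apply, neg_zero, one_mul, mul_one] at h
    obtain ⟨i, hi⟩ := h2 (d a) ((φ ^ j) μ)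
    refine ⟨(d a * i : ℕ), (hd _ _).2 ⟨i, by push_cast; ring⟩, ?_⟩
    rw [h, zpow_natCast, ← sg_spec φ hμ]
    exact hi

theorem sumS {Y K : Type*} [Fintype Y] [Semiring K] (Φ : Perm Y) (ψ : Perm K) (r s m : Y → K)
    (hr : ∀ y, r (Φ y) = ψ (r y)) (hs : ∀ y, s (Φ y) = ψ (s y))
    (hm : ∀ y, m (Φ y) = m y) (h : ∀ y, ∃ i : ℕ, r y = (ψ ^ i) (s y)) :
    ∑ y, m y * r y = ∑ y, m y * s y := by
  choose i hi using h
  have it : ∀ (t : Y → K), (∀ y, t (Φ y) = ψ (t y)) → ∀ (n : ℕ) y, t ((Φ ^ n) y) = (ψ ^ n) (t y) := by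
    intro t ht n
    induction n with
    | zero => intro y; rfl
    | succ n ih => intro y; rw [pow_succ', pow_succ', Perm.mul_apply, Perm.mul_apply, ht, ih]
  have im : ∀ (n : ℕ) y, m ((Φ ^ n) y) = m y := by
    intro n
    induction n with
    | zero => intro y; rfl
    | succ n ih => intro y; rw [pow_succ', Perm.mul_apply, hm, ih]
  let e : Y → Y := fun y => (Φ ^ i (rp Φ y)) y
  have he : Function.Injective e := by
    intro y y' hy
    have h1 : ∀ y, rp Φ (e y) = rp Φ y := fun y => by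
      have := rp_zpow Φ (i (rp Φ y) : ℤ) y
      rwa [zpow_natCast] at this
    have h2 : rp Φ y = rp Φ y' := by rw [← h1 y, hy, h1]
    have h3 : (Φ ^ i (rp Φ y)) y = (Φ ^ i (rp Φ y')) y' := hy
    rw [h2] at h3
    exact (Φ ^ i (rp Φ y')).injective h3
  rw [← (Equiv.ofBijective e (Finite.injective_iff_bijective.1 he)).sum_comp fun y => m y * s y]
  refine Finset.sum_congr rfl fun y _ => ?_
  show m y * r y = m ((Φ ^ i (rp Φ y)) y) * s ((Φ ^ i (rp Φ y)) y)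
  rw [im, it s hs]
  congr 1
  obtain ⟨n, -, hn⟩ := (rp_sc Φ y).exists_pow_eq'
  have h1 : r y = (ψ ^ n) (r (rp Φ y)) := by rw [← it r hr, hn]
  have h2 : s y = (ψ ^ n) (s (rp Φ y)) := by rw [← it s hs, hn]
  rw [h1, h2, hi, ← Perm.mul_apply, ← Perm.mul_apply, ← pow_add, ← pow_add, add_comm]

end perm

theorem geo (p d i : ℕ) (hi : i < d) (k : ℕ) :
    ∑ j ∈ range (d * k), (if j % d = i then p ^ j else 0) = p ^ i * ∑ t ∈ range k, (p ^ d) ^ t := by
  induction k with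
  | zero => simp
  | succ k ih =>
    rw [Nat.mul_succ, sum_range_add, ih, sum_range_succ, mul_add]
    congr 1
    rw [Finset.sum_eq_single i]
    · rw [Nat.mul_add_mod, Nat.mod_eq_of_lt hi, if_pos rfl, pow_add, pow_mul, mul_comm]
    · intro j hj hne
      rw [Nat.mul_add_mod, Nat.mod_eq_of_lt (mem_range.1 hj), if_neg hne]
    · intro h; exact absurd (mem_range.2 hi) h

theorem poly (p : ℕ) [Fact p.Prime] (K : Type*) [Field K] [Fintype K] [Algebra (ZMod p) K]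
    (a c : K) (h : ∀ i : ℕ, a ^ p ^ i = a → c ^ p ^ i = c) : ∃ P : (ZMod p)[X], aeval a P = c := by
  have h1 : c ∈ IntermediateField.adjoin (ZMod p) {a} := by
    rw [← IsGalois.fixedField_fixingSubgroup (IntermediateField.adjoin (ZMod p) {a})]
    rintro ⟨g, hg⟩
    obtain ⟨i, hi⟩ := FiniteField.exists_forall_apply_eq_pow (ZMod p) p K g
    rw [Nat.card_zmod] at hi
    have h2 : g a = a := hg ⟨a, IntermediateField.mem_adjoin_simple_self _ a⟩
    show g c = c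
    rw [hi] at h2 ⊢
    exact h i h2
  rw [← IntermediateField.mem_toSubalgebra, IntermediateField.adjoin_simple_toSubalgebra_of_isAlgebraic
    (Algebra.IsAlgebraic.isAlgebraic a), Algebra.adjoin_singleton_eq_range_aeval] at h1
  exact h1

theorem ex (p : ℕ) [Fact p.Prime] (K : Type*) [Field K] [Fintype K] [Algebra (ZMod p) K] :
    ∃ (l : K → ℕ) (ρ : K → K → K), (∀ a b, ρ (a ^ p) (b ^ p) = ρ a b ^ p) ∧
      (∀ a, Function.Injective (ρ a)) ∧ (∀ a b, ∃ i, ρ a b = b ^ p ^ i) ∧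
      (∀ m : K → K → ℕ, (∀ a b, m (a ^ p) (b ^ p) = m a b) → (∀ b, m 0 b = 0) → (∀ a, m a 0 = 0) →
        ∏ a, ∏ b, a ^ (l b * m a b) = ∏ a, ∏ b, ρ a b ^ (l a * m a b)) ∧
      (∀ m : K → K → ℕ, (∀ a b, m (a ^ p) (b ^ p) = m a b) → (∀ b, m 0 b = 0) → (∀ a, m a 0 = 0) →
        ∑ a, ∑ b, (m a b : K) * ρ a b = ∑ a, ∑ b, (m a b : K) * b) ∧
      l 1 = 0 ∧ ∀ a : K, a ≠ 0 → ∃ j, ∃ P : (ZMod p)[X],
        (aeval (a ^ p ^ j) P) ^ (l (a ^ p ^ j)) = a ^ p ^ j ∧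
          ∀ i, a ^ p ^ i ≠ a ^ p ^ j → l (a ^ p ^ i) = 0 := by
  classical
  have hp : p.Prime := Fact.out
  haveI : CharP K p := charP_of_injective_algebraMap (algebraMap (ZMod p) K).injective p
  obtain ⟨D, -, hD⟩ := FiniteField.card K p
  let φ : Perm K := (frobeniusEquiv K p).toEquiv
  have hφ1 : ∀ x, φ x = x ^ p := fun x => rfl
  have hφ : ∀ (j : ℕ) x, (φ ^ j) x = x ^ p ^ j := by
    intro j
    induction j with
    | zero => intro x; simp
    | succ j ih => intro x; rw [pow_succ', Perm.mul_apply, hφ1, ih, ← pow_mul, pow_succ]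
  have hφD : ∀ x, (φ ^ (D : ℕ)) x = x := fun x => by rw [hφ, ← hD, FiniteField.pow_card]
  obtain ⟨ρ, r1, r2, r3⟩ := exrho φ
  obtain ⟨g, hg⟩ := IsCyclic.exists_monoid_generator (α := Kˣ)
  have og : orderOf (g : K) = p ^ (D : ℕ) - 1 := by
    rw [orderOf_units, orderOf_eq_card_of_forall_mem_powers hg, Nat.card_units, Nat.card_eq_fintype_card, hD]
  let E : K → K → ℕ := fun μ a => ∑ j ∈ range D, if (φ ^ j) μ = a then p ^ j else 0
  have hE : ∀ μ : K, ∃ d G : ℕ, 0 < d ∧ G * (p ^ d - 1) + 1 = p ^ (D : ℕ) ∧ μ ^ p ^ d = μ ∧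
      (∀ i : ℕ, μ ^ p ^ i = μ → d ∣ i) ∧ (∀ j : ℕ, (φ ^ j) μ = (φ ^ (j % d)) μ) ∧
      ∀ i < d, E μ ((φ ^ i) μ) = p ^ i * G := by
    intro μ
    let d := Function.minimalPeriod (φ • ·) μ
    have hd : ∀ k : ℕ, (φ ^ k) μ = μ ↔ d ∣ k := fun k =>
      MulAction.pow_smul_eq_iff_minimalPeriod_dvd (a := φ) (b := μ)
    obtain ⟨k, hk⟩ := (hd D).1 (hφD μ)
    have d0 : 0 < d := Nat.pos_of_ne_zero fun e => D.ne_zero (by rw [hk, e, zero_mul])
    have hm : ∀ j : ℕ, (φ ^ j) μ = (φ ^ (j % d)) μ := fun j =>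
      (MulAction.pow_smul_mod_minimalPeriod φ μ j).symm
    refine ⟨d, ∑ t ∈ range k, (p ^ d) ^ t, d0, ?_, by rw [← hφ]; exact (hd d).2 dvd_rfl,
      fun i hi => (hd i).1 (by rwa [hφ]), hm, fun i hi => ?_⟩
    · have := geom_sum_mul_add (p ^ d - 1) k
      rw [Nat.sub_add_cancel (Nat.one_le_pow _ _ hp.pos)] at this
      rw [this, hk, pow_mul]
    · rw [← geo p d i hi k, ← hk]
      refine Finset.sum_congr rfl fun j _ => if_congr ⟨fun h => ?_, fun h => by rw [hm j, h]⟩ rfl rfl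
      rw [hm j] at h
      have h2 : ((φ • ·)^[j % d]) μ = ((φ • ·)^[i]) μ := by
        rw [smul_iterate, smul_iterate]; exact h
      exact (Function.iterate_eq_iterate_iff_of_lt_minimalPeriod (Nat.mod_lt _ d0) hi).1 h2
  have hl : ∀ μ : K, μ ≠ 0 → ∃ l : ℕ, ((g : K) ^ E μ μ) ^ l = μ := by
    intro μ h0
    obtain ⟨d, G, d0, h1, h2, -, -, h5⟩ := hE μ
    have e := h5 0 d0
    simp only [pow_zero, Perm.one_apply, one_mul] at e
    obtain ⟨L, hL⟩ := hg (Units.mk0 μ h0)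
    have hL' : (g : K) ^ L = μ := by simpa using congrArg Units.val hL
    have q1 : 1 < p ^ d := Nat.one_lt_pow d0.ne' hp.one_lt
    have h3 : μ ^ (p ^ d - 1) = 1 := by
      apply mul_right_cancel₀ h0
      rw [← pow_succ, Nat.sub_add_cancel q1.le, h2, one_mul]
    rw [← hL', ← pow_mul, ← orderOf_dvd_iff_pow_eq_one, og, ← h1, Nat.add_sub_cancel] at h3
    obtain ⟨l, hl⟩ := Nat.dvd_of_mul_dvd_mul_right (by omega) h3
    exact ⟨l, by rw [e, ← pow_mul, ← hl, hL']⟩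
  choose! l0 hl0 using hl
  let l : K → ℕ := fun μ => if rp φ μ = μ ∧ μ ≠ 1 then l0 μ else 0
  have lrep : ∀ μ, l μ ≠ 0 → rp φ μ = μ := fun μ h => by
    by_contra h'
    exact h (if_neg fun h2 => h' h2.1)
  have l1 : l 1 = 0 := if_neg fun h => h.2 rfl
  have hl1 : ∀ μ, rp φ μ = μ → μ ≠ 0 → ((g : K) ^ E μ μ) ^ l μ = μ := by
    intro μ h h0
    by_cases h1 : μ = 1
    · rw [h1, l1, pow_zero]
    · rw [show l μ = l0 μ from if_pos ⟨h, h1⟩, hl0 μ h0]
  have sc0 : ∀ a b : K, φ.SameCycle a b → b ≠ 0 → a ≠ 0 := by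
    intro a b h hb ha
    obtain ⟨n, -, hn⟩ := h.exists_pow_eq'
    rw [hφ, ha, zero_pow (pow_ne_zero _ hp.ne_zero)] at hn
    exact hb hn.symm
  have keyA : ∀ a : K, a ≠ 0 → (g : K) ^ (∑ β, l β * E β a) = a := by
    intro a ha
    rw [Finset.sum_eq_single (rp φ a) _ (fun h => absurd (mem_univ _) h)]
    · obtain ⟨d, G, d0, h1, h2, -, h4, h5⟩ := hE (rp φ a)
      obtain ⟨n, -, hn⟩ := (rp_sc φ a).exists_pow_eq'
      have e := h5 0 d0
      simp only [pow_zero, Perm.one_apply, one_mul] at e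
      have e2 := h5 _ (Nat.mod_lt n d0)
      have e3 := hl1 _ (rp_rp φ a) (sc0 _ _ (rp_sc φ a) ha)
      rw [← h4, hn] at e2
      rw [h4, hφ] at hn
      rw [e] at e3
      rw [e2]
      calc (g : K) ^ (l (rp φ a) * (p ^ (n % d) * G)) = (((g : K) ^ G) ^ l (rp φ a)) ^ p ^ (n % d) := by
            rw [← pow_mul, ← pow_mul]; congr 1; ring
        _ = a := by rw [e3, hn]
    · intro β _ hβ
      by_contra h
      obtain ⟨h1, h2⟩ := mul_ne_zero_iff.1 h
      obtain ⟨j, -, hj⟩ := Finset.exists_ne_zero_of_sum_ne_zero h2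
      have h3 : (φ ^ j) β = a := by
        by_contra h'
        exact hj (if_neg h')
      exact hβ ((lrep β h1).symm.trans (rp_eq φ ⟨j, by rw [zpow_natCast, h3]⟩))
  have sE : ∀ (f : K → ℕ) β, ∑ a, E β a * f a = ∑ j ∈ range D, p ^ j * f ((φ ^ j) β) := by
    intro f β
    simp only [E, Finset.sum_mul]
    rw [Finset.sum_comm]
    refine Finset.sum_congr rfl fun j _ => ?_
    simp only [ite_mul, zero_mul, Finset.sum_ite_eq, mem_univ, if_true]
  refine ⟨l, fun a b => ρ a b, fun a b => r1 a b, fun a => (ρ a).injective, fun a b => ?_,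
    fun m hm h0 h0' => ?_, fun m hm _ _ => ?_, l1, fun a ha => ?_⟩
  · obtain ⟨n, -, hn⟩ := (r2 a b).exists_pow_eq'
    exact ⟨n, by rw [← hφ, hn]⟩
  · have mz : ∀ (k : ℤ) a b, m ((φ ^ k) a) ((φ ^ k) b) = m a b := by
      intro k
      induction k using Int.induction_on with
      | zero => intro a b; rfl
      | succ n ih =>
        intro a b
        rw [add_comm, ← zz, ← zz, zpow_one, hφ1, hφ1, hm, ih]
      | pred n ih =>
        intro a b
        rw [← hm, ← hφ1, ← hφ1, ← zpow_one φ, ← zpow_mul, one_mul, zz, zz,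
          show 1 + (-(n : ℤ) - 1) = -n by ring, ih]
    have L : ∏ a, ∏ b, a ^ (l b * m a b) =
        (g : K) ^ ∑ a, ∑ b, (∑ β, l β * E β a) * (l b * m a b) := by
      rw [← Finset.prod_pow_eq_pow_sum]
      refine Finset.prod_congr rfl fun a _ => ?_
      rw [← Finset.prod_pow_eq_pow_sum]
      refine Finset.prod_congr rfl fun b _ => ?_
      by_cases ha : a = 0
      · rw [ha, h0]; simp
      · rw [pow_mul (g : K), keyA a ha]
    have R : ∏ a, ∏ b, ρ a b ^ (l a * m a b) =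
        (g : K) ^ ∑ a, ∑ b, (∑ β, l β * E β (ρ a b)) * (l a * m a b) := by
      rw [← Finset.prod_pow_eq_pow_sum]
      refine Finset.prod_congr rfl fun a _ => ?_
      rw [← Finset.prod_pow_eq_pow_sum]
      refine Finset.prod_congr rfl fun b _ => ?_
      by_cases hb : b = 0
      · rw [hb, h0']; simp
      · rw [pow_mul (g : K), keyA _ (sc0 _ _ (r2 a b).symm hb)]
    rw [L, R]
    congr 1
    have L2 : ∑ a, ∑ b, (∑ β, l β * E β a) * (l b * m a b) =
        ∑ β, ∑ b, l β * l b * ∑ j ∈ range D, p ^ j * m ((φ ^ j) β) b := by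
      simp only [Finset.sum_mul]
      calc _ = ∑ b, ∑ a, ∑ β, l β * E β a * (l b * m a b) := Finset.sum_comm
        _ = ∑ b, ∑ β, ∑ a, l β * E β a * (l b * m a b) :=
          Finset.sum_congr rfl fun b _ => Finset.sum_comm
        _ = ∑ β, ∑ b, ∑ a, l β * E β a * (l b * m a b) := Finset.sum_comm
        _ = _ := by
          refine Finset.sum_congr rfl fun β _ => Finset.sum_congr rfl fun b _ => ?_
          rw [← sE (fun a => m a b) β, Finset.mul_sum]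
          exact Finset.sum_congr rfl fun a _ => by ring
    have R2 : ∑ a, ∑ b, (∑ β, l β * E β (ρ a b)) * (l a * m a b) =
        ∑ a, ∑ μ, l a * l μ * ∑ j ∈ range D, p ^ j * m a ((ρ a).symm ((φ ^ j) μ)) := by
      refine Finset.sum_congr rfl fun a _ => ?_
      simp only [Finset.sum_mul]
      rw [Finset.sum_comm]
      refine Finset.sum_congr rfl fun μ _ => ?_
      rw [← sE (fun x => m a ((ρ a).symm x)) μ, Finset.mul_sum,
        ← Equiv.sum_comp (ρ a) (fun x => l a * l μ * (E μ x * m a ((ρ a).symm x)))]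
      refine Finset.sum_congr rfl fun b _ => ?_
      rw [Equiv.symm_apply_apply]; ring
    rw [L2, R2]
    refine Finset.sum_congr rfl fun a _ => Finset.sum_congr rfl fun μ _ => ?_
    by_cases h : l a * l μ = 0
    · rw [h, zero_mul, zero_mul]
    obtain ⟨h1, h2⟩ := mul_ne_zero_iff.1 h
    congr 1
    refine Finset.sum_congr rfl fun j _ => ?_
    obtain ⟨k, hk, e⟩ := r3 a μ j (lrep a h1) (lrep μ h2)
    rw [zpow_natCast] at e
    rw [e, ← mz (-(j : ℤ)), ← zpow_natCast, zz, neg_add_cancel, zpow_zero, Perm.one_apply,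
      ← mz k a, hk]
  · rw [← Fintype.sum_prod_type', ← Fintype.sum_prod_type']
    refine sumS (Equiv.prodCongr φ φ) φ (fun y => ρ y.1 y.2) (fun y => y.2) (fun y => (m y.1 y.2 : K))
      (fun y => r1 y.1 y.2) (fun y => rfl) (fun y => congrArg Nat.cast (hm y.1 y.2)) fun y => ?_
    obtain ⟨n, -, hn⟩ := (r2 y.1 y.2).exists_pow_eq'
    exact ⟨n, hn.symm⟩
  · obtain ⟨j, -, hj⟩ := (rp_sc φ a).symm.exists_pow_eq'
    rw [hφ] at hj
    obtain ⟨d, G, d0, h1, h2, h3, -, h5⟩ := hE (rp φ a)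
    have e := h5 0 d0
    simp only [pow_zero, Perm.one_apply, one_mul] at e
    obtain ⟨P, hP⟩ := poly p K (rp φ a) ((g : K) ^ G) fun i hi => by
      obtain ⟨t, rfl⟩ := h3 i hi
      have q1 : 1 ≤ p ^ d := Nat.one_le_pow _ _ hp.pos
      have b1 : ((g : K) ^ G) ^ p ^ d = (g : K) ^ G := by
        have : ((g : K) ^ G) ^ (p ^ d - 1) = 1 := by
          rw [← pow_mul, ← orderOf_dvd_iff_pow_eq_one, og, ← h1, Nat.add_sub_cancel]
        rw [← Nat.sub_add_cancel q1, pow_succ, this, one_mul]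
      clear hi
      induction t with
      | zero => simp
      | succ t ih => rw [Nat.mul_succ, pow_add, pow_mul ((g : K) ^ G), ih, b1]
    refine ⟨j, P, ?_, fun i hi => ?_⟩
    · rw [hj, hP, ← e]
      exact hl1 _ (rp_rp φ a) (sc0 _ _ (rp_sc φ a) ha)
    · by_contra h
      refine hi ((lrep _ h).symm.trans ?_)
      rw [hj, ← hφ, ← zpow_natCast, rp_zpow]

end CL.KGV.Pair36
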