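import Mathlib

set_option autoImplicit false

namespace CL.KGV.PairA

open Finset

theorem rev {S : Type*} [Finite S] (ψ : Equiv.Perm S) :
    ∃ (rep κ : S → S) (i0 : S → ℕ), (∀ a, (ψ ^ i0 a) a = rep a) ∧ (∀ a, rep (ψ a) = rep a) ∧
      (∀ a, κ a = (ψ ^ i0 a) (rep a)) ∧ (∀ a, ψ (κ (ψ a)) = κ a) ∧ Function.Injective κ := by
  classical
  let s : Setoid S := ⟨ψ.SameCycle, Equiv.Perm.SameCycle.equivalence ψ⟩
  let rep : S → S := fun a => (Quotient.mk s a).out
  have h1 : ∀ a, ∃ i : ℕ, (ψ ^ i) a = rep a := by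
    intro a
    have : ψ.SameCycle (rep a) a := Quotient.exact (Quotient.out_eq (Quotient.mk s a))
    obtain ⟨i, -, hi⟩ := this.symm.exists_pow_eq'
    exact ⟨i, hi⟩
  choose i0 hi0 using h1
  have h2 : ∀ a, rep (ψ a) = rep a := by
    intro a
    have : Quotient.mk s (ψ a) = Quotient.mk s a :=
      Quotient.sound (show ψ.SameCycle (ψ a) a from
        (Equiv.Perm.sameCycle_apply_left).2 (Equiv.Perm.SameCycle.refl _ _))
    simp only [rep, this]
  have h2' : ∀ n a, rep ((ψ ^ n) a) = rep a := by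
    intro n a
    induction n with
    | zero => simp
    | succ n ih => rw [pow_succ', Equiv.Perm.mul_apply, h2, ih]
  have hc : ∀ m n a, (ψ ^ m) ((ψ ^ n) a) = (ψ ^ n) ((ψ ^ m) a) := by
    intro m n a
    rw [← Equiv.Perm.mul_apply, ← Equiv.Perm.mul_apply, ← pow_add, ← pow_add, add_comm]
  refine ⟨rep, fun a => (ψ ^ i0 a) (rep a), i0, hi0, h2, fun _ => rfl, ?_, ?_⟩
  · intro a
    have e1 : (ψ ^ (i0 (ψ a) + 1)) a = (ψ ^ i0 a) a := by
      rw [pow_succ, Equiv.Perm.mul_apply, hi0, h2, hi0]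
    have : ψ ((ψ ^ i0 (ψ a)) (rep (ψ a))) = (ψ ^ (i0 (ψ a) + 1)) (rep a) := by
      rw [h2, pow_succ', Equiv.Perm.mul_apply]
    show ψ ((ψ ^ i0 (ψ a)) (rep (ψ a))) = (ψ ^ i0 a) (rep a)
    rw [this, ← hi0 a, hc, e1]
  · have : ∀ a, (fun a => (ψ ^ i0 a) (rep a)) ((fun a => (ψ ^ i0 a) (rep a)) a) = a := by
      intro a
      show (ψ ^ i0 ((ψ ^ i0 a) (rep a))) (rep ((ψ ^ i0 a) (rep a))) = a
      have e0 : rep (rep a) = rep a := by
        conv_lhs => rw [← hi0 a, h2']
      rw [h2', e0]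
      apply (ψ ^ i0 a).injective
      rw [hc, hi0, h2', e0, hi0]
    exact Function.LeftInverse.injective (g := fun a => (ψ ^ i0 a) (rep a)) this

theorem orb {S M : Type*} [Fintype S] [CommMonoid M] (ψ : Equiv.Perm S) (f g : S → M)
    (h : ∀ o : S, ∃ n : ℕ, ∏ i ∈ range (Function.minimalPeriod ψ ((ψ ^ n) o)), f ((ψ ^ i) ((ψ ^ n) o))
      = ∏ i ∈ range (Function.minimalPeriod ψ ((ψ ^ n) o)), g ((ψ ^ i) ((ψ ^ n) o))) :
    ∏ o, f o = ∏ o, g o := by
  classical
  let s : Setoid S := ⟨ψ.SameCycle, Equiv.Perm.SameCycle.equivalence ψ⟩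
  rw [← Finset.prod_fiberwise univ (fun a => Quotient.mk s a) f,
    ← Finset.prod_fiberwise univ (fun a => Quotient.mk s a) g]
  refine Finset.prod_congr rfl fun q _ => ?_
  obtain ⟨o, rfl⟩ := Quotient.exists_rep q
  obtain ⟨n, hn⟩ := h o
  set b := (ψ ^ n) o with hb
  have hper : b ∈ Function.periodicPts ψ := ψ.injective.mem_periodicPts b
  have key : (univ.filter fun a => Quotient.mk s a = Quotient.mk s o)
      = (range (Function.minimalPeriod ψ b)).image (fun i => (ψ ^ i) b) := by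
    ext a
    simp only [mem_filter, mem_univ, true_and, mem_image, mem_range]
    constructor
    · intro ha
      have h1 : ψ.SameCycle a o := Quotient.exact ha
      have h2 : ψ.SameCycle o b := ⟨n, by simp [hb]⟩
      obtain ⟨i, -, hi⟩ := (h1.trans h2).symm.exists_pow_eq'
      refine ⟨i % Function.minimalPeriod ψ b, Nat.mod_lt _ (Function.minimalPeriod_pos_of_mem_periodicPts hper), ?_⟩
      rw [← hi, Equiv.Perm.coe_pow, Equiv.Perm.coe_pow, Function.iterate_mod_minimalPeriod_eq]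
    · rintro ⟨i, -, rfl⟩
      refine Quotient.sound (show ψ.SameCycle _ o from Equiv.Perm.SameCycle.symm ⟨((i + n : ℕ) : ℤ), ?_⟩)
      rw [zpow_natCast, pow_add, Equiv.Perm.mul_apply]
  have hinj : Set.InjOn (fun i => (ψ ^ i) b) (range (Function.minimalPeriod ψ b) : Set ℕ) := by
    intro i hi j hj hij
    simp only [Equiv.Perm.coe_pow] at hij
    exact Function.iterate_injOn_Iio_minimalPeriod (by simpa using hi) (by simpa using hj) hij
  rw [key, prod_image hinj, prod_image hinj]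
  exact hn

theorem shift {M : Type*} [AddCommGroup M] (f : ℕ → M) (e : ℕ) (h : ∀ i, f (i + e) = f i) (k : ℕ) :
    ∑ i ∈ range e, f (k + i) = ∑ i ∈ range e, f i := by
  induction k with
  | zero => simp
  | succ k ih =>
    rw [← ih]
    have h1 := Finset.sum_range_succ (fun i => f (k + i)) e
    have h2 := Finset.sum_range_succ' (fun i => f (k + i)) e
    rw [h1, h, add_zero] at h2
    have := add_right_cancel h2
    rw [this]
    exact Finset.sum_congr rfl fun i _ => by rw [add_assoc, add_comm 1 i]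

end CL.KGV.PairA
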