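import Cfsg.Agent.KGV.PairA

set_option autoImplicit false

namespace CL.KGV.PairB

open Finset Polynomial

theorem gen (p : ℕ) [hp : Fact p.Prime] (K : Type*) [Field K] [Fintype K] (N : ℕ)
    (hN : Fintype.card K = p ^ N) :
    ∃ g : ℕ → K, (∀ e, 0 < e → e ∣ N → ∀ x : K, x ≠ 0 → x ^ p ^ e = x → ∃ n, x = g e ^ n) ∧
      (∀ d k, 0 < d → 0 < k → d * k ∣ N → g d = g (d * k) ^ (∑ t ∈ range k, (p ^ d) ^ t)) ∧
      ∀ e, 0 < e → e ∣ N → g e ^ p ^ e = g e := by
  classical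
  obtain ⟨γ, hγ⟩ := IsCyclic.exists_monoid_generator (α := Kˣ)
  have ho : orderOf γ = p ^ N - 1 := by
    rw [orderOf_eq_card_of_forall_mem_powers hγ, Nat.card_eq_fintype_card, Fintype.card_units, hN]
  have hpos : ∀ e, 0 < e → 0 < p ^ e - 1 := fun e he =>
    Nat.sub_pos_of_lt (Nat.one_lt_pow he.ne' hp.out.one_lt)
  have hdv : ∀ e, e ∣ N → p ^ e - 1 ∣ p ^ N - 1 := fun e he => Nat.pow_sub_one_dvd_pow_sub_one p he
  refine ⟨fun e => (γ : K) ^ ((p ^ N - 1) / (p ^ e - 1)), ?_, ?_, ?_⟩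
  · intro e he heN x hx hxe
    obtain ⟨s, hs⟩ := hγ (Units.mk0 x hx)
    have hs' : (γ : K) ^ s = x := by
      have := congrArg Units.val hs
      simpa using this
    have h1 : γ ^ (s * (p ^ e - 1)) = 1 := by
      apply Units.ext
      rw [pow_mul, Units.val_pow_eq_pow_val, Units.val_pow_eq_pow_val, hs', Units.val_one]
      apply mul_right_cancel₀ hx
      rw [← pow_succ, Nat.sub_add_cancel (Nat.one_le_pow _ _ hp.out.pos), hxe, one_mul]
    have h2 := orderOf_dvd_of_pow_eq_one h1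
    obtain ⟨c, hc⟩ := hdv e heN
    rw [ho, hc, mul_comm s] at h2
    obtain ⟨n, hn⟩ := Nat.dvd_of_mul_dvd_mul_left (hpos e he) h2
    refine ⟨n, ?_⟩
    show x = ((γ : K) ^ ((p ^ N - 1) / (p ^ e - 1))) ^ n
    rw [hc, Nat.mul_div_cancel_left _ (hpos e he), ← pow_mul, ← hn, hs']
  · intro d k hd hk hdk
    show (γ : K) ^ ((p ^ N - 1) / (p ^ d - 1)) = ((γ : K) ^ ((p ^ N - 1) / (p ^ (d * k) - 1))) ^ _
    obtain ⟨c, hc⟩ := hdv _ hdk
    have h3 : p ^ (d * k) - 1 = (p ^ d - 1) * ∑ t ∈ range k, (p ^ d) ^ t := by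
      have := geom_sum_mul_add (p ^ d - 1) k
      rw [Nat.sub_add_cancel (Nat.one_le_pow _ _ hp.out.pos), ← pow_mul] at this
      rw [← this, mul_comm]; simp
    rw [← pow_mul, hc, Nat.mul_div_cancel_left _ (hpos _ (Nat.mul_pos hd hk)), h3, mul_assoc,
      Nat.mul_div_cancel_left _ (hpos d hd), mul_comm]
  · intro e he heN
    show ((γ : K) ^ ((p ^ N - 1) / (p ^ e - 1))) ^ p ^ e = (γ : K) ^ ((p ^ N - 1) / (p ^ e - 1))
    obtain ⟨c, hc⟩ := hdv e heN
    have h1 : (γ : K) ^ (p ^ N - 1) = 1 := by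
      rw [← Units.val_pow_eq_pow_val, ← ho, pow_orderOf_eq_one, Units.val_one]
    rw [hc, Nat.mul_div_cancel_left _ (hpos e he)]
    conv_lhs => rw [← Nat.sub_add_cancel (Nat.one_le_pow e p hp.out.pos), pow_succ, ← pow_mul,
      mul_comm c, ← hc, h1, one_mul]

theorem rho {S : Type*} [Finite S] (φ : Equiv.Perm S) (rep κ : S → S) (i0 : S → ℕ)
    (h1 : ∀ a, (φ ^ i0 a) a = rep a) (h2 : ∀ a, rep (φ a) = rep a)
    (h3 : ∀ a, κ a = (φ ^ i0 a) (rep a)) (h4 : ∀ a, φ (κ (φ a)) = κ a) (h5 : Function.Injective κ) :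
    ∃ ρ : S → S → S, (∀ a b, ρ (φ a) (φ b) = φ (ρ a b)) ∧ (∀ a, Function.Injective (ρ a)) ∧
      (∀ a b, ∃ i : ℕ, ρ a b = (φ ^ i) b) ∧
      ∀ a b, rep a = a → ∃ i : ℕ, ρ a b = (φ ^ (Function.minimalPeriod φ a * i)) (κ b) := by
  classical
  choose rp kp ip k1 k2 k3 k4 k5 using fun d : ℕ => PairA.rev (φ ^ d)
  have h4' : ∀ n a, (φ ^ n) (κ ((φ ^ n) a)) = κ a := by
    intro n
    induction n with
    | zero => simp
    | succ n ih =>
      intro a
      conv_lhs => rw [pow_succ, Equiv.Perm.mul_apply, ← pow_succ, pow_succ', Equiv.Perm.mul_apply,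
        h4, ih]
  have hτ : ∀ d b, kp d (κ ((φ ^ d) b)) = (φ ^ d) (kp d (κ b)) := by
    intro d b
    rw [← h4' d b, k4]
  let R : ℕ → ℕ → S → S := fun d n b => (φ ^ n)⁻¹ (kp d (κ ((φ ^ n) b)))
  have hR1 : ∀ d n b, R d (n + d) b = R d n b := by
    intro d n b
    simp only [R]
    rw [add_comm n d, pow_add, Equiv.Perm.mul_apply, hτ, mul_inv_rev, Equiv.Perm.mul_apply]
    simp
  have hR2 : ∀ d n t b, R d (n + d * t) b = R d n b := by
    intro d n t b
    induction t with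
    | zero => simp
    | succ t ih => rw [Nat.mul_succ, ← add_assoc, hR1, ih]
  have hR3 : ∀ a n n' b, (φ ^ n) a = (φ ^ n') a →
      R (Function.minimalPeriod φ a) n b = R (Function.minimalPeriod φ a) n' b := by
    intro a n n' b h
    have hpos := Function.minimalPeriod_pos_of_mem_periodicPts (φ.injective.mem_periodicPts a)
    rw [Equiv.Perm.coe_pow, Equiv.Perm.coe_pow, ← Function.iterate_mod_minimalPeriod_eq,
      ← Function.iterate_mod_minimalPeriod_eq (n := n'),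
      Function.iterate_eq_iterate_iff_of_lt_minimalPeriod (Nat.mod_lt _ hpos) (Nat.mod_lt _ hpos)] at h
    rw [← Nat.mod_add_div n (Function.minimalPeriod φ a), hR2, h,
      ← Nat.mod_add_div n' (Function.minimalPeriod φ a), hR2]
    simp
  have hk : ∀ d x, kp d x = (φ ^ (d * (ip d x + ip d x))) x := by
    intro d x
    rw [k3, ← k1, ← Equiv.Perm.mul_apply, ← pow_add, ← pow_mul]
  refine ⟨fun a b => R (Function.minimalPeriod φ a) (i0 a) b, ?_, ?_, ?_, ?_⟩
  · intro a b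
    show R (Function.minimalPeriod φ (φ a)) (i0 (φ a)) (φ b) = φ (R (Function.minimalPeriod φ a) (i0 a) b)
    rw [Function.minimalPeriod_apply (φ.injective.mem_periodicPts a),
      ← hR3 a (i0 (φ a) + 1) (i0 a) b (by rw [pow_succ, Equiv.Perm.mul_apply, h1, h2, h1])]
    simp only [R]
    rw [pow_succ, Equiv.Perm.mul_apply, mul_inv_rev, Equiv.Perm.mul_apply]
    simp
  · intro a b b' h
    exact (φ ^ i0 a).injective (h5 (k5 _ ((φ ^ i0 a)⁻¹.injective h)))
  · intro a b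
    have e1 : ∀ (n : ℕ) x, φ.SameCycle x ((φ ^ n) x) := fun n x => ⟨n, by simp⟩
    have e2 : ∀ (n : ℕ) x, φ.SameCycle x ((φ ^ n)⁻¹ x) := fun n x => ⟨-n, by simp⟩
    have : φ.SameCycle b (R (Function.minimalPeriod φ a) (i0 a) b) := by
      simp only [R]
      refine Equiv.Perm.SameCycle.trans ?_ (e2 _ _)
      rw [hk]
      refine Equiv.Perm.SameCycle.trans ?_ (e1 _ _)
      rw [h3, ← h1]
      exact ((e1 _ _).trans (e1 _ _)).trans (e1 _ _)
    obtain ⟨i, -, hi⟩ := this.exists_pow_eq'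
    exact ⟨i, hi.symm⟩
  · intro a b ha
    refine ⟨ip (Function.minimalPeriod φ a) (κ b) + ip (Function.minimalPeriod φ a) (κ b), ?_⟩
    show R (Function.minimalPeriod φ a) (i0 a) b = _
    rw [hR3 a (i0 a) 0 b (by rw [h1, ha]; simp), ← hk]
    simp only [R, pow_zero, inv_one, Equiv.Perm.one_apply]

end CL.KGV.PairB
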