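import Cfsg.Agent.KGV.Jx

set_option autoImplicit false

namespace CL.KGV.PairJ

open Finset Polynomial

theorem prod_units {K M : Type*} [Field K] [Fintype K] [DecidableEq K] [CommMonoid M] (F : K → M)
    (h : F 0 = 1) : ∏ a, F a = ∏ u : Kˣ, F u := by
  refine (Fintype.prod_of_injective (fun u : Kˣ => (u : K)) Units.val_injective _ _ ?_
    (fun _ => rfl)).symm
  intro a ha
  by_cases h0 : a = 0
  · rw [h0, h]
  · exact absurd ⟨Units.mk0 a h0, rfl⟩ ha

theorem poly (p : ℕ) [Fact p.Prime] (K : Type*) [Field K] [Fintype K] [Algebra (ZMod p) K]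
    (a b : K) (h : ∀ k : ℕ, a ^ p ^ k = a → b ^ p ^ k = b) :
    ∃ P : (ZMod p)[X], aeval a P = b := by
  have hb : b ∈ IntermediateField.adjoin (ZMod p) {a} := by
    rw [← IsGalois.fixedField_fixingSubgroup (IntermediateField.adjoin (ZMod p) {a}),
      IntermediateField.mem_fixedField_iff]
    intro σ hσ
    obtain ⟨k, rfl⟩ := (FiniteField.bijective_frobeniusAlgEquivOfAlgebraic_pow (ZMod p) K).2 σ
    have ha := (IntermediateField.mem_fixingSubgroup_iff _ _).1 hσ a
      (IntermediateField.mem_adjoin_simple_self _ _)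
    have e : ∀ x : K, ((FiniteField.frobeniusAlgEquivOfAlgebraic (ZMod p) K) ^ (k : ℕ)) x
        = x ^ p ^ (k : ℕ) := fun x => by
      rw [AlgEquiv.coe_pow, FiniteField.coe_frobeniusAlgEquivOfAlgebraic_iterate, ZMod.card]
    simp only [e] at ha ⊢
    exact h _ ha
  have h2 : b ∈ (IntermediateField.adjoin (ZMod p) {a}).toSubalgebra := hb
  rw [IntermediateField.adjoin_simple_toSubalgebra_of_isAlgebraic (Algebra.IsAlgebraic.isAlgebraic a),
    Algebra.adjoin_singleton_eq_range_aeval] at h2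
  exact h2

theorem ex (p : ℕ) [Fact p.Prime] (K : Type*) [Field K] [Fintype K] [Algebra (ZMod p) K] :
    ∃ (l : K → ℕ) (ρ : K → K → K),
      (∀ a b, ρ (a ^ p) (b ^ p) = ρ a b ^ p) ∧ (∀ a, Function.Injective (ρ a)) ∧
      (∀ a b, ∃ i : ℕ, ρ a b = b ^ p ^ i) ∧
      (∀ m : K → K → ℕ, (∀ a b, m (a ^ p) (b ^ p) = m a b) → (∀ b, m 0 b = 0) → (∀ a, m a 0 = 0) →
        ∏ a, ∏ b, a ^ (l b * m a b) = ∏ a, ∏ b, ρ a b ^ (l a * m a b)) ∧
      (∀ m : K → K → ℕ, (∀ a b, m (a ^ p) (b ^ p) = m a b) → (∀ b, m 0 b = 0) → (∀ a, m a 0 = 0) →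
        ∑ a, ∑ b, (m a b : K) * ρ a b = ∑ a, ∑ b, (m a b : K) * b) ∧
      l 1 = 0 ∧
      ∀ a : K, a ≠ 0 → ∃ j : ℕ, ∃ P : (ZMod p)[X],
        (aeval (a ^ p ^ j) P) ^ (l (a ^ p ^ j)) = a ^ p ^ j ∧
          ∀ i : ℕ, a ^ p ^ i ≠ a ^ p ^ j → l (a ^ p ^ i) = 0 := by
  classical
  have hp : p.Prime := Fact.out
  haveI : CharP K p := (Algebra.charP_iff (ZMod p) K p).1 inferInstance
  obtain ⟨N, -, hN⟩ := FiniteField.card K p
  obtain ⟨w, j, hj, hinj, hprod, hw1, hlast⟩ := CL.KGV.Jx.ex (C := Kˣ) (p := p) (N := N) hp.two_le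
    N.2 (by rw [Fintype.card_units, hN])
  let u : K → Kˣ := fun a => if h : a = 0 then 1 else Units.mk0 a h
  have hu : ∀ x : Kˣ, u x = x := fun x => by
    simp only [u, dif_neg x.ne_zero]; exact Units.ext rfl
  let J : K → K → ℕ := fun a b => if a = 0 ∨ b = 0 then 0 else j (u a) (u b)
  have hJu : ∀ x y : Kˣ, J x y = j x y := fun x y => by
    simp only [J, hu, x.ne_zero, y.ne_zero, or_self, if_false]
  have hJ : ∀ a b, J (a ^ p) (b ^ p) = J a b := fun a b => by
    by_cases ha : a = 0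
    · simp [J, ha, hp.ne_zero]
    by_cases hb : b = 0
    · simp [J, hb, hp.ne_zero]
    have := hJu (Units.mk0 a ha ^ p) (Units.mk0 b hb ^ p)
    rw [hj, ← hJu] at this
    exact this
  have inv : ∀ (m : K → K → ℕ), (∀ a b, m (a ^ p) (b ^ p) = m a b) →
      ∀ (i : ℕ) a b, m (a ^ p ^ i) (b ^ p ^ i) = m a b := fun m hm i => by
    induction i with
    | zero => simp
    | succ i ih => intro a b; rw [pow_succ, pow_mul, pow_mul, hm, ih]
  refine ⟨fun a => w (u a), fun a b => b ^ p ^ J a b, fun a b => ?_, fun a b c h => ?_,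
    fun a b => ⟨_, rfl⟩, fun m hm h1 h2 => ?_, fun m hm _ _ => ?_, ?_, fun a ha => ?_⟩
  · simp only [hJ]
    rw [← pow_mul, ← pow_mul, mul_comm]
  · simp only at h
    by_cases ha : a = 0
    · simpa [J, ha] using h
    by_cases hb : b = 0
    · rw [hb, zero_pow (pow_ne_zero _ hp.ne_zero)] at h
      rw [hb, pow_eq_zero_iff (pow_ne_zero _ hp.ne_zero) |>.1 h.symm]
    by_cases hc : c = 0
    · rw [hc, zero_pow (pow_ne_zero _ hp.ne_zero)] at h
      exact absurd (pow_eq_zero_iff (pow_ne_zero _ hp.ne_zero) |>.1 h) hb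
    have := @hinj (Units.mk0 a ha) (Units.mk0 b hb) (Units.mk0 c hc) (Units.ext (by
      simp only [← hJu, Units.val_pow_eq_pow_val]; exact h))
    exact congrArg Units.val this
  · have := congrArg Units.val (hprod (fun a b => m a b) fun a b => hm a b)
    simp only [Units.coe_prod, Units.val_pow_eq_pow_val] at this
    refine (prod_units (K := K) _ (by simp [h1])).trans (Eq.trans ?_ (this.trans
      (Eq.trans ?_ (prod_units (K := K) _ (by simp [h1])).symm)))
    · refine prod_congr rfl fun a _ => (prod_units (K := K) _ (by simp [h2])).trans ?_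
      simp only [hu]
    · refine prod_congr rfl fun a _ => Eq.trans ?_ (prod_units (K := K) _ (by simp [h2])).symm
      simp only [hu, hJu]
  · let f : K × K → K × K := fun x => (x.1 ^ p ^ J x.1 x.2, x.2 ^ p ^ J x.1 x.2)
    have hf : Function.Injective f := by
      rintro ⟨a, b⟩ ⟨c, d⟩ h
      simp only [f, Prod.mk.injEq] at h
      have e : J a b = J c d := by rw [← inv J hJ (J a b) a b, h.1, h.2, inv J hJ]
      rw [e] at h
      have fi : Function.Injective fun x : K => x ^ p ^ J c d :=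
        (iterateFrobenius K p (J c d)).injective
      exact Prod.ext (fi h.1) (fi h.2)
    rw [← Fintype.sum_prod_type', ← Fintype.sum_prod_type']
    refine Fintype.sum_bijective f (Finite.injective_iff_bijective.1 hf) _ _ fun x => ?_
    simp only [f, inv m hm]
  · have := hu 1
    simp only [Units.val_one] at this
    simp only [this, hw1]
  · obtain ⟨i, b, h1, h2, h3⟩ := hlast (Units.mk0 a ha)
    have e : ∀ k : ℕ, u (a ^ p ^ k) = Units.mk0 a ha ^ p ^ k := fun k => hu (Units.mk0 a ha ^ p ^ k)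
    obtain ⟨P, hP⟩ := poly p K (a ^ p ^ i) b fun k hk => by
      have h4 : a ^ p ^ k = a := (iterateFrobenius K p i).injective (by
        show (a ^ p ^ k) ^ p ^ i = a ^ p ^ i
        rw [← pow_mul, mul_comm, pow_mul, hk])
      exact congrArg Units.val (h1 k (Units.ext h4))
    refine ⟨i, P, ?_, fun k hk => ?_⟩
    · simp only [hP, e]
      exact congrArg Units.val h2
    · simp only [e]
      exact h3 k fun h => hk (congrArg Units.val h)

end CL.KGV.PairJ
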