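import Mathlib

set_option autoImplicit false

namespace CL.KGV.PairX

open Finset Function

variable (p : ℕ) [Fact p.Prime]

theorem geom (d k : ℕ) (hd : 0 < d) :
    (p ^ d - 1) * ∑ j ∈ range k, (p ^ d) ^ j = p ^ (d * k) - 1 := by
  have h1 : 1 ≤ p ^ d := Nat.one_le_pow _ _ (Fact.out : p.Prime).pos
  rw [pow_mul, mul_comm]
  exact geom_sum_mul_of_one_le h1 k

theorem u_eq (N d k : ℕ) (hd : 0 < d) (hk : 0 < k) (h : d * k ∣ N) :
    (p ^ N - 1) / (p ^ d - 1) = (p ^ N - 1) / (p ^ (d * k) - 1) * ∑ j ∈ range k, (p ^ d) ^ j := by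
  obtain ⟨t, rfl⟩ := h
  have hp : 1 < p := (Fact.out : p.Prime).one_lt
  have h1 : 0 < p ^ d - 1 := Nat.sub_pos_of_lt (Nat.one_lt_pow hd.ne' hp)
  have h2 : 0 < p ^ (d * k) - 1 := Nat.sub_pos_of_lt (Nat.one_lt_pow (Nat.mul_pos hd hk).ne' hp)
  rw [← geom p (d * k) t (Nat.mul_pos hd hk), Nat.mul_div_cancel_left _ h2, ← geom p d k hd,
    mul_assoc, Nat.mul_div_cancel_left _ h1, mul_comm]

omit [Fact p.Prime] in
theorem prod_filter_dvd {M : Type*} [CommMonoid M] (d k : ℕ) (hd : 0 < d) (f : ℕ → M) :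
    ∏ j ∈ range (d * k), (if d ∣ j then f j else 1) = ∏ j ∈ range k, f (d * j) := by
  rw [← Finset.prod_filter]
  symm
  refine Finset.prod_bij (fun j _ => d * j) ?_ ?_ ?_ ?_
  · intro j hj
    simp only [mem_range, mem_filter] at hj ⊢
    exact ⟨Nat.mul_lt_mul_of_pos_left hj hd, dvd_mul_right _ _⟩
  · intro a _ b _ h
    exact Nat.eq_of_mul_eq_mul_left hd h
  · intro j hj
    simp only [mem_range, mem_filter] at hj
    obtain ⟨h1, t, rfl⟩ := hj
    exact ⟨t, mem_range.2 (Nat.lt_of_mul_lt_mul_left h1), rfl⟩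
  · intro j _
    rfl

/-- products of `A ^ m` only depend on the orbit products of `A`. -/
theorem orbit_red {X M : Type*} [Fintype X] [DecidableEq X] [CommMonoid M] (φ : Equiv.Perm X)
    (A B : X → M) (m : X → ℕ) (hm : ∀ x, m (φ x) = m x)
    (h : ∀ x, m x ≠ 0 → ∏ y with φ.SameCycle x y, A y = ∏ y with φ.SameCycle x y, B y) :
    ∏ x, A x ^ m x = ∏ x, B x ^ m x := by
  classical
  let s : Setoid X := ⟨φ.SameCycle, ⟨fun x => Equiv.Perm.SameCycle.refl φ x, fun h => h.symm, fun h1 h2 => h1.trans h2⟩⟩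
  have hmi : ∀ (i : ℕ) x, m ((φ ^ i) x) = m x := by
    intro i
    induction i with
    | zero => simp
    | succ i ih => intro x; rw [pow_succ', Equiv.Perm.mul_apply, hm, ih]
  have key : ∀ C : X → M, ∏ x, C x ^ m x =
      ∏ q : Quotient s, (∏ y with φ.SameCycle q.out y, C y) ^ m q.out := by
    intro C
    rw [← Finset.prod_fiberwise (s := univ) (g := fun x => Quotient.mk s x)]
    refine Finset.prod_congr rfl fun q _ => ?_
    rw [← Finset.prod_pow]
    refine Finset.prod_congr ?_ ?_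
    · ext y
      simp only [mem_filter, mem_univ, true_and]
      constructor
      · rintro rfl
        exact Quotient.mk_out (s := s) y
      · intro hy
        rw [← Quotient.out_eq q]
        exact Quotient.sound (s := s) hy.symm
    · intro y hy
      simp only [mem_filter, mem_univ, true_and] at hy
      obtain ⟨i, -, rfl⟩ := hy.exists_pow_eq'
      rw [hmi]
  rw [key A, key B]
  refine Finset.prod_congr rfl fun q _ => ?_
  by_cases h0 : m q.out = 0
  · simp [h0]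
  · rw [h _ h0]

theorem orbit_range {X M : Type*} [Fintype X] [DecidableEq X] [CommMonoid M] (φ : Equiv.Perm X)
    (A : X → M) (x : X) :
    ∏ y with φ.SameCycle x y, A y = ∏ j ∈ range (minimalPeriod φ x), A (φ^[j] x) := by
  symm
  have hper : x ∈ periodicPts φ := (φ.injective.mem_periodicPts x)
  refine Finset.prod_bij (fun j _ => φ^[j] x) ?_ ?_ ?_ ?_
  · intro j _
    simp only [mem_filter, mem_univ, true_and]
    exact ⟨j, by simp [Equiv.Perm.iterate_eq_pow]⟩
  · intro a ha b hb h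
    exact iterate_injOn_Iio_minimalPeriod (mem_range.1 ha) (mem_range.1 hb) h
  · intro y hy
    simp only [mem_filter, mem_univ, true_and] at hy
    obtain ⟨i, -, rfl⟩ := hy.exists_pow_eq'
    refine ⟨i % minimalPeriod φ x, mem_range.2 (Nat.mod_lt _ (minimalPeriod_pos_of_mem_periodicPts hper)), ?_⟩
    rw [iterate_mod_minimalPeriod_eq, Equiv.Perm.iterate_eq_pow]
  · intro j _
    rfl

theorem data {S : Type*} [Finite S] (φ : Equiv.Perm S) : ∃ (rep : S → S) (δ : S → S → ℕ),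
    (∀ a, rep (φ a) = rep a) ∧ (∀ a b, δ (φ a) (φ b) = δ a b) ∧
    (∀ a b, ∃ i : ℤ, (φ ^ i) a = rep a ∧ (φ ^ i) b = (φ ^ (δ a b : ℤ)) (rep b)) ∧
    ∀ a, Injective fun b => (φ ^ (-2 * (δ a b : ℤ))) b := by
  classical
  let s : Setoid S := ⟨φ.SameCycle, ⟨fun x => Equiv.Perm.SameCycle.refl φ x, fun h => h.symm, fun h1 h2 => h1.trans h2⟩⟩
  let rep : S → S := fun a => (Quotient.mk s a).out
  have hrep : ∀ a, φ.SameCycle (rep a) a := fun a => Quotient.mk_out (s := s) a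
  have hrz : ∀ (i : ℤ) a, rep ((φ ^ i) a) = rep a := by
    intro i a
    have : Quotient.mk s ((φ ^ i) a) = Quotient.mk s a :=
      Quotient.sound (s := s) (Equiv.Perm.SameCycle.symm ⟨i, rfl⟩)
    simp only [rep, this]
  have app : ∀ (i j : ℤ) a, (φ ^ i) ((φ ^ j) a) = (φ ^ (i + j)) a := by
    intro i j a
    rw [zpow_add, Equiv.Perm.mul_apply]
  let P : S → S → ℕ → Prop := fun a b r => ∃ i : ℤ, (φ ^ i) a = rep a ∧ (φ ^ i) b = (φ ^ (r : ℤ)) (rep b)
  have hP : ∀ a b, ∃ r, P a b r := by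
    intro a b
    obtain ⟨i, hi⟩ := (hrep a).symm
    have h2 : φ.SameCycle (rep b) ((φ ^ i) b) := (hrep b).trans ⟨i, rfl⟩
    obtain ⟨r, -, hr⟩ := h2.exists_pow_eq'
    exact ⟨r, i, hi, by rw [zpow_natCast, hr]⟩
  have h1 : ∀ a, rep (φ a) = rep a := fun a => by simpa using hrz 1 a
  have hPφ : ∀ a b r, P (φ a) (φ b) r ↔ P a b r := by
    intro a b r
    have e : ∀ (i : ℤ) c, (φ ^ i) (φ c) = (φ ^ (i + 1)) c := fun i c => by
      rw [← app]; simp
    constructor
    · rintro ⟨i, h2, h3⟩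
      rw [e, h1] at h2 h3
      exact ⟨i + 1, h2, h3⟩
    · rintro ⟨i, h2, h3⟩
      refine ⟨i - 1, ?_, ?_⟩
      · rw [e, h1, sub_add_cancel, h2]
      · rw [e, h1, sub_add_cancel, h3]
  refine ⟨rep, fun a b => Nat.find (hP a b), h1, fun a b => ?_, fun a b => Nat.find_spec (hP a b), ?_⟩
  · exact le_antisymm (Nat.find_mono fun r hr => (hPφ a b r).2 hr) (Nat.find_mono fun r hr => (hPφ a b r).1 hr)
  · have aux : ∀ a b b' (r r' : ℕ), P a b r → P a b' r' →
        (φ ^ (-2 * (r : ℤ))) b = (φ ^ (-2 * (r' : ℤ))) b' → P a b r' ∧ (r = r' → b = b') := by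
      rintro a b b' r r' ⟨i, ha, hb⟩ ⟨i', ha', hb'⟩ h
      have hr : rep b = rep b' := by rw [← hrz (-2 * (r : ℤ)) b, h, hrz]
      refine ⟨⟨2 * i - i', ?_, ?_⟩, ?_⟩
      · have : (φ ^ (2 * i - i')) a = (φ ^ (i - i')) ((φ ^ i) a) := by rw [app]; congr 2; ring
        rw [this, ha, ← ha', app, sub_add_cancel, ha, ha']
      · have e1 : (φ ^ (2 * i - i')) b = (φ ^ (i - i' + r)) (rep b) := by
          rw [← app, ← hb, app]; congr 2; ring
        have e2 : b = (φ ^ ((r : ℤ) - i)) (rep b) := by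
          have := congrArg (φ ^ (-i)) hb
          rw [app, app, neg_add_cancel, zpow_zero] at this
          rw [show (r : ℤ) - i = -i + r by ring]; exact this
        have e3 : b' = (φ ^ ((r' : ℤ) - i')) (rep b) := by
          have := congrArg (φ ^ (-i')) hb'
          rw [app, app, neg_add_cancel, zpow_zero, ← hr] at this
          rw [show (r' : ℤ) - i' = -i' + r' by ring]; exact this
        have e4 := congrArg (φ ^ ((r : ℤ) + r' + i)) h
        rw [e3, app, app] at e4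
        conv at e4 => lhs; rw [e2]
        simp only [app] at e4
        rw [e1, show i - i' + r = (r : ℤ) + r' + i + -2 * r' + (r' - i') by ring, ← e4]
        congr 2; ring
      · rintro rfl
        exact (φ ^ (-2 * (r : ℤ))).injective h
    intro a b b' h
    have h2 := aux a b b' _ _ (Nat.find_spec (hP a b)) (Nat.find_spec (hP a b')) h
    have h3 := aux a b' b _ _ (Nat.find_spec (hP a b')) (Nat.find_spec (hP a b)) h.symm
    exact h2.2 (le_antisymm (Nat.find_min' _ h2.1) (Nat.find_min' _ h3.1))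

theorem shift {M : Type*} [AddCommGroup M] (f : ℕ → M) (L : ℕ) (hf : ∀ j, f (j + L) = f j) (i : ℕ) :
    ∑ j ∈ range L, f (j + i) = ∑ j ∈ range L, f j := by
  induction i with
  | zero => simp
  | succ i ih =>
    have h1 := Finset.sum_range_succ (fun j => f (j + i)) L
    have h2 := Finset.sum_range_succ' (fun j => f (j + i)) L
    simp only [zero_add] at h2
    rw [h1, add_comm L i, hf] at h2
    rw [← ih, add_right_cancel h2]
    exact Finset.sum_congr rfl fun j _ => by congr 1; ring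

open Polynomial in
theorem mem_adj {K : Type*} [Field K] [Fintype K] [Algebra (ZMod p) K] (a β : K) (d : ℕ) (hd : 0 < d)
    (ha : a ^ p ^ d = a) (hmin : ∀ k, a ^ p ^ k = a → d ∣ k) (hβ : β ^ p ^ d = β) :
    ∃ P : (ZMod p)[X], aeval a P = β := by
  classical
  haveI : CharP K p := charP_of_injective_algebraMap (algebraMap (ZMod p) K).injective p
  have hp : 1 < p := (Fact.out : p.Prime).one_lt
  let S : IntermediateField (ZMod p) K := IntermediateField.adjoin (ZMod p) {a}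
  have hint : IsIntegral (ZMod p) a := IsIntegral.of_finite _ a
  have hS : ∀ x : K, x ∈ S → ∃ P : (ZMod p)[X], aeval a P = x := by
    intro x hx
    have : x ∈ S.toSubalgebra := hx
    rw [IntermediateField.adjoin_simple_toSubalgebra_of_isAlgebraic hint.isAlgebraic,
      Algebra.adjoin_singleton_eq_range_aeval] at this
    exact this
  haveI : Fintype S := Fintype.ofFinite S
  haveI : CharP S p := charP_of_injective_algebraMap (algebraMap (ZMod p) S).injective p
  obtain ⟨k, -, hk⟩ := FiniteField.card S p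
  have hak : a ^ p ^ (k : ℕ) = a := by
    have := FiniteField.pow_card (⟨a, IntermediateField.mem_adjoin_simple_self _ a⟩ : S)
    rw [hk] at this
    exact congrArg Subtype.val this
  have hdk : d ≤ k := Nat.le_of_dvd k.pos (hmin k hak)
  let T : Finset K := ((X : K[X]) ^ p ^ d - X).roots.toFinset
  have hne := FiniteField.X_pow_card_sub_X_ne_zero K (Nat.one_lt_pow hd.ne' hp)
  have hT : ∀ x, x ∈ T ↔ x ^ p ^ d = x := by
    intro x
    simp only [T, Multiset.mem_toFinset, mem_roots hne, IsRoot, eval_sub, eval_pow, eval_X, sub_eq_zero]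
  have hTc : T.card ≤ p ^ d := by
    refine (Multiset.toFinset_card_le _).trans ((card_roots' _).trans ?_)
    rw [FiniteField.X_pow_card_sub_X_natDegree_eq K (Nat.one_lt_pow hd.ne' hp)]
  let S' : Finset K := univ.map ⟨(Subtype.val : S → K), Subtype.val_injective⟩
  have hsub : S' ⊆ T := by
    intro x hx
    simp only [S', mem_map, mem_univ, true_and, Embedding.coeFn_mk] at hx
    obtain ⟨y, rfl⟩ := hx
    obtain ⟨P, hP⟩ := hS y y.2
    rw [hT, ← hP]
    have := Polynomial.aeval_algHom_apply ((FiniteField.frobeniusAlgHom (ZMod p) K) ^ d) a P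
    have e : ∀ z : K, ((FiniteField.frobeniusAlgHom (ZMod p) K) ^ d) z = z ^ p ^ d := by
      intro z
      rw [AlgHom.coe_pow, FiniteField.coe_frobeniusAlgHom, pow_iterate, ZMod.card]
    rw [e, e, ha] at this
    exact this.symm
  have hc : T.card ≤ S'.card := by
    rw [card_map, card_univ, hk]
    exact hTc.trans (Nat.pow_le_pow_right hp.le hdk)
  have heq := Finset.eq_of_subset_of_card_le hsub hc
  have : β ∈ S' := heq ▸ (hT β).2 hβ
  simp only [S', mem_map, mem_univ, true_and, Embedding.coeFn_mk] at this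
  obtain ⟨y, rfl⟩ := this
  exact hS y y.2

open Polynomial in
theorem ex (K : Type*) [Field K] [Fintype K] [Algebra (ZMod p) K] :
    ∃ (l : K → ℕ) (ρ : K → K → K), (∀ a b, ρ (a ^ p) (b ^ p) = ρ a b ^ p) ∧ (∀ a, Injective (ρ a)) ∧
      (∀ a b, ∃ i, ρ a b = b ^ p ^ i) ∧
      (∀ m : K → K → ℕ, (∀ a b, m (a ^ p) (b ^ p) = m a b) → (∀ b, m 0 b = 0) → (∀ a, m a 0 = 0) →
        ∏ a, ∏ b, a ^ (l b * m a b) = ∏ a, ∏ b, ρ a b ^ (l a * m a b)) ∧
      (∀ m : K → K → ℕ, (∀ a b, m (a ^ p) (b ^ p) = m a b) → (∀ b, m 0 b = 0) → (∀ a, m a 0 = 0) →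
        ∑ a, ∑ b, (m a b : K) * ρ a b = ∑ a, ∑ b, (m a b : K) * b) ∧
      l 1 = 0 ∧ ∀ a ≠ 0, ∃ j, ∃ P : (ZMod p)[X], (aeval (a ^ p ^ j) P) ^ (l (a ^ p ^ j)) = a ^ p ^ j ∧
        ∀ i, a ^ p ^ i ≠ a ^ p ^ j → l (a ^ p ^ i) = 0 := by
  classical
  haveI : CharP K p := charP_of_injective_algebraMap (algebraMap (ZMod p) K).injective p
  have hp : 1 < p := (Fact.out : p.Prime).one_lt
  obtain ⟨N', -, hN⟩ := FiniteField.card K p
  obtain ⟨N, hN0⟩ := N'
  simp only [PNat.mk_coe] at hN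
  have hNa : ∀ a : K, a ^ p ^ N = a := fun a => by rw [← hN, FiniteField.pow_card]
  let φ : Equiv.Perm K := (frobeniusEquiv K p).toEquiv
  have hφ : ∀ a, φ a = a ^ p := fun a => rfl
  have hit : ∀ (n : ℕ) a, φ^[n] a = a ^ p ^ n := fun n a => by
    rw [show (φ : K → K) = fun x => x ^ p from rfl, pow_iterate]
  have hpw : ∀ (n : ℕ) a, (φ ^ n) a = a ^ p ^ n := fun n a => by rw [← hit, Equiv.Perm.iterate_eq_pow]
  have hz : ∀ z : ℤ, ∃ n : ℕ, φ ^ z = φ ^ n := fun z =>
    ⟨(z % (orderOf φ : ℤ)).toNat, by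
      rw [← zpow_natCast, Int.toNat_of_nonneg (Int.emod_nonneg _ (by exact_mod_cast (orderOf_pos φ).ne')), zpow_mod_orderOf]⟩
  have hzp : ∀ (z : ℤ) a (k : ℕ), (φ ^ z) (a ^ k) = (φ ^ z) a ^ k := fun z a k => by
    obtain ⟨n, hn⟩ := hz z
    rw [hn, hpw, hpw, ← pow_mul, ← pow_mul, mul_comm]
  have app : ∀ (i j : ℤ) a, (φ ^ i) ((φ ^ j) a) = (φ ^ (i + j)) a := by
    intro i j a
    rw [zpow_add, Equiv.Perm.mul_apply]
  obtain ⟨rep, δ, hr1, hδ, hspec, hinj⟩ := data φ
  have hrn : ∀ (n : ℕ) a, rep (a ^ p ^ n) = rep a := by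
    intro n
    induction n with
    | zero => simp
    | succ n ih => intro a; rw [pow_succ, pow_mul, ← hφ, hr1, ih]
  have hre : ∀ a, ∃ j : ℕ, a ^ p ^ j = rep a := fun a => by
    obtain ⟨i, hi, -⟩ := hspec a a
    obtain ⟨n, hn⟩ := hz i
    exact ⟨n, by rw [← hpw, ← hn, hi]⟩
  have hrr : ∀ a, rep (rep a) = rep a := fun a => by
    obtain ⟨j, hj⟩ := hre a
    rw [← hj, hrn, hj]
  let d : K → ℕ := fun a => minimalPeriod φ a
  have hd0 : ∀ a, 0 < d a := fun a => minimalPeriod_pos_of_mem_periodicPts (φ.injective.mem_periodicPts a)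
  have hd : ∀ a i, a ^ p ^ i = a ↔ d a ∣ i := fun a i => by
    rw [← isPeriodicPt_iff_minimalPeriod_dvd, IsPeriodicPt, IsFixedPt, hit]
  obtain ⟨γ, hγ⟩ := IsCyclic.exists_ofOrder_eq_natCard (α := Kˣ)
  rw [Nat.card_units, Nat.card_eq_fintype_card, hN] at hγ
  have hγ' : ∀ x : Kˣ, ∃ n, γ ^ n = x := fun x => by
    have : Subgroup.zpowers γ = ⊤ := by
      rw [← Subgroup.card_eq_iff_eq_top, Nat.card_zpowers, hγ, Nat.card_units, Nat.card_eq_fintype_card, hN]
    exact mem_powers_iff_mem_zpowers.2 (this ▸ Subgroup.mem_top x)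
  let u : ℕ → ℕ := fun e => (p ^ N - 1) / (p ^ e - 1)
  have hu : ∀ e, 0 < e → e ∣ N → u e * (p ^ e - 1) = p ^ N - 1 := fun e he h =>
    Nat.div_mul_cancel (Nat.pow_sub_one_dvd_pow_sub_one p h)
  have hdN : ∀ a, d a ∣ N := fun a => (hd a N).1 (hNa a)
  have hl0 : ∀ a : K, a ≠ 0 → ∃ k, (γ : K) ^ (u (d a) * k) = a := by
    intro a ha
    obtain ⟨n, hn⟩ := hγ' (Units.mk0 a ha)
    have h1 : 0 < p ^ d a - 1 := Nat.sub_pos_of_lt (Nat.one_lt_pow (hd0 a).ne' hp)
    have hn' : (γ : K) ^ n = a := by rw [← Units.val_pow_eq_pow_val, hn]; rfl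
    have h2 : a ^ (p ^ d a - 1) = 1 := by
      apply mul_right_cancel₀ ha
      rw [← pow_succ, Nat.sub_add_cancel (by omega), (hd a _).2 dvd_rfl, one_mul]
    have h3 : orderOf γ ∣ n * (p ^ d a - 1) := by
      rw [orderOf_dvd_iff_pow_eq_one]
      ext
      rw [Units.val_pow_eq_pow_val, pow_mul, hn', h2]; rfl
    rw [hγ, ← hu _ (hd0 a) (hdN a)] at h3
    obtain ⟨k, hk⟩ := Nat.dvd_of_mul_dvd_mul_right h1 h3
    exact ⟨k, by rw [← hk, hn']⟩
  let l : K → ℕ := fun a => if h : a ≠ 0 ∧ rep a = a then Nat.find (hl0 a h.1) else 0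
  have hl : ∀ a, a ≠ 0 → rep a = a → (γ : K) ^ (u (d a) * l a) = a := fun a h1 h2 => by
    simp only [l, dif_pos (And.intro h1 h2)]
    exact Nat.find_spec (hl0 a h1)
  have hl' : ∀ a, rep a ≠ a → l a = 0 := fun a h => by
    simp only [l]; rw [dif_neg (fun h' => h h'.2)]
  let ρ : K → K → K := fun a b => (φ ^ (-2 * (δ a b : ℤ))) b
  have hρ : ∀ a b, ρ (a ^ p) (b ^ p) = ρ a b ^ p := fun a b => by
    simp only [ρ]
    rw [← hφ a, ← hφ b, hδ, hφ b, hzp]
  have hρn : ∀ (n : ℕ) a b, ρ (a ^ p ^ n) (b ^ p ^ n) = ρ a b ^ p ^ n := by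
    intro n
    induction n with
    | zero => simp
    | succ n ih => intro a b; rw [pow_succ, pow_mul, pow_mul, hρ, ih, pow_mul]
  have hρi : ∀ a b, ∃ i, ρ a b = b ^ p ^ i := fun a b => by
    obtain ⟨n, hn⟩ := hz (-2 * (δ a b : ℤ))
    exact ⟨n, by simp only [ρ]; rw [hn, hpw]⟩
  let Φ : Equiv.Perm (K × K) := φ.prodCongr φ
  have hΦ : ∀ (n : ℕ) (x : K × K), Φ^[n] x = (x.1 ^ p ^ n, x.2 ^ p ^ n) := by
    intro n
    induction n with
    | zero => simp
    | succ n ih => intro x; rw [iterate_succ_apply', ih, pow_succ, pow_mul, pow_mul]; rfl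
  have hL : ∀ x : K × K, x.1 ^ p ^ minimalPeriod Φ x = x.1 ∧ x.2 ^ p ^ minimalPeriod Φ x = x.2 := fun x => by
    have := iterate_minimalPeriod (f := Φ) (x := x)
    rw [hΦ] at this
    exact ⟨congrArg Prod.fst this, congrArg Prod.snd this⟩
  have hL0 : ∀ x, 0 < minimalPeriod Φ x := fun x =>
    minimalPeriod_pos_of_mem_periodicPts (Φ.injective.mem_periodicPts x)
  have hLN : ∀ x, minimalPeriod Φ x ∣ N := fun x => by
    rw [← isPeriodicPt_iff_minimalPeriod_dvd, IsPeriodicPt, IsFixedPt, hΦ, hNa, hNa]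
  -- the norm computation
  have norm : ∀ (L : ℕ) (c b : K), 0 < L → L ∣ N → b ≠ 0 → rep b = b → b ^ p ^ L = b →
      ∃ s, ∏ j ∈ range L, (c ^ p ^ j) ^ l (b ^ p ^ j) = c ^ s ∧ (γ : K) ^ (u L * s) = b := by
    intro L c b hL0 hLN hb hrb hbL
    obtain ⟨k, rfl⟩ := (hd b L).1 hbL
    have hk : 0 < k := Nat.pos_of_mul_pos_left hL0
    refine ⟨(∑ j ∈ range k, (p ^ d b) ^ j) * l b, ?_, ?_⟩
    · rw [Finset.prod_congr rfl (g := fun j => if d b ∣ j then (c ^ p ^ j) ^ l b else 1),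
        prod_filter_dvd _ _ (hd0 b), Finset.sum_mul, ← Finset.prod_pow_eq_pow_sum]
      · exact Finset.prod_congr rfl fun j _ => by rw [← pow_mul, ← pow_mul]
      · intro j _
        split_ifs with h
        · rw [(hd b j).2 h]
        · rw [hl' _ (by rw [hrn, hrb]; exact fun h' => h ((hd b j).1 h'.symm)), pow_zero]
    · have := hl b hb hrb
      simp only [u] at this ⊢
      rw [u_eq p N (d b) k (hd0 b) hk hLN, mul_assoc] at this
      exact this
  have same : ∀ (x : K × K) (n : ℕ) (y : K × K), Φ.SameCycle (Φ^[n] x) y ↔ Φ.SameCycle x y := by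
    intro x n y
    rw [Equiv.Perm.iterate_eq_pow, Equiv.Perm.sameCycle_pow_left]
  refine ⟨l, ρ, hρ, hinj, hρi, ?_, ?_, ?_, ?_⟩
  · intro m hm h1 h2
    rw [← Fintype.prod_prod_type', ← Fintype.prod_prod_type']
    simp only [pow_mul]
    refine orbit_red Φ (fun x => x.1 ^ l x.2) (fun x => ρ x.1 x.2 ^ l x.1) (fun x => m x.1 x.2)
      (fun x => hm x.1 x.2) ?_
    rintro ⟨a, b⟩ hm0
    have ha : a ≠ 0 := by rintro rfl; exact hm0 (h1 b)
    have hb : b ≠ 0 := by rintro rfl; exact hm0 (h2 a)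
    obtain ⟨i, hi1, hi2⟩ := hspec a b
    obtain ⟨n0, hn0⟩ := hz (-(δ a b : ℤ) + i)
    obtain ⟨n1, hn1⟩ := hz i
    have ha0 : rep a ≠ 0 := by obtain ⟨j, hj⟩ := hre a; rw [← hj]; exact pow_ne_zero _ ha
    have hb0 : rep b ≠ 0 := by obtain ⟨j, hj⟩ := hre b; rw [← hj]; exact pow_ne_zero _ hb
    have x0 : Φ^[n0] (a, b) = ((φ ^ (-(δ a b : ℤ))) (rep a), rep b) := by
      rw [hΦ, ← hpw, ← hpw, ← hn0, ← app, ← app, hi1, hi2, app, neg_add_cancel, zpow_zero]; rfl
    have x1 : Φ^[n1] (a, b) = (rep a, (φ ^ (δ a b : ℤ)) (rep b)) := by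
      rw [hΦ, ← hpw, ← hpw, ← hn1, hi1, hi2]
    have hper := Φ.injective.mem_periodicPts (a, b)
    have L0 := minimalPeriod_apply_iterate hper n0
    have L1 := minimalPeriod_apply_iterate hper n1
    have eρ : ρ (rep a) ((φ ^ (δ a b : ℤ)) (rep b)) = (φ ^ (-(δ a b : ℤ))) (rep b) := by
      rw [← hi2, ← hi1, hn1, hpw, hpw, hρn, ← hpw, ← hn1]
      simp only [ρ]
      have : rep b = (φ ^ (-(δ a b : ℤ))) ((φ ^ i) b) := by rw [hi2, app, neg_add_cancel, zpow_zero]; rfl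
      rw [this, app, app, app]
      congr 2; ring
    have b0L := (hL (Φ^[n0] (a, b))).2
    have a0L := (hL (Φ^[n1] (a, b))).1
    rw [L0, x0] at b0L
    rw [L1, x1] at a0L
    obtain ⟨s, hs1, hs2⟩ := norm _ ((φ ^ (-(δ a b : ℤ))) (rep a)) (rep b) (hL0 (a, b)) (hLN _) hb0 (hrr b) b0L
    obtain ⟨t, ht1, ht2⟩ := norm _ ((φ ^ (-(δ a b : ℤ))) (rep b)) (rep a) (hL0 (a, b)) (hLN _) ha0 (hrr a) a0L
    conv_lhs => simp only [← same (a, b) n0]
    conv_rhs => simp only [← same (a, b) n1]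
    rw [orbit_range, orbit_range, L0, L1, x0, x1]
    simp only [hΦ, hρn, eρ]
    rw [hs1, ht1, ← hzp, ← hzp, ← hs2, ← ht2, ← pow_mul, ← pow_mul]
    congr 2; ring
  · intro m hm _ _
    rw [← Fintype.sum_prod_type', ← Fintype.sum_prod_type']
    have := orbit_red (M := Multiplicative K) Φ (fun x => Multiplicative.ofAdd (ρ x.1 x.2))
      (fun x => Multiplicative.ofAdd x.2) (fun x => m x.1 x.2) (fun x => hm x.1 x.2) ?_
    · have h := congrArg Multiplicative.toAdd this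
      simpa [toAdd_prod, nsmul_eq_mul] using h
    · rintro ⟨a, b⟩ -
      rw [orbit_range, orbit_range, ← ofAdd_sum, ← ofAdd_sum]
      congr 1
      obtain ⟨i, hi⟩ := hρi a b
      simp only [hΦ, hρn, hi]
      rw [← shift (fun j => b ^ p ^ j) _ (fun j => by
        rw [add_comm, pow_add, pow_mul, (hL (a, b)).2]) i]
      exact Finset.sum_congr rfl fun j _ => by rw [← pow_mul, ← pow_add, add_comm]
  · simp only [l]
    split_ifs with h
    · rw [Nat.find_eq_zero]; simp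
    · rfl
  · intro a ha
    obtain ⟨j, hj⟩ := hre a
    have ha0 : rep a ≠ 0 := by rw [← hj]; exact pow_ne_zero _ ha
    obtain ⟨P, hP⟩ := mem_adj p (rep a) ((γ : K) ^ u (d (rep a))) (d (rep a)) (hd0 _) ((hd _ _).2 dvd_rfl)
      (fun k hk => (hd _ k).1 hk) (by
        have h1 : 1 ≤ p ^ d (rep a) := Nat.one_le_pow _ _ (by omega)
        rw [← Nat.sub_add_cancel h1, pow_succ, ← pow_mul, hu _ (hd0 _) (hdN _), ← hγ,
          ← Units.val_pow_eq_pow_val, pow_orderOf_eq_one, Units.val_one, one_mul])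
    refine ⟨j, P, ?_, fun i hi => hl' _ ?_⟩
    · rw [hj, hP, ← pow_mul, hl _ ha0 (hrr a)]
    · rw [hrn, ← hj]; exact hi.symm

end CL.KGV.PairX
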