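import Mathlib

/-! Spectral idempotents over a finite field and determinants on them. -/

set_option autoImplicit false
open Polynomial

namespace CL.KGV.Pi

section alg
variable {K : Type*} [Field K] [Fintype K] {A : Type*} [Ring A] [Algebra K A]

/-- the projection on the `a`-eigenspace of `z` (when `z ^ card K = z`) -/
noncomputable def pi (z : A) (a : K) : A := 1 - (z - algebraMap K A a) ^ (Fintype.card K - 1)

theorem commute_pi {z y : A} (h : Commute y z) (a : K) : Commute y (pi z a) :=
  (Commute.one_right y).sub_right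
    ((h.sub_right (Algebra.commute_algebraMap_right a y)).pow_right _)

theorem pi_commute {z y : A} (h : Commute y z) (a b : K) : Commute (pi y a) (pi z b) :=
  commute_pi (commute_pi h.symm a).symm b

theorem pi_eq_aeval (z : A) (a : K) :
    pi z a = aeval z (1 - (X - C a) ^ (Fintype.card K - 1) : K[X]) := by
  simp [pi]

theorem poly_mul (a : K) :
    (X - C a) * (1 - (X - C a) ^ (Fintype.card K - 1) : K[X]) = X - X ^ Fintype.card K := by
  obtain ⟨p, hp⟩ := CharP.exists K
  obtain ⟨n, hpp, hn⟩ := FiniteField.card K p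
  haveI := Fact.mk hpp
  have h1 : Fintype.card K - 1 + 1 = Fintype.card K := Nat.sub_add_cancel Fintype.card_pos
  rw [mul_sub, mul_one, ← pow_succ', h1, hn, sub_pow_char_pow, ← C_pow, ← hn, FiniteField.pow_card]
  ring

theorem mul_pi {z : A} (hz : z ^ Fintype.card K = z) (a : K) : z * pi z a = a • pi z a := by
  have := congrArg (aeval z) (poly_mul a)
  rw [map_mul, ← pi_eq_aeval] at this
  simp only [map_sub, aeval_X, aeval_C, map_pow, hz, sub_self] at this
  rw [sub_mul, sub_eq_zero] at this
  rw [this, Algebra.smul_def]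

theorem pi_mul {z : A} (hz : z ^ Fintype.card K = z) (a : K) : pi z a * z = a • pi z a := by
  rw [← (commute_pi (Commute.refl z) a).eq, mul_pi hz]

theorem pi_orth {z : A} (hz : z ^ Fintype.card K = z) {a b : K} (hab : a ≠ b) :
    pi z a * pi z b = 0 := by
  have h1 : pi z a * z * pi z b = a • (pi z a * pi z b) := by rw [pi_mul hz, smul_mul_assoc]
  have h2 : pi z a * z * pi z b = b • (pi z a * pi z b) := by
    rw [mul_assoc, mul_pi hz, mul_smul_comm]
  have h3 : (a - b) • (pi z a * pi z b) = 0 := by rw [sub_smul, ← h1, ← h2, sub_self]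
  have h4 := congrArg (fun x => (a - b)⁻¹ • x) h3
  simpa [smul_smul, inv_mul_cancel₀ (sub_ne_zero.2 hab)] using h4

theorem poly_sum : ∑ a : K, (1 - (X - C a) ^ (Fintype.card K - 1) : K[X]) = 1 := by
  classical
  have hq : 1 < Fintype.card K := Fintype.one_lt_card
  refine Polynomial.eq_of_natDegree_lt_card_of_eval_eq _ _ (f := fun a : K => a)
    Function.injective_id (fun b => ?_) ?_
  · rw [eval_finset_sum, eval_one, Finset.sum_eq_single b]
    · simp [show Fintype.card K - 1 ≠ 0 by omega]
    · intro a _ hab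
      simp [FiniteField.pow_card_sub_one_eq_one (b - a) (sub_ne_zero.2 hab.symm)]
    · simp
  · refine max_lt (lt_of_le_of_lt (natDegree_sum_le_of_forall_le (n := Fintype.card K - 1) _ _
      fun a _ => ?_) (by omega)) (by rw [natDegree_one]; omega)
    refine (natDegree_sub_le _ _).trans (max_le (by simp) ?_)
    rw [natDegree_pow, natDegree_X_sub_C, mul_one]

theorem sum_pi (z : A) : ∑ a : K, pi z a = 1 := by
  simp only [pi_eq_aeval]
  rw [← map_sum, poly_sum, map_one]

theorem pi_idem {z : A} (hz : z ^ Fintype.card K = z) (a : K) : pi z a * pi z a = pi z a := by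
  classical
  conv_rhs => rw [← mul_one (pi z a), ← sum_pi (K := K) z, Finset.mul_sum]
  rw [Finset.sum_eq_single a (fun b _ hb => pi_orth hz hb.symm) (by simp)]

theorem sum_smul_pi {z : A} (hz : z ^ Fintype.card K = z) : ∑ a : K, a • pi z a = z := by
  simp only [← mul_pi hz]
  rw [← Finset.mul_sum, sum_pi, mul_one]

/-- a ring homomorphism that is `φ`-semilinear on scalars moves the projections -/
theorem map_pi {B : Type*} [Ring B] [Algebra K B] (f : A →+* B) (φ : K → K)
    (hf : ∀ a, f (algebraMap K A a) = algebraMap K B (φ a)) (z : A) (a : K) :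
    f (pi z a) = pi (f z) (φ a) := by
  simp [pi, hf]

theorem conj_pi (u : Aˣ) (z : A) (a : K) : pi ((u : A) * z * (u⁻¹ : Aˣ)) a = u * pi z a * (u⁻¹ : Aˣ) := by
  have h : (u : A) * z * (u⁻¹ : Aˣ) - algebraMap K A a = u * (z - algebraMap K A a) * (u⁻¹ : Aˣ) := by
    rw [mul_sub, sub_mul, ← (Algebra.commutes a (u : A)), mul_assoc (algebraMap K A a),
      Units.mul_inv, mul_one]
  rw [pi, pi, h, Units.conj_pow, mul_sub, sub_mul, mul_one, Units.mul_inv]

theorem pi_zero_of_isUnit {z : A} (hz : z ^ Fintype.card K = z) (hu : IsUnit z) :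
    pi z (0 : K) = 0 := by
  have := mul_pi hz (0 : K)
  rw [zero_smul] at this
  exact hu.mul_right_eq_zero.1 this

end alg

section mat
variable {K : Type*} [Field K] {n : Type*} [Fintype n] [DecidableEq n]

/-- the rank of an idempotent matrix, through a determinant -/
noncomputable def dg (e : Matrix n n K) : ℕ :=
  (Matrix.det ((X : K[X]) • e.map C + 1 - e.map C)).natDegree

theorem det_poly {e : Matrix n n K} (he : e * e = e) :
    Matrix.det ((X : K[X]) • e.map C + 1 - e.map C) = X ^ dg e := by
  have he' : e.map (C : K →+* K[X]) * e.map C = e.map C := by rw [← Matrix.map_mul, he]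
  have h1 : ((X : K[X]) • e.map C + 1 - e.map C) * (e.map C + (X : K[X]) • (1 - e.map C))
      = (X : K[X]) • (1 : Matrix n n K[X]) := by
    simp only [mul_add, add_mul, sub_mul, mul_sub, smul_sub, Matrix.smul_mul, Matrix.mul_smul, he',
      mul_one, one_mul]
    abel
  have h2 := congrArg Matrix.det h1
  rw [Matrix.det_mul, Matrix.det_smul, Matrix.det_one, mul_one] at h2
  obtain ⟨i, -, hi⟩ := (dvd_prime_pow prime_X _).1 (Dvd.intro _ h2)
  obtain ⟨u, hu⟩ := hi.symm
  obtain ⟨c, -, hc⟩ := Polynomial.isUnit_iff.1 u.isUnit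
  have h3 := congrArg (evalRingHom (1 : K)) hu
  rw [RingHom.map_det, ← hc] at h3
  have h4 : (evalRingHom (1 : K)).mapMatrix ((X : K[X]) • e.map C + 1 - e.map C) = 1 := by
    ext i j
    simp [Matrix.one_apply]
    split_ifs <;> simp
  rw [h4, Matrix.det_one] at h3
  have h5 : c = 1 := by simpa using h3
  rw [← hc, h5, C_1, mul_one] at hu
  rw [dg, ← hu, natDegree_X_pow]

theorem det_smul_idem {e : Matrix n n K} (he : e * e = e) (c : K) :
    Matrix.det (c • e + 1 - e) = c ^ dg e := by
  have h3 := congrArg (evalRingHom c) (det_poly he)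
  rw [RingHom.map_det] at h3
  have h4 : (evalRingHom c).mapMatrix ((X : K[X]) • e.map C + 1 - e.map C) = c • e + 1 - e := by
    ext i j
    simp [Matrix.one_apply]
    split_ifs <;> simp [mul_comm]
  rw [h4] at h3
  simpa using h3

theorem dg_map {L : Type*} [Field L] (φ : K →+* L) (e : Matrix n n K) : dg (e.map φ) = dg e := by
  have h : (mapRingHom φ).mapMatrix ((X : K[X]) • e.map C + 1 - e.map C)
      = (X : L[X]) • (e.map φ).map C + 1 - (e.map φ).map C := by
    ext1 i j
    simp [Matrix.one_apply]
    split_ifs <;> simp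
  rw [dg, dg, ← h, ← RingHom.map_det, coe_mapRingHom, natDegree_map]

theorem dg_conj (u : (Matrix n n K)ˣ) (e : Matrix n n K) :
    dg ((u : Matrix n n K) * e * ((u⁻¹ : (Matrix n n K)ˣ) : Matrix n n K)) = dg e := by
  let v : (Matrix n n K[X])ˣ := Units.map ((C : K →+* K[X]).mapMatrix (m := n)).toMonoidHom u
  have h1 : ((u : Matrix n n K) * e * ((u⁻¹ : (Matrix n n K)ˣ) : Matrix n n K)).map C
      = (v : Matrix n n K[X]) * e.map C * ((v⁻¹ : (Matrix n n K[X])ˣ) : Matrix n n K[X]) := by
    rw [Matrix.map_mul, Matrix.map_mul]; rfl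
  have h2 : (X : K[X]) • ((v : Matrix n n K[X]) * e.map C * ((v⁻¹ : (Matrix n n K[X])ˣ) : Matrix n n K[X])) + 1
      - (v : Matrix n n K[X]) * e.map C * ((v⁻¹ : (Matrix n n K[X])ˣ) : Matrix n n K[X])
      = (v : Matrix n n K[X]) * ((X : K[X]) • e.map C + 1 - e.map C) * ((v⁻¹ : (Matrix n n K[X])ˣ) : Matrix n n K[X]) := by
    simp only [mul_add, add_mul, mul_sub, sub_mul, mul_one, Units.mul_inv, Matrix.mul_smul,
      Matrix.smul_mul]
  rw [dg, dg, h1, h2, Matrix.det_units_conj]

theorem dg_zero : dg (0 : Matrix n n K) = 0 := by simp [dg]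

/-- determinant of a combination of orthogonal idempotents -/
theorem det_sum {ι : Type*} (s : Finset ι) (e : ι → Matrix n n K) (he : ∀ i, e i * e i = e i)
    (ho : ∀ i j, i ≠ j → e i * e j = 0) (c : ι → K) :
    Matrix.det (∑ i ∈ s, c i • e i + 1 - ∑ i ∈ s, e i) = ∏ i ∈ s, c i ^ dg (e i) := by
  classical
  induction s using Finset.induction_on with
  | empty => simp
  | insert a s ha ih =>
    rw [Finset.sum_insert ha, Finset.sum_insert ha, Finset.prod_insert ha, ← ih,
      ← det_smul_idem (he a), ← Matrix.det_mul]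
    have h1 : e a * ∑ i ∈ s, e i = 0 := by
      rw [Finset.mul_sum]
      exact Finset.sum_eq_zero fun i hi => ho a i (fun h => ha (h ▸ hi))
    have h2 : e a * ∑ i ∈ s, c i • e i = 0 := by
      rw [Finset.mul_sum]
      exact Finset.sum_eq_zero fun i hi => by
        rw [Matrix.mul_smul, ho a i (fun h => ha (h ▸ hi)), smul_zero]
    congr 1
    simp only [mul_add, add_mul, mul_sub, sub_mul, mul_one, one_mul, Matrix.smul_mul, h1, h2,
      smul_zero]
    abel

/-- determinant of `g` on the image of an idempotent commuting with it -/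
theorem det_on [Fintype K] {g e : Matrix n n K} (hg : g ^ Fintype.card K = g) (he : e * e = e)
    (hc : Commute e g) : Matrix.det (g * e + 1 - e) = ∏ a : K, a ^ dg (pi g a * e) := by
  rw [← det_sum Finset.univ (fun a => pi g a * e)]
  · congr 2
    · simp only [← Matrix.smul_mul]
      rw [← Finset.sum_mul, sum_smul_pi hg]
    · rw [← Finset.sum_mul, sum_pi, one_mul]
  · intro a
    rw [mul_assoc, ← mul_assoc e, (commute_pi hc a).eq, mul_assoc, he, ← mul_assoc, pi_idem hg]
  · intro a b hab
    rw [mul_assoc, ← mul_assoc e, (commute_pi hc b).eq, mul_assoc, ← mul_assoc, pi_orth hg hab,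
      zero_mul]

/-- multiplicativity in `g` -/
theorem det_on_mul {g h e : Matrix n n K} (he : e * e = e) (hc : Commute e h) :
    Matrix.det (g * h * e + 1 - e) = Matrix.det (g * e + 1 - e) * Matrix.det (h * e + 1 - e) := by
  rw [← Matrix.det_mul]
  congr 1
  have h1 : e * (h * e) = h * e := by rw [← mul_assoc, hc.eq, mul_assoc, he]
  simp only [mul_add, add_mul, mul_sub, sub_mul, mul_one, one_mul, mul_assoc, he, h1]
  abel

end mat

end CL.KGV.Pi
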