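import Cfsg.Agent.KGV.Re1

set_option autoImplicit false
set_option linter.unusedSectionVars false

namespace CL.KGV.Re

open Matrix Polynomial CL.KGV.Idem

variable {p : ℕ} [Fact p.Prime] {K : Type*} [Field K] [Fintype K] [Algebra (ZMod p) K]
  {n : Type*} [Fintype n] [DecidableEq n]

variable (K) in
/-- Extension of scalars. -/
def io : Matrix n n (ZMod p) →+* Matrix n n K := (algebraMap (ZMod p) K).mapMatrix

theorem io_inj : Function.Injective (io K : Matrix n n (ZMod p) → Matrix n n K) := fun a b h => by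
  ext i j
  exact (algebraMap (ZMod p) K).injective (congrFun (congrFun h i) j)

variable (K) in
/-- The pairing. -/
noncomputable def lam (l : K → ℕ) (x g : Matrix n n (ZMod p)) : K :=
  ∏ b, det (io K g * ep (io K x ^ Fintype.card K) b + (1 - ep (io K x ^ Fintype.card K) b)) ^ l b

theorem cut_mul {A : Type*} [Ring A] {e a b : A} (he : e * e = e) (hb : Commute b e) :
    a * b * e + (1 - e) = (a * e + (1 - e)) * (b * e + (1 - e)) := by
  have h1 : e * (b * e) = b * e := by rw [← mul_assoc, ← hb.eq, mul_assoc, he]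
  simp only [add_mul, mul_add, mul_sub, sub_mul, one_mul, mul_one, mul_assoc, h1, he]
  abel

theorem lam_mul (l : K → ℕ) {x a b : Matrix n n (ZMod p)}
    (hx : (x ^ Fintype.card K) ^ Fintype.card K = x ^ Fintype.card K) (hb : Commute b x) :
    lam K l x (a * b) = lam K l x a * lam K l x b := by
  rw [lam, lam, lam, ← Finset.prod_mul_distrib]
  refine Finset.prod_congr rfl fun c _ => ?_
  have hs : (io K x ^ Fintype.card K) ^ Fintype.card K = io K x ^ Fintype.card K := by
    rw [← map_pow, ← map_pow, hx]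
  rw [map_mul, cut_mul ((coi hs).idem c).eq (commute_ep ((hb.map (io K)).pow_right _) c), det_mul, mul_pow]

theorem lam_one (l : K → ℕ) (x : Matrix n n (ZMod p)) : lam K l x 1 = 1 := by
  simp [lam]

theorem desc (z : Matrix n n K) (h : ∀ i j, z i j ^ p = z i j) : ∃ y : Matrix n n (ZMod p), io K y = z := by
  have : CharP K p := (Algebra.charP_iff (ZMod p) K p).1 inferInstance
  have h1 : ∀ i j, ∃ c : ZMod p, algebraMap (ZMod p) K c = z i j := fun i j => by
    have h2 := (Subfield.mem_bot_iff_pow_eq_self K p).2 (h i j)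
    have h3 : (⊥ : Subfield K) ≤ (algebraMap (ZMod p) K).fieldRange := bot_le
    exact h3 h2
  choose y hy using h1
  exact ⟨Matrix.of y, by ext i j; exact hy i j⟩

theorem cut_pow {A : Type*} [Ring A] {e a : A} (he : e * e = e) (ha : Commute a e) (k : ℕ) :
    (a * e + (1 - e)) ^ k = a ^ k * e + (1 - e) := by
  induction k with
  | zero => simp
  | succ k ih => rw [pow_succ, ih, pow_succ, cut_mul he ha]

variable (p) in
include p in
theorem nilp (u : Matrix n n K) (hu : u ^ Fintype.card K = 1) : IsNilpotent (u - 1) := by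
  have : CharP K p := (Algebra.charP_iff (ZMod p) K p).1 inferInstance
  obtain ⟨k, -, hk⟩ := FiniteField.card K p
  refine ⟨Fintype.card K, ?_⟩
  have h : ((X : K[X]) - 1) ^ Fintype.card K = X ^ Fintype.card K - 1 := by
    rw [hk, sub_pow_char_pow, one_pow]
  have h2 := congrArg (aeval u) h
  simpa [hu] using h2

theorem core (l : K → ℕ) (ρ : K → K → K) (h1 : ∀ a b, ρ (a ^ p) (b ^ p) = ρ a b ^ p)
    (h2 : ∀ a, Function.Injective (ρ a)) (h3 : ∀ a b, ∃ i : ℕ, ρ a b = b ^ p ^ i)
    (h4 : ∀ m : K → K → ℕ, (∀ a b, m (a ^ p) (b ^ p) = m a b) → (∀ b, m 0 b = 0) → (∀ a, m a 0 = 0) →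
      ∏ a, ∏ b, a ^ (l b * m a b) = ∏ a, ∏ b, ρ a b ^ (l a * m a b))
    (h5 : ∀ m : K → K → ℕ, (∀ a b, m (a ^ p) (b ^ p) = m a b) → (∀ b, m 0 b = 0) → (∀ a, m a 0 = 0) →
      ∑ a, ∑ b, (m a b : K) * ρ a b = ∑ a, ∑ b, (m a b : K) * b)
    (g x : (Matrix n n (ZMod p))ˣ) (hg : g ^ (Fintype.card K - 1) = 1)
    (hx : (x ^ Fintype.card K) ^ (Fintype.card K - 1) = 1) (hc : Commute x g) :
    ∃ r : (Matrix n n (ZMod p))ˣ, r ^ (Fintype.card K - 1) = 1 ∧ Commute r g ∧ Commute r x ∧
      trace (x * (x ^ Fintype.card K)⁻¹ * r).1 = trace x.1 ∧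
      lam K l x.1 g.1 = lam K l g.1 (x * (x ^ Fintype.card K)⁻¹ * r).1 ∧
      io K (x ^ Fintype.card K).1 =
        ∑ a, ∑ c, Function.invFun (ρ a) c • (ep (io K g.1) a * ep (io K r.1) c) := by
  classical
  have : CharP K p := (Algebra.charP_iff (ZMod p) K p).1 inferInstance
  set Q := Fintype.card K with hQ
  have hQ1 : Q - 1 + 1 = Q := Nat.sub_add_cancel Fintype.card_pos
  have hQ0 : Q - 1 ≠ 0 := by have := Fintype.one_lt_card (α := K); omega
  set G : Matrix n n K := io K g.1 with hG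
  set S : Matrix n n K := io K (x ^ Q).1 with hS
  have hG1 : G ^ (Q - 1) = 1 := by rw [hG, ← map_pow, ← Units.val_pow_eq_pow_val, hg, Units.val_one, map_one]
  have hS1 : S ^ (Q - 1) = 1 := by rw [hS, ← map_pow, ← Units.val_pow_eq_pow_val, hx, Units.val_one, map_one]
  have hGQ : G ^ Q = G := by rw [← hQ1, pow_succ, hG1, one_mul]
  have hSQ : S ^ Q = S := by rw [← hQ1, pow_succ, hS1, one_mul]
  have hGS : Commute G S := ((Commute.units_val_iff.2 (hc.pow_left Q)).map (io K)).symm
  have he := coi2 (F := K) hGQ hSQ hGS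
  set e : K × K → Matrix n n K := fun ab => ep G ab.1 * ep S ab.2 with hed
  let E := EE (K := K) e he
  have hE : ∀ f, E f = ∑ i, f i • e i := fun f => rfl
  have eG : E Prod.fst = G := by
    rw [hE, Fintype.sum_prod_type]
    simp only [hed, ← smul_mul_assoc, ← Finset.mul_sum, (coi hSQ).complete, mul_one, sum_ep hGQ]
  have eS : E Prod.snd = S := by
    rw [hE, Fintype.sum_prod_type_right]
    simp only [hed, ← mul_smul_comm, ← Finset.sum_mul, (coi hGQ).complete, one_mul, sum_ep hSQ]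
  have cE : ∀ z : Matrix n n K, Commute z G → Commute z S → ∀ i, Commute z (e i) := fun z a b i =>
    (commute_ep a _).mul_right (commute_ep b _)
  have cE' : ∀ z : Matrix n n K, Commute z G → Commute z S → ∀ f, Commute z (E f) := fun z a b f => by
    rw [hE]; exact Commute.sum_right _ _ _ fun i _ => (cE z a b i).smul_right _
  -- Frobenius
  let φ := frobenius K p
  let Φ : Matrix n n K →+* Matrix n n K := φ.mapMatrix
  have Φio : ∀ y, Φ (io K y) = io K y := fun y => by
    ext i j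
    show (algebraMap (ZMod p) K (y i j)) ^ p = algebraMap (ZMod p) K (y i j)
    rw [← map_pow, ZMod.pow_card]
  have Φs : ∀ (c : K) z, Φ (c • z) = c ^ p • Φ z := fun c z => by
    ext i j
    show (c * z i j) ^ p = c ^ p * z i j ^ p
    rw [mul_pow]
  have Φe : ∀ a b, Φ (e (a, b)) = e (a ^ p, b ^ p) := fun a b => by
    have h : ∀ a : K, Φ (algebraMap K _ a) = algebraMap K _ (a ^ p) := fun a => by
      rw [Algebra.algebraMap_eq_smul_one, Φs, map_one, Algebra.algebraMap_eq_smul_one]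
    simp only [hed]
    rw [map_mul, map_ep Φ _ h, map_ep Φ _ h, hG, hS, Φio, Φio]
  have hm : ∀ a b, m (e (a ^ p, b ^ p)) = m (e (a, b)) := fun a b => by
    rw [← Φe]; exact m_map φ _
  have z0 : ∀ z : Matrix n n K, z ^ (Q - 1) = 1 → ep z (0 : K) = 0 := fun z hz => by
    rw [ep, map_zero, sub_zero, ← hQ, hz, sub_self]
  have m1 : ∀ b, m (e (0, b)) = 0 := fun b => by simp only [hed]; rw [z0 G hG1, zero_mul, m_zero]
  have m2 : ∀ a, m (e (a, 0)) = 0 := fun a => by simp only [hed]; rw [z0 S hS1, mul_zero, m_zero]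
  let f : K × K → K := fun i => ρ i.1 i.2
  obtain ⟨r0, hr0⟩ : ∃ y, io K y = E f := by
    refine desc (p := p) _ fun i j => ?_
    have h : Φ (E f) = E f := by
      rw [hE, map_sum]
      have hb : Function.Bijective fun i : K × K => (i.1 ^ p, i.2 ^ p) :=
        Finite.injective_iff_bijective.1 fun i j h =>
          Prod.ext (φ.injective (congrArg Prod.fst h)) (φ.injective (congrArg Prod.snd h))
      rw [← hb.sum_comp fun i => f i • e i]
      exact Finset.sum_congr rfl fun i _ => by rw [Φs, Φe]; simp only [f, h1]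
    exact congrFun (congrFun h i) j
  have hf1 : f ^ (Q - 1) = Prod.snd ^ (Q - 1) := by
    ext i
    obtain ⟨k, hk⟩ := h3 i.1 i.2
    simp only [Pi.pow_apply, f, hk]
    by_cases h : i.2 = 0
    · rw [h, zero_pow (pow_ne_zero _ (Fact.out : p.Prime).ne_zero)]
    · rw [FiniteField.pow_card_sub_one_eq_one _ h, FiniteField.pow_card_sub_one_eq_one _ (pow_ne_zero _ h)]
  have hr1 : r0 ^ (Q - 1) = 1 := io_inj (K := K) (by
    rw [map_pow, hr0, ← map_pow, hf1, map_pow, eS, hS1, map_one])
  let r : (Matrix n n (ZMod p))ˣ := Units.ofPowEqOne r0 _ hr1 hQ0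
  have hr : io K r.1 = E f := hr0
  set u := x * (x ^ Q)⁻¹ with hu
  have hxQ : (x ^ Q) ^ Q = x ^ Q := by
    conv_lhs => rw [← hQ1, pow_succ, hQ1]
    rw [hx, one_mul]
  have huQ : u ^ Q = 1 := by
    rw [hu, ((Commute.refl x).pow_right Q).inv_right.mul_pow, inv_pow, hxQ, mul_inv_cancel]
  have hU : io K u.1 ^ Q = 1 := by rw [← map_pow, ← Units.val_pow_eq_pow_val, huQ, Units.val_one, map_one]
  have uG : Commute (io K u.1) G :=
    (Commute.units_val_iff.2 (hc.mul_left (hc.pow_left Q).inv_left)).map (io K)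
  have uS : Commute (io K u.1) S :=
    (Commute.units_val_iff.2 (((Commute.refl x).pow_right Q).mul_left (Commute.refl _).inv_left)).map (io K)
  have xS : Commute (io K x.1) S := (Commute.units_val_iff.2 ((Commute.refl x).pow_right Q)).map (io K)
  have xG : Commute (io K x.1) G := (Commute.units_val_iff.2 hc).map (io K)
  have hxu : io K x.1 = io K u.1 * E Prod.snd := by
    rw [eS, hS, ← map_mul, ← Units.val_mul, hu, inv_mul_cancel_right]
  have tr : ∀ y : Matrix n n (ZMod p), algebraMap (ZMod p) K (trace y) = trace (io K y) := fun y =>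
    AddMonoidHom.map_trace (algebraMap (ZMod p) K) y
  refine ⟨r, Units.ext (by rw [Units.val_pow_eq_pow_val]; exact hr1), ?_, ?_, ?_, ?_, ?_⟩
  · refine Commute.units_val_iff.1 (io_inj (K := K) ?_)
    rw [map_mul, map_mul, hr]
    exact (cE' G (Commute.refl _) hGS f).symm.eq
  · refine Commute.units_val_iff.1 (io_inj (K := K) ?_)
    rw [map_mul, map_mul, hr]
    exact (cE' _ xG xS f).symm.eq
  · refine (algebraMap (ZMod p) K).injective ?_
    rw [tr, tr, Units.val_mul, map_mul, hr, hxu, trace_EE e he _ _ (nilp p _ hU) (cE _ uG uS),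
      trace_EE e he _ _ (nilp p _ hU) (cE _ uG uS), Fintype.sum_prod_type, Fintype.sum_prod_type]
    exact h5 (fun a b => m (e (a, b))) hm m1 m2
  · have L : lam K l x.1 g.1 = ∏ a, ∏ b, a ^ (l b * m (e (a, b))) := by
      rw [lam, Finset.prod_comm]
      refine Finset.prod_congr rfl fun b _ => ?_
      have : io K x.1 ^ Fintype.card K = S := by rw [hS, Units.val_pow_eq_pow_val, map_pow]
      rw [this, ← hG, ← eG, ← eS, ep_EE, ← map_mul, ← map_one E, ← map_sub, ← map_add, det_EE,
        Fintype.prod_prod_type, ← Finset.prod_pow]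
      refine Finset.prod_congr rfl fun a _ => ?_
      rw [Finset.prod_eq_single b]
      · simp [← pow_mul, mul_comm]
      · intro c _ hc; simp [hc]
      · simp
    have R : lam K l g.1 (u * r).1 = ∏ a, ∏ b, ρ a b ^ (l a * m (e (a, b))) := by
      rw [lam]
      refine Finset.prod_congr rfl fun a _ => ?_
      have i1 := ((coi hGQ).idem a).eq
      have d1 : det (io K u.1 * ep G a + (1 - ep G a)) = 1 := by
        rw [← FiniteField.pow_card (det _), ← det_pow, cut_pow i1 (commute_ep uG a), hU]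
        simp
      rw [← hG, hGQ, Units.val_mul, map_mul, hr,
        cut_mul i1 (commute_ep (cE' G (Commute.refl _) hGS f).symm a), det_mul, d1, one_mul, ← eG, ep_EE,
        ← map_mul, ← map_one E, ← map_sub, ← map_add, det_EE, Fintype.prod_prod_type,
        Finset.prod_eq_single a, ← Finset.prod_pow]
      · exact Finset.prod_congr rfl fun b _ => by simp [f, ← pow_mul, mul_comm]
      · intro c _ hc; simp [hc]
      · simp
    rw [L, R]
    exact h4 (fun a b => m (e (a, b))) hm m1 m2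
  · rw [hr, ← eG, ← eS]
    simp only [E, ep_EE, ← map_mul, ← map_smul, ← map_sum]
    congr 1
    ext i
    simp only [Finset.sum_apply, Pi.smul_apply, Pi.mul_apply, smul_eq_mul, mul_ite, mul_one, mul_zero,
      ite_mul, one_mul, zero_mul]
    rw [Finset.sum_eq_single i.1]
    · simp [f, Function.leftInverse_invFun (h2 i.1) i.2]
    · intro c _ hc; simp [hc.symm]
    · simp

theorem ex (l : K → ℕ) (ρ : K → K → K) (h1 : ∀ a b, ρ (a ^ p) (b ^ p) = ρ a b ^ p)
    (h2 : ∀ a, Function.Injective (ρ a)) (h3 : ∀ a b, ∃ i : ℕ, ρ a b = b ^ p ^ i)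
    (h4 : ∀ m : K → K → ℕ, (∀ a b, m (a ^ p) (b ^ p) = m a b) → (∀ b, m 0 b = 0) → (∀ a, m a 0 = 0) →
      ∏ a, ∏ b, a ^ (l b * m a b) = ∏ a, ∏ b, ρ a b ^ (l a * m a b))
    (h5 : ∀ m : K → K → ℕ, (∀ a b, m (a ^ p) (b ^ p) = m a b) → (∀ b, m 0 b = 0) → (∀ a, m a 0 = 0) →
      ∑ a, ∑ b, (m a b : K) * ρ a b = ∑ a, ∑ b, (m a b : K) * b)
    (hQ : ∀ x : (Matrix n n (ZMod p))ˣ, (x ^ Fintype.card K) ^ (Fintype.card K - 1) = 1)
    (g : (Matrix n n (ZMod p))ˣ) (hg : g ^ (Fintype.card K - 1) = 1) :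
    ∃ β : Equiv.Perm (Subgroup.centralizer ({g} : Set (Matrix n n (ZMod p))ˣ)), ∀ x,
      trace (β x).1.1 = trace x.1.1 ∧ lam K l x.1.1 g.1 = lam K l g.1 (β x).1.1 := by
  have hc : ∀ x : Subgroup.centralizer ({g} : Set (Matrix n n (ZMod p))ˣ), Commute x.1 g := fun x =>
    Subgroup.mem_centralizer_singleton_iff.1 x.2
  choose r a1 a2 a3 a4 a5 a6 using fun x : Subgroup.centralizer ({g} : Set (Matrix n n (ZMod p))ˣ) =>
    core l ρ h1 h2 h3 h4 h5 g x.1 hg (hQ x.1) (hc x)
  set Q := Fintype.card K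
  have hQ1 : Q - 1 + 1 = Q := Nat.sub_add_cancel Fintype.card_pos
  let β : Subgroup.centralizer ({g} : Set (Matrix n n (ZMod p))ˣ) → Subgroup.centralizer {g} := fun x =>
    ⟨x.1 * (x.1 ^ Q)⁻¹ * r x, Subgroup.mem_centralizer_singleton_iff.2
      (((hc x).mul_left ((hc x).pow_left Q).inv_left).mul_left (a2 x))⟩
  have hβ : ∀ x, (β x).1 ^ Q = r x := fun x => by
    have hxQ : (x.1 ^ Q) ^ Q = x.1 ^ Q := by
      conv_lhs => rw [← hQ1, pow_succ, hQ1]
      rw [hQ, one_mul]
    have hr : r x ^ Q = r x := by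
      conv_lhs => rw [← hQ1, pow_succ]
      rw [a1, one_mul]
    show (x.1 * (x.1 ^ Q)⁻¹ * r x) ^ Q = r x
    rw [((a3 x).symm.mul_left ((a3 x).symm.pow_left Q).inv_left).mul_pow,
      ((Commute.refl x.1).pow_right Q).inv_right.mul_pow, inv_pow, hxQ, mul_inv_cancel, one_mul, hr]
  have inj : Function.Injective β := fun x y h => by
    have e1 : r x = r y := by rw [← hβ, ← hβ, h]
    have e2 : x.1 ^ Q = y.1 ^ Q := Units.ext (io_inj (K := K) (by rw [a6, a6, e1]))
    have e3 : x.1 * (x.1 ^ Q)⁻¹ * r x = y.1 * (y.1 ^ Q)⁻¹ * r y := congrArg Subtype.val h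
    rw [e1, e2] at e3
    exact Subtype.ext (mul_right_cancel (mul_right_cancel e3))
  exact ⟨Equiv.ofBijective β (Finite.injective_iff_bijective.1 inj), fun x => ⟨a4 x, a5 x⟩⟩

end CL.KGV.Re
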