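import Cfsg.Agent.KGV.I.Idem
import Mathlib.LinearAlgebra.Matrix.Charpoly.Coeff
import Mathlib.RingTheory.Localization.FractionRing
import Mathlib.LinearAlgebra.Matrix.Determinant.Basic

set_option autoImplicit false

namespace CL.KGV.Re

open Matrix Polynomial CL.KGV.Idem

variable {K : Type*} [Field K] {n : Type*} [Fintype n] [DecidableEq n]

/-- The polynomial `det (X E + 1 - E)`. -/
noncomputable def D (E : Matrix n n K) : K[X] :=
  det ((X : K[X]) • E.map C + (1 - E.map C))

/-- The rank of an idempotent matrix, read off from `D`. -/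
noncomputable def m (E : Matrix n n K) : ℕ := (D E).natDegree

theorem det0 (E : Matrix n n K) (hE : E * E = E) :
    ∃ r : ℕ, (∀ c : K, det (c • E + (1 - E)) = c ^ r) ∧ trace E = r := by
  have h : IsIdempotentElem (Matrix.toLin' E) := by
    show Matrix.toLin' E * Matrix.toLin' E = _
    rw [Module.End.mul_eq_comp, ← Matrix.toLin'_mul, hE]
  refine ⟨rk (Matrix.toLin' E), fun c => ?_, ?_⟩
  · rw [← det_smul_add _ h c, ← LinearMap.det_toLin']
    congr 1
    simp only [map_add, map_sub, map_smul, Matrix.toLin'_one]
    rfl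
  · rw [← trace_idem _ h, Matrix.trace_toLin'_eq]

theorem map_D {L : Type*} [CommRing L] (f : K[X] →+* L) (E : Matrix n n K) :
    f (D E) = det (f X • E.map (f.comp C) + (1 - E.map (f.comp C))) := by
  rw [D, RingHom.map_det]
  congr 1
  ext i j
  by_cases h : i = j <;> simp [h] <;> exact mul_comm _ _

theorem D_eq (E : Matrix n n K) (hE : E * E = E) : D E = X ^ m E ∧ trace E = m E := by
  let L := FractionRing K[X]
  let f : K[X] →+* L := algebraMap _ _
  have hf : Function.Injective f := IsFractionRing.injective _ _
  obtain ⟨r, h1, h2⟩ := det0 (E.map (f.comp C)) (by rw [← Matrix.map_mul, hE])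
  have h3 : D E = X ^ r := hf (by rw [map_D, h1, map_pow])
  have h4 : m E = r := by rw [m, h3, natDegree_X_pow]
  refine ⟨by rw [h4, h3], (f.comp C).injective ?_⟩
  rw [h4, map_natCast, ← h2, AddMonoidHom.map_trace (f.comp C)]

theorem det_m (E : Matrix n n K) (hE : E * E = E) (c : K) : det (c • E + (1 - E)) = c ^ m E := by
  have h := map_D (evalRingHom c) E
  rw [(D_eq E hE).1] at h
  have h2 : E.map ((evalRingHom c).comp C) = E := by ext i j; simp
  rw [h2] at h
  simpa using h.symm

theorem m_map (φ : K →+* K) (E : Matrix n n K) : m (E.map φ) = m E := by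
  have h := map_D (mapRingHom φ) E
  have h2 : D (E.map φ) = (D E).map φ := by
    rw [← coe_mapRingHom, h, D]
    congr 1
    ext i j : 2
    by_cases h : i = j <;> simp [h]
  rw [m, h2, natDegree_map_eq_of_injective φ.injective, m]

theorem m_zero : m (0 : Matrix n n K) = 0 := by simp [m, D]

variable {ι : Type*} [Fintype ι]

theorem det_sum' (E : ι → Matrix n n K) (hE : OrthogonalIdempotents E)
    (c : ι → K) (s : Finset ι) :
    det (∑ i ∈ s, c i • E i + (1 - ∑ i ∈ s, E i)) = ∏ i ∈ s, c i ^ m (E i) := by
  classical
  induction s using Finset.induction_on with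
  | empty => simp
  | insert j s hj ih =>
    have h0 : ∀ i ∈ s, E j * E i = 0 := fun i hi => hE.ortho (fun h => hj (h ▸ hi))
    have h1 : E j * ∑ i ∈ s, c i • E i = 0 := by
      rw [Finset.mul_sum]; exact Finset.sum_eq_zero fun i hi => by rw [mul_smul_comm, h0 i hi, smul_zero]
    have h2 : E j * ∑ i ∈ s, E i = 0 := by
      rw [Finset.mul_sum]; exact Finset.sum_eq_zero h0
    have key : ∑ i ∈ insert j s, c i • E i + (1 - ∑ i ∈ insert j s, E i) =
        (c j • E j + (1 - E j)) * (∑ i ∈ s, c i • E i + (1 - ∑ i ∈ s, E i)) := by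
      rw [Finset.sum_insert hj, Finset.sum_insert hj]
      simp only [add_mul, mul_add, sub_mul, mul_sub, one_mul, mul_one, smul_mul_assoc, h1, h2,
        smul_zero]
      abel
    rw [key, det_mul, ih, det_m _ (hE.idem j), Finset.prod_insert hj]

/-- Functional calculus for a complete family of orthogonal idempotents. -/
noncomputable def EE {A : Type*} [Ring A] [Algebra K A] (e : ι → A) (he : CompleteOrthogonalIdempotents e) :
    (ι → K) →ₐ[K] A where
  toFun f := ∑ i, f i • e i
  map_one' := by simp [he.complete]
  map_mul' f g := by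
    classical
    rw [Finset.sum_mul_sum]
    refine Finset.sum_congr rfl fun i _ => ?_
    rw [Finset.sum_eq_single i]
    · rw [smul_mul_smul_comm, (he.idem i).eq]; rfl
    · intro j _ hj
      rw [smul_mul_smul_comm, he.ortho hj.symm, smul_zero]
    · simp
  map_zero' := by simp
  map_add' f g := by simp [add_smul, Finset.sum_add_distrib]
  commutes' c := by
    simp only [Pi.algebraMap_apply, Algebra.algebraMap_self, RingHom.id_apply]
    rw [← Finset.smul_sum, he.complete, Algebra.algebraMap_eq_smul_one]

theorem EE_apply {A : Type*} [Ring A] [Algebra K A] (e : ι → A) (he : CompleteOrthogonalIdempotents e)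
    (f : ι → K) : EE e he f = ∑ i, f i • e i := rfl

theorem det_EE (e : ι → Matrix n n K) (he : CompleteOrthogonalIdempotents e) (f : ι → K) :
    det (EE e he f) = ∏ i, f i ^ m (e i) := by
  have h := det_sum' e he.toOrthogonalIdempotents f Finset.univ
  rwa [he.complete, sub_self, add_zero] at h

theorem trace_EE (e : ι → Matrix n n K) (he : CompleteOrthogonalIdempotents e) (f : ι → K)
    (u : Matrix n n K) (hu : IsNilpotent (u - 1)) (hc : ∀ i, Commute u (e i)) :
    trace (u * EE e he f) = ∑ i, (m (e i) : K) * f i := by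
  rw [EE_apply, Finset.mul_sum, Matrix.trace_sum]
  refine Finset.sum_congr rfl fun i _ => ?_
  have h1 : trace ((u - 1) * e i) = 0 :=
    (isNilpotent_trace_of_isNilpotent
      (((hc i).sub_left (Commute.one_left _)).isNilpotent_mul_right hu)).eq_zero
  rw [sub_mul, one_mul, trace_sub, sub_eq_zero] at h1
  rw [mul_smul_comm, trace_smul, h1, (D_eq _ (he.idem i).eq).2, smul_eq_mul, mul_comm]

theorem ep_EE [Fintype K] [DecidableEq K] {A : Type*} [Ring A] [Algebra K A] (e : ι → A)
    (he : CompleteOrthogonalIdempotents e) (f : ι → K) (c : K) :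
    ep (EE e he f) c = EE e he fun i => if f i = c then (1 : K) else 0 := by
  have : (fun i => if f i = c then (1 : K) else 0) = ep f c := by
    ext i
    have h := eval_e (F := K) c (f i)
    simp only [eval_sub, eval_one, eval_pow, eval_X, eval_C] at h
    simp [ep, h]
  rw [this]
  exact (map_ep (EE e he).toRingHom id (fun a => (EE e he).commutes a) f c).symm

end CL.KGV.Re
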