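import Mathlib

namespace CL.KGV.Rev

open Equiv

/-- Every permutation of a finite set is inverted by a permutation preserving its cycles. -/
theorem rev {S : Type*} [Finite S] (ψ : Perm S) :
    ∃ κ : Perm S, (∀ a, κ (ψ a) = ψ⁻¹ (κ a)) ∧ ∀ a, ∃ i : ℕ, κ a = (ψ ^ i) a := by
  classical
  let s : Setoid S := Perm.SameCycle.setoid ψ
  let r : S → S := fun a => (Quotient.mk s a).out
  have hr : ∀ a, ψ.SameCycle (r a) a := fun a => Quotient.mk_out (s := s) a
  have hrr : ∀ a b, ψ.SameCycle a b → r a = r b := fun a b h => by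
    show (Quotient.mk s a).out = (Quotient.mk s b).out
    rw [Quotient.sound (s := s) h]
  choose n hn using hr
  -- key: the value `(ψ ^ (-k)) (r a)` does not depend on `k`
  have key : ∀ (x : S) (k l : ℤ), (ψ ^ k) x = (ψ ^ l) x → (ψ ^ (-k)) x = (ψ ^ (-l)) x := by
    intro x k l h
    have h2 := congrArg (fun y => (ψ ^ (-k - l)) y) h
    simp only [← Perm.mul_apply, ← zpow_add] at h2
    have e1 : -k - l + k = -l := by ring
    have e2 : -k - l + l = -k := by ring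
    rw [e1, e2] at h2
    exact h2.symm
  let f : S → S := fun a => (ψ ^ (-(n a))) (r a)
  have hf : ∀ a (k : ℤ), (ψ ^ k) (r a) = a → f a = (ψ ^ (-k)) (r a) := fun a k h =>
    key _ _ _ ((hn a).trans h.symm)
  have hfs : ∀ a, ψ.SameCycle a (f a) := fun a => by
    refine Perm.SameCycle.trans (Perm.SameCycle.symm ⟨n a, hn a⟩) ⟨-(n a), rfl⟩
  have hff : Function.Involutive f := fun a => by
    have h1 : r (f a) = r a := (hrr _ _ (hfs a)).symm
    rw [hf (f a) (-(n a)) (by rw [h1]), h1, neg_neg, hn]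
  refine ⟨hff.toPerm f, fun a => ?_, fun a => ?_⟩
  · show f (ψ a) = ψ⁻¹ (f a)
    have h1 : r (ψ a) = r a := (hrr _ _ ⟨1, by simp⟩).symm
    rw [hf (ψ a) (1 + n a) (by rw [h1, zpow_add, Perm.mul_apply, hn, zpow_one]), h1]
    show _ = ψ⁻¹ ((ψ ^ (-(n a))) (r a))
    rw [← Perm.mul_apply, ← zpow_neg_one, ← zpow_add]
    congr 2; ring
  · obtain ⟨i, hi⟩ := (hfs a).exists_nat_pow_eq
    exact ⟨i, hi.symm⟩

/-- A bijection reversing `φ` can be corrected inside the `φ ^ d`-orbits to commute with `φ ^ d`. -/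
theorem tau {S : Type*} [Finite S] (φ σ : Perm S) (hσ : ∀ a, σ (φ a) = φ⁻¹ (σ a)) (d : ℕ) :
    ∃ τ : Perm S, (∀ a, τ ((φ ^ d) a) = (φ ^ d) (τ a)) ∧
      ∀ a, ∃ i : ℕ, τ a = (φ ^ (d * i)) (σ a) := by
  obtain ⟨κ, h1, h2⟩ := rev (φ ^ d)
  have h3 : ∀ (k : ℕ) a, σ ((φ ^ k) a) = (φ ^ k)⁻¹ (σ a) := by
    intro k
    induction k with
    | zero => simp
    | succ k ih =>
      intro a
      rw [pow_succ', Perm.mul_apply, hσ, ih, ← pow_succ', pow_succ, mul_inv_rev, Perm.mul_apply]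
  refine ⟨κ * σ, fun a => ?_, fun a => ?_⟩
  · rw [Perm.mul_apply, Perm.mul_apply, h3]
    have := h1 ((φ ^ d)⁻¹ (σ a))
    have e : ∀ x, (φ ^ d) ((φ ^ d)⁻¹ x) = x := fun x => by simp
    rw [e] at this
    rw [this, e]
  · obtain ⟨i, hi⟩ := h2 (σ a)
    exact ⟨i, by rw [Perm.mul_apply, hi, pow_mul]⟩

end CL.KGV.Rev
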