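import Mathlib

/-!
An involution reversing every cycle of a permutation.
-/

set_option autoImplicit false

namespace CL.KGV.RevX

open Equiv Equiv.Perm

theorem ex {α : Type*} [Finite α] (σ : Equiv.Perm α) :
    ∃ τ : α → α, (∀ x, τ (τ x) = x) ∧ (∀ x, σ (τ (σ x)) = τ x) ∧ ∀ x, ∃ n : ℕ, τ x = (σ ^ n) x := by
  classical
  let s : Setoid α := ⟨σ.SameCycle, ⟨SameCycle.refl σ, SameCycle.symm, SameCycle.trans⟩⟩
  let r : α → α := fun x => (Quotient.mk s x).out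
  have hr : ∀ x, σ.SameCycle (r x) x := fun x => Quotient.mk_out (s := s) x
  have hrr : ∀ x y, σ.SameCycle x y → r x = r y := fun x y h =>
    congrArg Quotient.out (Quotient.sound (s := s) h)
  choose k hk using hr
  have key : ∀ (b : α) (i j : ℤ), (σ ^ i) b = (σ ^ j) b → (σ ^ (-i)) b = (σ ^ (-j)) b := by
    intro b i j h
    have := congrArg (σ ^ (-i - j)) h
    rw [← mul_apply, ← mul_apply, ← zpow_add, ← zpow_add] at this
    rw [show -i = -i - j + j by ring, show -j = -i - j + i by ring]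
    exact this.symm
  have hτ : ∀ x (i : ℤ), x = (σ ^ i) (r x) → (σ ^ (-k x)) (r x) = (σ ^ (-i)) (r x) :=
    fun x i h => key _ _ _ ((hk x).trans h)
  have hs : ∀ x, σ.SameCycle ((σ ^ (-k x)) (r x)) x := fun x =>
    SameCycle.trans (SameCycle.symm ⟨-k x, rfl⟩) ⟨k x, hk x⟩
  refine ⟨fun x => (σ ^ (-k x)) (r x), fun x => ?_, fun x => ?_, fun x => ?_⟩
  · have e := hrr _ _ (hs x)
    show (σ ^ (-k _)) (r _) = x
    rw [hτ _ (-k x) (by rw [e]), e, neg_neg, hk]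
  · have e : r (σ x) = r x := hrr _ _ (SameCycle.symm ⟨1, by simp⟩)
    show σ ((σ ^ (-k _)) (r _)) = _
    rw [hτ (σ x) (1 + k x) (by rw [e, zpow_add, zpow_one, mul_apply, hk]), e, ← mul_apply,
      ← zpow_one_add]
    congr 2
    ring
  · obtain ⟨n, -, hn⟩ := (hs x).symm.exists_pow_eq'
    exact ⟨n, hn.symm⟩

theorem field (K : Type*) [Field K] [Finite K] (p : ℕ) [Fact p.Prime] [CharP K p] :
    ∃ τ : K → K, (∀ x, τ (τ x) = x) ∧ (∀ x, τ (x ^ p) ^ p = τ x) ∧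
      (∀ x, ∃ n : ℕ, τ x = x ^ p ^ n) ∧ τ 0 = 0 := by
  obtain ⟨τ, h1, h2, h3⟩ := ex (frobeniusEquiv K p).toEquiv
  have h4 : ∀ x, ∃ n : ℕ, τ x = x ^ p ^ n := by
    intro x
    obtain ⟨n, hn⟩ := h3 x
    refine ⟨n, hn.trans ?_⟩
    clear hn
    induction n with
    | zero => simp
    | succ n ih =>
      rw [pow_succ', mul_apply, ih, pow_succ, pow_mul]
      rfl
  refine ⟨τ, h1, h2, h4, ?_⟩
  obtain ⟨n, hn⟩ := h4 0
  rw [hn, zero_pow (pow_ne_zero _ (Fact.out : p.Prime).ne_zero)]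

end CL.KGV.RevX
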