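import Cfsg.Agent.KGV.I.Idem
import Mathlib.LinearAlgebra.Matrix.Trace
import Mathlib.FieldTheory.Perfect
import Mathlib.LinearAlgebra.Matrix.Charpoly.Coeff
import Mathlib.Algebra.CharP.Algebra
import Mathlib.FieldTheory.Finiteness
import Mathlib.LinearAlgebra.Matrix.Charpoly.FiniteField

set_option autoImplicit false
set_option linter.unusedSectionVars false

namespace CL.KGV.Rx78

open CL.KGV.Idem Matrix

variable {K : Type*} [Field K] {n : Type*} [Fintype n] [DecidableEq n]

/-- rank -/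
noncomputable def rr (E : Matrix n n K) : ℕ := rk (Matrix.toLin' E)

theorem rr_le [Fintype K] (φ : K →+* K) (E : Matrix n n K) : rr E ≤ rr (E.map φ) := by
  classical
  have h1 : ∀ F : Matrix n n K, Nat.card (LinearMap.range (Matrix.toLin' F)) =
      Fintype.card K ^ rr F := fun F => by
    rw [rr, rk, ← Nat.card_eq_fintype_card]; exact Module.natCard_eq_pow_finrank
  have h2 : Nat.card (LinearMap.range (Matrix.toLin' E)) ≤
      Nat.card (LinearMap.range (Matrix.toLin' (E.map φ))) := by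
    refine Nat.card_le_card_of_injective (fun v => ⟨fun i => φ (v.1 i), ?_⟩) ?_
    · obtain ⟨w, hw⟩ := v.2
      refine ⟨fun i => φ (w i), ?_⟩
      ext i
      rw [← hw, Matrix.toLin'_apply, Matrix.toLin'_apply]
      exact (RingHom.map_mulVec φ E w i).symm
    · intro v w h
      ext i
      exact φ.injective (congrFun (congrArg Subtype.val h) i)
  rw [h1, h1] at h2
  exact (Nat.pow_le_pow_iff_right Fintype.one_lt_card).1 h2

theorem rr_map [Fintype K] (φ : K ≃+* K) (E : Matrix n n K) : rr (E.map φ) = rr E := by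
  refine le_antisymm ?_ (rr_le (φ : K →+* K) E)
  have := rr_le (φ.symm : K →+* K) (E.map φ)
  rwa [Matrix.map_map, show (⇑(φ.symm : K →+* K) ∘ ⇑φ) = id from funext fun x => by simp,
    Matrix.map_id] at this

theorem mdet {ι : Type*} [Fintype ι] (E : ι → Matrix n n K)
    (hE : CompleteOrthogonalIdempotents E) (c : ι → K) :
    (∑ i, c i • E i).det = ∏ i, c i ^ rr (E i) := by
  have h := det_sum_top (fun i => Matrix.toLinAlgEquiv' (E i))
    (hE.map (Matrix.toLinAlgEquiv' (R := K) (n := n)).toRingEquiv.toRingHom) c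
  rw [← LinearMap.det_toLin']
  refine Eq.trans ?_ h
  congr 1
  simp only [map_sum, map_smul]; rfl

theorem mtrace (E : Matrix n n K) (hE : IsIdempotentElem E) : E.trace = (rr E : K) := by
  rw [← Matrix.trace_toLin'_eq]
  exact trace_idem _ (hE.map (Matrix.toLinAlgEquiv' (R := K) (n := n)))

section ev
variable {A : Type*} [Ring A] [Algebra K A] {ι : Type*} [Fintype ι] {E : ι → A}

theorem ev_mul (hE : CompleteOrthogonalIdempotents E) (c : ι → K) (j : ι) :
    (∑ i, c i • E i) * E j = c j • E j := by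
  classical
  rw [Finset.sum_mul, Finset.sum_eq_single j]
  · rw [smul_mul_assoc, (hE.idem j).eq]
  · intro i _ hi; rw [smul_mul_assoc, hE.ortho hi, smul_zero]
  · simp

theorem ext_E (hE : CompleteOrthogonalIdempotents E) {x y : A} (h : ∀ j, x * E j = y * E j) :
    x = y := by
  rw [← mul_one x, ← mul_one y, ← hE.complete, Finset.mul_sum, Finset.mul_sum]
  exact Finset.sum_congr rfl fun j _ => h j

theorem pow_E {x e : A} {c : K} (h : x * e = c • e) (k : ℕ) : x ^ k * e = c ^ k • e := by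
  induction k with
  | zero => simp
  | succ k ih => rw [pow_succ, mul_assoc, h, mul_smul_comm, ih, smul_smul, pow_succ, mul_comm]

theorem ep_E [Fintype K] [DecidableEq K] {x e : A} {c : K} (h : x * e = c • e) (a : K) :
    ep x a * e = if c = a then e else 0 := by
  have h1 : (x - algebraMap K A a) * e = (c - a) • e := by
    rw [sub_mul, h, sub_smul, Algebra.smul_def a]
  have hc : Fintype.card K - 1 ≠ 0 := by
    have := Fintype.one_lt_card (α := K); omega
  rw [ep, sub_mul, one_mul, pow_E h1]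
  split_ifs with h2
  · simp [h2, hc]
  · rw [FiniteField.pow_card_sub_one_eq_one _ (sub_ne_zero.2 h2)]; simp

end ev

variable {p : ℕ} [Fact p.Prime] [Fintype K] [Algebra (ZMod p) K]

/-- base change -/
abbrev bc (K : Type*) [Field K] [Algebra (ZMod p) K] :
    Matrix n n (ZMod p) →+* Matrix n n K := (algebraMap (ZMod p) K).mapMatrix

theorem bc_inj : Function.Injective (bc (n := n) (p := p) K) := fun x y h => by
  ext i j
  exact (algebraMap (ZMod p) K).injective (congrFun (congrFun h i) j)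

theorem desc [CharP K p] (Z : Matrix n n K) (hZ : (frobenius K p).mapMatrix Z = Z) :
    ∃ z, bc (p := p) K z = Z := by
  have h : ∀ i j, ∃ a : ZMod p, algebraMap (ZMod p) K a = Z i j := fun i j => by
    have h1 : Z i j ^ p = Z i j := congrFun (congrFun hZ i) j
    have h2 := (Subfield.mem_bot_iff_pow_eq_self K p).2 h1
    exact (bot_le : (⊥ : Subfield K) ≤ (algebraMap (ZMod p) K).fieldRange) h2
  choose z hz using h
  exact ⟨Matrix.of z, by ext i j; exact hz i j⟩

theorem frob_bc [CharP K p] (z : Matrix n n (ZMod p)) :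
    (frobenius K p).mapMatrix (bc K z) = bc K z := by
  ext i j
  show algebraMap (ZMod p) K (z i j) ^ p = algebraMap (ZMod p) K (z i j)
  rw [← map_pow, ZMod.pow_card]

theorem detE {ι : Type*} [Fintype ι] {E : ι → Matrix n n K}
    (hE : CompleteOrthogonalIdempotents E) {P Y : Matrix n n K} (q : ι → Prop) [DecidablePred q]
    (c : ι → K) (hP : ∀ j, P * E j = if q j then E j else 0) (hY : ∀ j, Y * E j = c j • E j) :
    (Y * P + 1 - P).det = ∏ j, if q j then c j ^ rr (E j) else 1 := by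
  have : Y * P + 1 - P = ∑ j, (if q j then c j else 1) • E j := by
    refine ext_E hE fun j => ?_
    rw [ev_mul hE, sub_mul, add_mul, mul_assoc, hP, one_mul]
    split_ifs
    · rw [hY]; simp
    · simp
  rw [this, mdet E hE]
  exact Finset.prod_congr rfl fun j _ => by split_ifs <;> simp

/-- the pairing -/
noncomputable def Lam (K : Type*) [Field K] [Fintype K] [Algebra (ZMod p) K] (l : K → ℕ)
    (z y : Matrix n n (ZMod p)) : K :=
  ∏ b : K, (bc K y * ep (bc K z) b + 1 - ep (bc K z) b).det ^ l b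

theorem Lam_one (l : K → ℕ) (z : Matrix n n (ZMod p)) : Lam K l z 1 = 1 := by
  simp [Lam]

theorem Lam_mul (l : K → ℕ) {z : Matrix n n (ZMod p)} (hz : z ^ Fintype.card K = z)
    (y : Matrix n n (ZMod p)) {y' : Matrix n n (ZMod p)} (h : Commute y' z) :
    Lam K l z (y * y') = Lam K l z y * Lam K l z y' := by
  rw [Lam, Lam, Lam, ← Finset.prod_mul_distrib]
  refine Finset.prod_congr rfl fun b _ => ?_
  rw [← mul_pow, ← det_mul]
  have hZ : bc K z ^ Fintype.card K = bc K z := by rw [← map_pow, hz]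
  have h1 : ep (bc K z) b * ep (bc K z) b = ep (bc K z) b := ((coi hZ).idem b).eq
  have h2 : bc K y' * ep (bc K z) b = ep (bc K z) b * bc K y' :=
    (commute_ep (h.map (bc K)) b).eq
  set P := ep (bc K z) b
  have h3 : P * (bc K y' * P) = bc K y' * P := by rw [← mul_assoc, ← h2, mul_assoc, h1]
  congr 2
  simp only [map_mul, mul_sub, mul_add, sub_mul, add_mul, mul_one, one_mul, mul_assoc, h1, h3]
  abel

theorem Lam_pow (l : K → ℕ) {z : Matrix n n (ZMod p)} (hz : z ^ Fintype.card K = z)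
    {y : Matrix n n (ZMod p)} (h : Commute y z) (k : ℕ) :
    Lam K l z (y ^ k) = Lam K l z y ^ k := by
  induction k with
  | zero => simp [Lam_one]
  | succ k ih => rw [pow_succ, Lam_mul l hz _ h, ih, pow_succ]

theorem core (l : K → ℕ) (ρ : K → K → K) (h1 : ∀ a b, ρ (a ^ p) (b ^ p) = ρ a b ^ p)
    (h2 : ∀ a, Function.Injective (ρ a)) (h3 : ∀ a b, ∃ i, ρ a b = b ^ p ^ i)
    (h4 : ∀ m : K → K → ℕ, (∀ a b, m (a ^ p) (b ^ p) = m a b) → (∀ b, m 0 b = 0) →
      (∀ a, m a 0 = 0) → ∏ a, ∏ b, a ^ (l b * m a b) = ∏ a, ∏ b, ρ a b ^ (l a * m a b))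
    (h5 : ∀ m : K → K → ℕ, (∀ a b, m (a ^ p) (b ^ p) = m a b) → (∀ b, m 0 b = 0) →
      (∀ a, m a 0 = 0) → ∑ a, ∑ b, (m a b : K) * ρ a b = ∑ a, ∑ b, (m a b : K) * b)
    {g s : Matrix n n (ZMod p)} (hg : g ^ (Fintype.card K - 1) = 1)
    (hs : s ^ (Fintype.card K - 1) = 1) (hc : Commute g s) :
    ∃ r : Matrix n n (ZMod p), r ^ (Fintype.card K - 1) = 1 ∧
      (∀ t, Commute t g → Commute t s → Commute t r) ∧ r.trace = s.trace ∧
      Lam K l s g = Lam K l g r ∧
      bc K s = ∑ ab : K × K, ab.2 • (ep (bc K g) ab.1 * ep (bc K r) (ρ ab.1 ab.2)) := by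
  classical
  have : CharP K p := charP_of_injective_algebraMap (algebraMap (ZMod p) K).injective p
  have hQ : Fintype.card K = Fintype.card K - 1 + 1 := by
    have := Fintype.one_lt_card (α := K); omega
  have hG1 : bc K g ^ (Fintype.card K - 1) = 1 := by rw [← map_pow, hg, map_one]
  have hS1 : bc K s ^ (Fintype.card K - 1) = 1 := by rw [← map_pow, hs, map_one]
  have hG : bc K g ^ Fintype.card K = bc K g := by rw [hQ, pow_succ, hG1, one_mul]
  have hS : bc K s ^ Fintype.card K = bc K s := by rw [hQ, pow_succ, hS1, one_mul]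
  have hGS : Commute (bc K g) (bc K s) := hc.map _
  set G := bc K g with hGd
  set S := bc K s with hSd
  have hE := coi2 hG hS hGS
  set E : K × K → Matrix n n K := fun ab => ep G ab.1 * ep S ab.2 with hEd
  have hGE : ∀ j, G * E j = j.1 • E j := fun j => by
    simp only [hEd]; rw [← mul_assoc, mul_ep hG, smul_mul_assoc]
  have hSE : ∀ j, S * E j = j.2 • E j := fun j => by
    simp only [hEd]
    rw [← mul_assoc, (commute_ep hGS.symm j.1).eq, mul_assoc, mul_ep hS, mul_smul_comm]
  have hF : ∀ (Z : Matrix n n K) a, (frobenius K p).mapMatrix Z = Z →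
      (frobenius K p).mapMatrix (ep Z a) = ep Z (a ^ p) := fun Z a hZ => by
    rw [map_ep (F := K) ((frobenius K p).mapMatrix : Matrix n n K →+* Matrix n n K)
      (fun a : K => a ^ p) ?_ Z a, hZ]
    intro c
    ext i j
    simp only [RingHom.mapMatrix_apply, map_apply, algebraMap_matrix_apply]
    split_ifs
    · rfl
    · exact map_zero _
  have hFE : ∀ a b, (frobenius K p).mapMatrix (E (a, b)) = E (a ^ p, b ^ p) := fun a b => by
    simp only [hEd]; rw [map_mul, hF _ _ (frob_bc g), hF _ _ (frob_bc s)]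
  have hm : ∀ a b, rr (E (a ^ p, b ^ p)) = rr (E (a, b)) := fun a b => by
    rw [← hFE]; exact rr_map (frobeniusEquiv K p) _
  have r0 : rr (0 : Matrix n n K) = 0 := by simp [rr, rk]
  have e1 : ∀ b, E (0, b) = 0 := fun b => by simp [hEd, ep, hG1]
  have e2 : ∀ a, E (a, 0) = 0 := fun a => by simp [hEd, ep, hS1]
  have m1 : ∀ b, rr (E (0, b)) = 0 := fun b => by rw [e1, r0]
  have m2 : ∀ a, rr (E (a, 0)) = 0 := fun a => by rw [e2, r0]
  obtain ⟨r, hr⟩ := desc (p := p) (∑ j, ρ j.1 j.2 • E j) (by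
    rw [map_sum]
    refine Fintype.sum_equiv ((frobeniusEquiv K p).toEquiv.prodCongr
      (frobeniusEquiv K p).toEquiv) _ _ fun j => ?_
    show _ = ρ (j.1 ^ p) (j.2 ^ p) • E (j.1 ^ p, j.2 ^ p)
    rw [h1, ← hFE]
    ext i k
    simp [frobenius_def, mul_pow])
  have hRE : ∀ j, bc K r * E j = ρ j.1 j.2 • E j := fun j => by
    rw [hr]; exact ev_mul hE (fun j => ρ j.1 j.2) j
  have htr : ∀ c : K × K → K, (∑ j, c j • E j).trace = ∑ a, ∑ b, (rr (E (a, b)) : K) * c (a, b) :=
    fun c => by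
      rw [Matrix.trace_sum, Fintype.sum_prod_type]
      refine Finset.sum_congr rfl fun a _ => Finset.sum_congr rfl fun b _ => ?_
      rw [trace_smul, mtrace _ (hE.idem _), smul_eq_mul, mul_comm]
  have hSs : S = ∑ j, j.2 • E j := ext_E hE fun j => by
    rw [hSE]; exact (ev_mul hE (fun j => j.2) j).symm
  refine ⟨r, bc_inj (K := K) ?_, fun t h h' => bc_inj (K := K) ?_, ?_, ?_, ?_⟩
  · rw [map_pow, map_one]
    refine ext_E hE fun j => ?_
    rw [pow_E (hRE j), one_mul]
    by_cases hj : j.2 = 0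
    · rw [show j = (j.1, 0) from Prod.ext rfl hj, e2, smul_zero]
    · obtain ⟨i, hi⟩ := h3 j.1 j.2
      rw [FiniteField.pow_card_sub_one_eq_one _ (by rw [hi]; exact pow_ne_zero _ hj), one_smul]
  · rw [map_mul, map_mul, hr]
    refine (Commute.sum_right _ _ _ fun j _ => Commute.smul_right ?_ _).eq
    exact (commute_ep (h.map (bc K)) _).mul_right (commute_ep (h'.map (bc K)) _)
  · apply (algebraMap (ZMod p) K).injective
    rw [AddMonoidHom.map_trace, AddMonoidHom.map_trace]
    show (bc K r).trace = S.trace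
    rw [hr, htr (fun j => ρ j.1 j.2), hSs, htr (fun j => j.2)]
    exact h5 (fun a b => rr (E (a, b))) hm m1 m2
  · have a1 : Lam K l s g = ∏ a, ∏ b, a ^ (l b * rr (E (a, b))) := by
      rw [Finset.prod_comm]
      refine Finset.prod_congr rfl fun b _ => ?_
      rw [detE hE (fun j => j.2 = b) (fun j => j.1) (fun j => ep_E (hSE j) b) hGE,
        Fintype.prod_prod_type, ← Finset.prod_pow]
      refine Finset.prod_congr rfl fun a _ => ?_
      simp only [Finset.prod_ite_eq', Finset.mem_univ, if_true]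
      rw [← pow_mul, mul_comm]
    have a2 : Lam K l g r = ∏ a, ∏ b, ρ a b ^ (l a * rr (E (a, b))) := by
      refine Finset.prod_congr rfl fun a _ => ?_
      rw [detE hE (fun j => j.1 = a) (fun j => ρ j.1 j.2) (fun j => ep_E (hGE j) a) hRE,
        Fintype.prod_prod_type_right, ← Finset.prod_pow]
      refine Finset.prod_congr rfl fun b _ => ?_
      simp only [Finset.prod_ite_eq', Finset.mem_univ, if_true]
      rw [← pow_mul, mul_comm]
    rw [a1, a2]
    exact h4 (fun a b => rr (E (a, b))) hm m1 m2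
  · rw [hSs]
    refine Finset.sum_congr rfl fun j _ => ?_
    congr 1
    refine ext_E hE fun k => ?_
    show E j * E k = _
    rw [mul_assoc (ep G j.1) (ep (bc K r) _), ep_E (hRE k)]
    by_cases hk : j = k
    · subst hk
      rw [if_pos rfl, ep_E (hGE j), if_pos rfl, (hE.idem j).eq]
    · rw [hE.ortho hk]
      split_ifs with h
      · rw [ep_E (hGE k), if_neg]
        intro h'
        rw [h'] at h
        exact hk (Prod.ext h'.symm (h2 _ h).symm)
      · rw [mul_zero]

theorem tr_pow (z : Matrix n n (ZMod p)) : (z ^ Fintype.card K).trace = z.trace := by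
  apply (algebraMap (ZMod p) K).injective
  have h := FiniteField.trace_pow_card (bc K z)
  rw [FiniteField.pow_card, ← map_pow] at h
  rw [AddMonoidHom.map_trace, AddMonoidHom.map_trace]
  exact h

theorem reindex (l : K → ℕ) (ρ : K → K → K) (h1 : ∀ a b, ρ (a ^ p) (b ^ p) = ρ a b ^ p)
    (h2 : ∀ a, Function.Injective (ρ a)) (h3 : ∀ a b, ∃ i, ρ a b = b ^ p ^ i)
    (h4 : ∀ m : K → K → ℕ, (∀ a b, m (a ^ p) (b ^ p) = m a b) → (∀ b, m 0 b = 0) →
      (∀ a, m a 0 = 0) → ∏ a, ∏ b, a ^ (l b * m a b) = ∏ a, ∏ b, ρ a b ^ (l a * m a b))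
    (h5 : ∀ m : K → K → ℕ, (∀ a b, m (a ^ p) (b ^ p) = m a b) → (∀ b, m 0 b = 0) →
      (∀ a, m a 0 = 0) → ∑ a, ∑ b, (m a b : K) * ρ a b = ∑ a, ∑ b, (m a b : K) * b)
    (hQ : ∀ x : (Matrix n n (ZMod p))ˣ, x ^ (Fintype.card K * (Fintype.card K - 1)) = 1)
    (g : (Matrix n n (ZMod p))ˣ) (hg : g ^ (Fintype.card K - 1) = 1) :
    ∃ κ : Subgroup.centralizer ({g} : Set (Matrix n n (ZMod p))ˣ) ≃
        Subgroup.centralizer ({g} : Set (Matrix n n (ZMod p))ˣ),
      ∀ x, (κ x).1.1.trace = x.1.1.trace ∧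
        Lam K l (x.1.1 ^ Fintype.card K) g.1 = Lam K l g.1 (κ x).1.1 := by
  classical
  set Q := Fintype.card K with hQd
  have hQ1 : Q = Q - 1 + 1 := by have := Fintype.one_lt_card (α := K); omega
  have hQ0 : Q - 1 ≠ 0 := by have := Fintype.one_lt_card (α := K); omega
  have hg1 : g.1 ^ (Q - 1) = 1 := by rw [← Units.val_pow_eq_pow_val, hg, Units.val_one]
  have hgQ : g.1 ^ Q = g.1 := by rw [hQ1, pow_succ, hg1, one_mul]
  have hx : ∀ x : Subgroup.centralizer ({g} : Set (Matrix n n (ZMod p))ˣ), Commute g x.1 :=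
    fun x => x.2 g rfl
  have hs : ∀ x : (Matrix n n (ZMod p))ˣ, (x ^ Q) ^ (Q - 1) = 1 := fun x => by
    rw [← pow_mul]; exact hQ x
  have H := fun x : Subgroup.centralizer ({g} : Set (Matrix n n (ZMod p))ˣ) =>
    core l ρ h1 h2 h3 h4 h5 (g := g.1) (s := x.1.1 ^ Q) hg1
      (by rw [← Units.val_pow_eq_pow_val, ← Units.val_pow_eq_pow_val, hs, Units.val_one])
      ((Commute.units_val (hx x)).pow_right _)
  choose r hr1 hr2 hr3 hr4 hr5 using H
  have hu : ∀ x, IsUnit (r x) := fun x => IsUnit.of_pow_eq_one (hr1 x) hQ0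
  let R := fun x => (hu x).unit
  have hR : ∀ x, (R x).1 = r x := fun x => rfl
  have hRg : ∀ x, Commute g (R x) := fun x => Commute.units_of_val
    (hr2 x _ (Commute.refl _) ((Commute.units_val (hx x)).pow_right _))
  have hRx : ∀ x, Commute x.1 (R x) := fun x => Commute.units_of_val
    (hr2 x _ (Commute.units_val (hx x)).symm ((Commute.refl _).pow_right _))
  have hRQ : ∀ x, R x ^ Q = R x := fun x => Units.ext (by
    rw [Units.val_pow_eq_pow_val, hR, hQ1, pow_succ, hr1, one_mul])
  let u : (Matrix n n (ZMod p))ˣ → (Matrix n n (ZMod p))ˣ := fun x => x * (x ^ Q)⁻¹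
  have huc : ∀ {t x : (Matrix n n (ZMod p))ˣ}, Commute t x → Commute t (u x) := fun h =>
    h.mul_right (h.pow_right _).inv_right
  have huQ : ∀ x, u x ^ Q = 1 := fun x => by
    have h : (x ^ Q) ^ Q = x ^ Q := by
      nth_rewrite 2 [hQ1]; rw [pow_succ, hs, one_mul]
    simp only [u]
    rw [((Commute.refl x).pow_right Q).inv_right.mul_pow, inv_pow, h, mul_inv_cancel]
  let k : Subgroup.centralizer ({g} : Set (Matrix n n (ZMod p))ˣ) →
      Subgroup.centralizer ({g} : Set (Matrix n n (ZMod p))ˣ) := fun x =>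
    ⟨u x.1 * R x, fun t ht => by
      rw [Set.mem_singleton_iff.1 ht]; exact ((huc (hx x)).mul_right (hRg x)).eq⟩
  have hk : ∀ x, (k x).1 ^ Q = R x := fun x => by
    show (u x.1 * R x) ^ Q = R x
    rw [(huc (hRx x).symm).symm.mul_pow, huQ, hRQ, one_mul]
  have hinj : Function.Injective k := fun x y h => by
    have e1 : R x = R y := by rw [← hk, ← hk, h]
    have e2 : u x.1 = u y.1 := by
      have : u x.1 * R x = u y.1 * R y := congrArg Subtype.val h
      rw [e1] at this; exact mul_right_cancel this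
    have e3 : x.1 ^ Q = y.1 ^ Q := by
      refine Units.ext (bc_inj (K := K) ?_)
      rw [Units.val_pow_eq_pow_val, Units.val_pow_eq_pow_val, hr5, hr5, ← hR, ← hR, e1]
    apply Subtype.ext
    simp only [u] at e2
    rw [e3] at e2
    exact mul_right_cancel e2
  refine ⟨Equiv.ofBijective k (Finite.injective_iff_bijective.1 hinj), fun x => ⟨?_, ?_⟩⟩
  · show (k x).1.1.trace = _
    rw [← tr_pow (K := K), ← Units.val_pow_eq_pow_val, hk, hR, hr3, tr_pow]
  · show _ = Lam K l g.1 ((u x.1).1 * (R x).1)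
    rw [Lam_mul l hgQ _ (Commute.units_val (hRg x)).symm, hR, hr4]
    have h := Lam_pow l hgQ (Commute.units_val (huc (hx x))).symm Q
    rw [← Units.val_pow_eq_pow_val, huQ, Units.val_one, Lam_one, FiniteField.pow_card] at h
    rw [← h, one_mul]

end CL.KGV.Rx78
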