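import Cfsg.Agent.KGV.Sw1
import Mathlib.Tactic.NoncommRing

/-! The swap theorem for the pairing of commuting matrices. -/

set_option autoImplicit false
set_option maxHeartbeats 400000
set_option linter.unusedSectionVars false

namespace CL.KGV.Sw

variable {p : ℕ} [Fact p.Prime] (K : Type*) [Field K] [Fintype K] [DecidableEq K]
  [Algebra (ZMod p) K] {n : Type*} [Fintype n] [DecidableEq n]

/-- Base change of matrices. -/
def bc : Matrix n n (ZMod p) →+* Matrix n n K := (algebraMap (ZMod p) K).mapMatrix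

/-- The pairing. -/
noncomputable def th (w : Kˣ → ℕ) (x g : Matrix n n (ZMod p)) : K :=
  ∏ b : Kˣ, (bc K g * pi (b : K) (bc K (x ^ Fintype.card K)) + 1 -
    pi (b : K) (bc K (x ^ Fintype.card K))).det ^ w b

variable {K}

theorem bc_inj : Function.Injective (bc K : Matrix n n (ZMod p) → Matrix n n K) := fun a b h => by
  ext i j
  exact (algebraMap (ZMod p) K).injective (congrFun (congrFun h i) j)

theorem mul_aux {A : Type*} [Ring A] {a b e : A} (he : e * e = e) (hb : Commute b e) :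
    (a * e + 1 - e) * (b * e + 1 - e) = a * b * e + 1 - e := by
  have h1 : e * (b * e) = b * e := by rw [← mul_assoc, ← hb.eq, mul_assoc, he]
  have : (a * e + 1 - e) * (b * e + 1 - e) =
      a * (e * (b * e)) + a * e - a * (e * e) + (b * e + 1 - e) - (e * (b * e) + e - e * e) := by
    noncomm_ring
  rw [this, h1, he]; noncomm_ring

theorem pow_aux {A : Type*} [Ring A] {a e : A} (he : e * e = e) (hb : Commute a e) (k : ℕ) :
    (a * e + 1 - e) ^ k = a ^ k * e + 1 - e := by
  induction k with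
  | zero => simp
  | succ k ih => rw [pow_succ, ih, mul_aux he hb, pow_succ]

theorem bc_pow {x : Matrix n n (ZMod p)} {k : ℕ} (h : x ^ k = 1) : bc K x ^ k = 1 := by
  rw [← map_pow, h, map_one]

theorem pi_idem {z : Matrix n n K} (hz : z ^ (Fintype.card K - 1) = 1) (b : K) :
    pi b z * pi b z = pi b z := by rw [pi_mul hz, if_pos rfl]

theorem th_mul (w : Kˣ → ℕ) {x a b : Matrix n n (ZMod p)}
    (hx : (x ^ Fintype.card K) ^ (Fintype.card K - 1) = 1) (hb : Commute b x) :
    th K w x (a * b) = th K w x a * th K w x b := by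
  unfold th
  rw [← Finset.prod_mul_distrib]
  refine Finset.prod_congr rfl fun c _ => ?_
  rw [← mul_pow, ← Matrix.det_mul, mul_aux (pi_idem (bc_pow hx) _)
    (comm_pi ((hb.pow_right _).map (bc K)) _), map_mul]

theorem th_one (w : Kˣ → ℕ) (x : Matrix n n (ZMod p)) : th K w x 1 = 1 := by
  simp [th]

/-- Frobenius on matrices. -/
noncomputable def fr [CharP K p] : Matrix n n K →+* Matrix n n K := (frobenius K p).mapMatrix

theorem fr_bc [CharP K p] (x : Matrix n n (ZMod p)) : fr (p := p) (bc K x) = bc K x := by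
  ext i j
  show (algebraMap (ZMod p) K (x i j)) ^ p = algebraMap (ZMod p) K (x i j)
  rw [← map_pow, ZMod.pow_card]

theorem fr_smul [CharP K p] (t : K) (x : Matrix n n K) : fr (p := p) (t • x) = t ^ p • fr (p := p) x := by
  ext i j
  show (t * x i j) ^ p = t ^ p * x i j ^ p
  rw [mul_pow]

theorem fr_pi [CharP K p] (b : K) (z : Matrix n n K) :
    fr (p := p) (pi b z) = pi (b ^ p) (fr (p := p) z) := by
  simp only [pi, map_sub, map_one, map_pow, Algebra.algebraMap_eq_smul_one, fr_smul, smul_pow,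
    one_pow]

theorem desc [CharP K p] (z : Matrix n n K) (h : fr (p := p) z = z) :
    ∃ x : Matrix n n (ZMod p), bc K x = z := by
  have h1 : ∀ i j, ∃ t : ZMod p, algebraMap (ZMod p) K t = z i j := fun i j => by
    have h2 : z i j ∈ (⊥ : Subfield K) :=
      (Subfield.mem_bot_iff_pow_eq_self K p).2 (congrFun (congrFun h i) j)
    exact (bot_le : (⊥ : Subfield K) ≤ (algebraMap (ZMod p) K).fieldRange) h2
  choose x hx using h1
  exact ⟨Matrix.of x, by ext i j; exact hx i j⟩

/-- Frobenius on the index set. -/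
noncomputable def fi (p : ℕ) [Fact p.Prime] [CharP K p] : Kˣ × Kˣ ≃ Kˣ × Kˣ :=
  Equiv.ofBijective (fun i => (i.1 ^ p, i.2 ^ p)) (Finite.injective_iff_bijective.1 fun i j h => by
    have h1 : (i.1 : K) ^ p = (j.1 : K) ^ p := by exact_mod_cast congrArg (fun t => ((t.1 : Kˣ) : K)) h
    have h2 : (i.2 : K) ^ p = (j.2 : K) ^ p := by exact_mod_cast congrArg (fun t => ((t.2 : Kˣ) : K)) h
    exact Prod.ext (Units.ext (frobenius_inj K p h1)) (Units.ext (frobenius_inj K p h2)))

theorem fr_E [CharP K p] (g s : Matrix n n (ZMod p)) (i : Kˣ × Kˣ) :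
    fr (p := p) (E (bc K g) (bc K s) i) = E (bc K g) (bc K s) (fi p i) := by
  rw [E, map_mul, fr_pi, fr_pi, fr_bc, fr_bc]; rfl

section
variable [CharP K p] {g s : Matrix n n (ZMod p)} (hg : bc K g ^ (Fintype.card K - 1) = 1)
  (hs : bc K s ^ (Fintype.card K - 1) = 1) (h : Commute (bc K g) (bc K s))

theorem Phi_desc (c : Kˣ × Kˣ → K) (hc : ∀ i, c (fi p i) = c i ^ p) :
    ∃ x : Matrix n n (ZMod p), bc K x = Phi hg hs h c := by
  refine desc _ ?_
  rw [Phi_apply, map_sum, ← Equiv.sum_comp (fi p) fun i => c i • E (bc K g) (bc K s) i]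
  exact Finset.sum_congr rfl fun i _ => by rw [fr_smul, fr_E, hc]

theorem exists_d : ∃ d : Kˣ × Kˣ → ℕ, (∀ i, d (fi p i) = d i) ∧
    ∀ c : Kˣ × Kˣ → K, (Phi hg hs h c).det = ∏ i, c i ^ d i := by
  classical
  have hE : ∀ i : Kˣ × Kˣ, ∃ d : ℕ, ∀ t : K,
      (t • E (bc K g) (bc K s) i + 1 - E (bc K g) (bc K s) i).det = t ^ d := fun i =>
    (idem _ (by rw [E_mul hg hs h, if_pos rfl])).imp fun d hd => hd.1
  refine ⟨fun i => Nat.find (hE i), fun i => ?_, fun c => ?_⟩
  · have key : ∀ t : K, (t ^ p • E (bc K g) (bc K s) (fi p i) + 1 - E (bc K g) (bc K s) (fi p i)).det =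
        (t • E (bc K g) (bc K s) i + 1 - E (bc K g) (bc K s) i).det ^ p := fun t => by
      rw [← fr_E, ← fr_smul, ← map_one (fr (p := p) (K := K) (n := n)), ← map_add, ← map_sub, map_one]
      exact ((frobenius K p).map_det _).symm
    refine Nat.find_congr' fun {d} => ⟨fun hd t => ?_, fun hd t => ?_⟩
    · apply frobenius_inj K p
      rw [frobenius_def, frobenius_def, ← key, hd, ← pow_mul, ← pow_mul, mul_comm]
    · obtain ⟨u, rfl⟩ := surjective_frobenius K p t
      show (u ^ p • _ + 1 - _ : Matrix n n K).det = (u ^ p) ^ d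
      rw [key, hd, ← pow_mul, ← pow_mul, mul_comm]
  · have e : c = ∏ i, Pi.mulSingle i (c i) := (Finset.univ_prod_mulSingle c).symm
    let D : (Kˣ × Kˣ → K) →* K := Matrix.detMonoidHom.comp (Phi hg hs h).toRingHom.toMonoidHom
    show D c = _
    conv_lhs => rw [e, map_prod]
    refine Finset.prod_congr rfl fun i _ => ?_
    rw [← Nat.find_spec (hE i) (c i)]
    have e1 : (Pi.mulSingle i (c i) : Kˣ × Kˣ → K) = c i • Pi.single i 1 + 1 - Pi.single i 1 := by
      funext j
      by_cases hj : j = i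
      · subst hj; simp
      · simp [hj]
    have e2 : Phi hg hs h (Pi.single i 1) = E (bc K g) (bc K s) i := by
      rw [Phi_apply, Finset.sum_eq_single i]
      · simp
      · intro j _ hj; simp [hj]
      · simp
    show (Phi hg hs h (Pi.mulSingle i (c i))).det = _
    rw [e1, map_sub, map_add, map_smul, map_one, e2]

theorem trace_Phi (j : Kˣ × Kˣ → ℕ) (hj : ∀ i, j (fi p i) = j i) :
    (Phi hg hs h fun i => (i.2 : K) ^ p ^ j i).trace = (Phi hg hs h fun i => (i.2 : K)).trace := by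
  classical
  have hτ : ∀ i : Kˣ × Kˣ, (E (bc K g) (bc K s) i).trace ^ p = (E (bc K g) (bc K s) i).trace :=
    fun i => by
      obtain ⟨d, -, hd⟩ := idem (E (bc K g) (bc K s) i) (by rw [E_mul hg hs h, if_pos rfl])
      rw [hd]; exact map_natCast (frobenius K p) d
  have hτ2 : ∀ i : Kˣ × Kˣ, (E (bc K g) (bc K s) (fi p i)).trace = (E (bc K g) (bc K s) i).trace :=
    fun i => by
      rw [← fr_E, ← hτ i]
      exact (AddMonoidHom.map_trace (frobenius K p) _).symm
  simp only [Phi_apply, Matrix.trace_sum, Matrix.trace_smul, smul_eq_mul]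
  set τ := fun i : Kˣ × Kˣ => (E (bc K g) (bc K s) i).trace with hτdef
  have S : ∀ k m : ℕ, ∑ i : Kˣ × Kˣ, (if j i = k then (i.2 : K) ^ p ^ m * τ i else 0) =
      ∑ i : Kˣ × Kˣ, (if j i = k then (i.2 : K) * τ i else 0) := by
    intro k m
    induction m with
    | zero => simp
    | succ m ih =>
      rw [← ih, ← Equiv.sum_comp (fi p) fun i => if j i = k then (i.2 : K) ^ p ^ m * τ i else 0]
      refine Finset.sum_congr rfl fun i _ => ?_
      rw [hj, show τ (fi p i) = τ i from hτ2 i, pow_succ', pow_mul]; rfl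
  rw [← Finset.sum_fiberwise_of_maps_to (g := j) (t := Finset.univ.image j)
      (fun i hi => Finset.mem_image_of_mem j hi),
    ← Finset.sum_fiberwise_of_maps_to (g := j) (t := Finset.univ.image j)
      (fun i hi => Finset.mem_image_of_mem j hi)]
  refine Finset.sum_congr rfl fun k _ => ?_
  rw [Finset.sum_filter, Finset.sum_filter, ← S k k]
  refine Finset.sum_congr rfl fun i _ => ?_
  split_ifs with hk
  · rw [hk]
  · rfl

theorem det_fst (d : Kˣ × Kˣ → ℕ) (hd : ∀ c : Kˣ × Kˣ → K, (Phi hg hs h c).det = ∏ i, c i ^ d i)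
    (b : Kˣ) : (bc K g * pi (b : K) (bc K s) + 1 - pi (b : K) (bc K s)).det =
      ∏ a : Kˣ, (a : K) ^ d (a, b) := by
  have e : bc K g * pi (b : K) (bc K s) + 1 - pi (b : K) (bc K s) =
      Phi hg hs h (fun i => if i.2 = b then (i.1 : K) else 1) := by
    have e1 : (fun i : Kˣ × Kˣ => if i.2 = b then (i.1 : K) else 1) =
        (fun i => (i.1 : K)) * pi (b : K) (fun i : Kˣ × Kˣ => (i.2 : K)) + 1 -
          pi (b : K) (fun i : Kˣ × Kˣ => (i.2 : K)) := by
      funext i
      simp only [pi_fun, Pi.sub_apply, Pi.add_apply, Pi.mul_apply, Pi.one_apply, Units.val_inj]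
      split_ifs <;> simp
    rw [e1, map_sub, map_add, map_mul, map_one, map_pi, Phi_fst, Phi_snd]
  rw [e, hd, Fintype.prod_prod_type]
  refine Finset.prod_congr rfl fun a _ => ?_
  rw [Finset.prod_eq_single b]
  · simp
  · intro c _ hc; simp [hc]
  · simp

theorem det_snd (d : Kˣ × Kˣ → ℕ) (hd : ∀ c : Kˣ × Kˣ → K, (Phi hg hs h c).det = ∏ i, c i ^ d i)
    (r : Kˣ × Kˣ → K) (a : Kˣ) :
    (Phi hg hs h r * pi (a : K) (bc K g) + 1 - pi (a : K) (bc K g)).det =
      ∏ b : Kˣ, r (a, b) ^ d (a, b) := by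
  have e : Phi hg hs h r * pi (a : K) (bc K g) + 1 - pi (a : K) (bc K g) =
      Phi hg hs h (fun i => if i.1 = a then r i else 1) := by
    have e1 : (fun i : Kˣ × Kˣ => if i.1 = a then r i else 1) =
        r * pi (a : K) (fun i : Kˣ × Kˣ => (i.1 : K)) + 1 -
          pi (a : K) (fun i : Kˣ × Kˣ => (i.1 : K)) := by
      funext i
      simp only [pi_fun, Pi.sub_apply, Pi.add_apply, Pi.mul_apply, Pi.one_apply, Units.val_inj]
      split_ifs <;> simp
    rw [e1, map_sub, map_add, map_mul, map_one, map_pi, Phi_fst]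
  rw [e, hd, Fintype.prod_prod_type_right]
  refine Finset.prod_congr rfl fun b _ => ?_
  rw [Finset.prod_eq_single a]
  · simp
  · intro c _ hc; simp [hc]
  · simp

theorem E_eq (r : Kˣ × Kˣ → Kˣ) (hr : ∀ a, Function.Injective fun b => r (a, b)) (i : Kˣ × Kˣ) :
    E (bc K g) (bc K s) i =
      pi (i.1 : K) (bc K g) * pi (r i : K) (Phi hg hs h fun i => (r i : K)) := by
  have e2 : Phi hg hs h (Pi.single i 1) = E (bc K g) (bc K s) i := by
    rw [Phi_apply, Finset.sum_eq_single i]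
    · simp
    · intro j _ hj; simp [hj]
    · simp
  have e1 : (Pi.single i 1 : Kˣ × Kˣ → K) = pi (i.1 : K) (fun j : Kˣ × Kˣ => (j.1 : K)) *
      pi (r i : K) (fun j : Kˣ × Kˣ => (r j : K)) := by
    funext j
    simp only [pi_fun, Pi.mul_apply, Units.val_inj]
    by_cases hj : j = i
    · subst hj; simp
    · rw [Pi.single_eq_of_ne hj]
      split_ifs with h1 h2
      · refine absurd (Prod.ext h1 (hr i.1 ?_)) hj
        show r (i.1, j.2) = r i
        rw [← h1]; exact h2
      all_goals simp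
  rw [← e2, e1, map_mul, map_pi, map_pi, Phi_fst]

end

theorem trace_pow (x : Matrix n n (ZMod p)) (N : ℕ) : (x ^ p ^ N).trace = x.trace := by
  induction N with
  | zero => simp
  | succ N ih => rw [pow_succ, pow_mul, ZMod.trace_pow_card, ZMod.pow_card, ih]

theorem trace_bc (x : Matrix n n (ZMod p)) : (bc K x).trace = algebraMap (ZMod p) K x.trace :=
  (AddMonoidHom.map_trace (algebraMap (ZMod p) K) x).symm

theorem swap1 [CharP K p] {N : ℕ} (hQ : Fintype.card K = p ^ N) (w : Kˣ → ℕ) (j : Kˣ → Kˣ → ℕ)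
    (hj1 : ∀ a b, j (a ^ p) (b ^ p) = j a b)
    (hj3 : ∀ d : Kˣ → Kˣ → ℕ, (∀ a b, d (a ^ p) (b ^ p) = d a b) →
      ∏ a, ∏ b, a ^ (w b * d a b) = ∏ a, ∏ b, (b ^ p ^ j a b) ^ (w a * d a b))
    {g x : Matrix n n (ZMod p)} (hg : bc K g ^ (Fintype.card K - 1) = 1)
    (hs : bc K (x ^ Fintype.card K) ^ (Fintype.card K - 1) = 1) (hc : Commute x g)
    (h : Commute (bc K g) (bc K (x ^ Fintype.card K))) :
    ∃ u v : Matrix n n (ZMod p), u * v = 1 ∧ Commute u g ∧
      bc K u = Phi hg hs h (fun i => ((i.2 ^ p ^ j i.1 i.2 * i.2⁻¹ : Kˣ) : K)) ∧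
      bc K (x * u) ^ Fintype.card K = Phi hg hs h (fun i => ((i.2 ^ p ^ j i.1 i.2 : Kˣ) : K)) ∧
      (x * u).trace = x.trace ∧ th K w x g = th K w g (x * u) := by
  obtain ⟨u, hu⟩ := Phi_desc hg hs h (fun i => ((i.2 ^ p ^ j i.1 i.2 * i.2⁻¹ : Kˣ) : K)) fun i => by
    show (((i.2 ^ p) ^ p ^ j (i.1 ^ p) (i.2 ^ p) * (i.2 ^ p)⁻¹ : Kˣ) : K) = _
    rw [hj1, ← Units.val_pow_eq_pow_val, mul_pow, inv_pow, pow_right_comm]
  obtain ⟨v, hv⟩ := Phi_desc hg hs h (fun i => (((i.2 ^ p ^ j i.1 i.2 * i.2⁻¹)⁻¹ : Kˣ) : K)) fun i => by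
    show ((((i.2 ^ p) ^ p ^ j (i.1 ^ p) (i.2 ^ p) * (i.2 ^ p)⁻¹)⁻¹ : Kˣ) : K) = _
    rw [hj1, ← Units.val_pow_eq_pow_val, inv_pow, mul_pow, inv_pow, pow_right_comm]
  have hxg : Commute (bc K x) (bc K g) := hc.map _
  have hxs : Commute (bc K x) (bc K (x ^ Fintype.card K)) := ((Commute.refl x).pow_right _).map _
  have hgu : Commute (bc K g) (bc K u) := hu ▸ comm_Phi hg hs h (Commute.refl _) h _
  have hY : bc K (x * u) ^ Fintype.card K =
      Phi hg hs h (fun i => ((i.2 ^ p ^ j i.1 i.2 : Kˣ) : K)) := by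
    rw [map_mul, hu, (comm_Phi hg hs h hxg hxs _).mul_pow, ← map_pow (bc K)]
    nth_rewrite 1 [← Phi_snd hg hs h]
    rw [← map_pow, ← map_mul]
    congr 1
    funext i
    simp only [Pi.mul_apply, Pi.pow_apply, FiniteField.pow_card]
    rw [← Units.val_mul, mul_comm, inv_mul_cancel_right]
  refine ⟨u, v, bc_inj (K := K) ?_, bc_inj (K := K) ?_, hu, hY, ?_, ?_⟩
  · rw [map_mul, hu, hv, ← map_mul, map_one, ← map_one (Phi hg hs h)]
    congr 1
    funext i
    simp only [Pi.mul_apply, Pi.one_apply]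
    rw [← Units.val_mul, mul_inv_cancel, Units.val_one]
  · rw [map_mul, map_mul, hgu.eq]
  · apply (algebraMap (ZMod p) K).injective
    rw [← trace_pow (x * u) N, ← trace_pow x N, ← hQ, ← trace_bc, ← trace_bc, map_pow (bc K) (x * u), hY]
    nth_rewrite 2 [← Phi_snd hg hs h]
    exact trace_Phi hg hs h (fun i => j i.1 i.2) fun i => hj1 _ _
  · obtain ⟨d, hd1, hd2⟩ := exists_d hg hs h
    have hJ := congrArg (fun t : Kˣ => (t : K)) (hj3 (fun a b => d (a, b)) fun a b => hd1 (a, b))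
    simp only [Units.coe_prod, Units.val_pow_eq_pow_val] at hJ
    have hgQ : bc K (g ^ Fintype.card K) = bc K g := by rw [map_pow, pow_card_of hg]
    have hcY : Commute (bc K (x * u)) (bc K g) := by
      rw [map_mul]; exact hxg.mul_left hgu.symm
    unfold th
    rw [hgQ]
    have e2 : ∀ a : Kˣ, (bc K (x * u) * pi (a : K) (bc K g) + 1 - pi (a : K) (bc K g)).det =
        ∏ b : Kˣ, ((b : K) ^ p ^ j a b) ^ d (a, b) := fun a => by
      rw [← FiniteField.pow_card (Matrix.det _), ← Matrix.det_pow,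
        pow_aux (pi_idem hg _) (comm_pi hcY _), hY, det_snd hg hs h d hd2]
      simp
    simp only [det_fst hg hs h d hd2, e2, ← Finset.prod_pow, ← pow_mul]
    rw [Finset.prod_comm]
    simp only [← pow_mul] at hJ
    simp only [mul_assoc, mul_comm (d _)]
    exact hJ

end CL.KGV.Sw
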