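import Mathlib.FieldTheory.Finite.Basic
import Mathlib.LinearAlgebra.Matrix.Charpoly.FiniteField
import Mathlib.LinearAlgebra.Determinant
import Mathlib.LinearAlgebra.Trace
import Mathlib.LinearAlgebra.Projection

/-! Idempotent calculus for commuting semisimple elements over a finite field. -/

set_option autoImplicit false
set_option maxHeartbeats 400000
set_option linter.unusedSectionVars false

namespace CL.KGV.Sw
open Polynomial

variable {K : Type*} [Field K] [Fintype K] {A : Type*} [Ring A] [Algebra K A]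

theorem vanish (f : K[X]) (h : ∀ c, eval c f = 0) (z : A) (hz : z ^ Fintype.card K = z) :
    aeval z f = 0 := by
  classical
  have h1 : 1 < Fintype.card K := Fintype.one_lt_card
  have hm : (X ^ Fintype.card K - X : K[X]).Monic :=
    monic_X_pow_sub (by rw [degree_X]; exact_mod_cast h1)
  have hd : (X ^ Fintype.card K - X : K[X]).natDegree = Fintype.card K :=
    FiniteField.X_pow_card_sub_X_natDegree_eq K h1
  have e := modByMonic_add_div f (X ^ Fintype.card K - X : K[X])
  have hr : f %ₘ (X ^ Fintype.card K - X) = 0 := by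
    refine eq_zero_of_natDegree_lt_card_of_eval_eq_zero _ Function.injective_id (fun c => ?_) ?_
    · have := congrArg (eval c) e
      simpa [FiniteField.pow_card, h c] using this
    · refine lt_of_lt_of_eq (natDegree_modByMonic_lt f hm fun h0 => ?_) hd
      rw [h0, natDegree_one] at hd; omega
  rw [← e, hr]; simp [hz]

/-- The spectral idempotent. -/
def pi (b : K) (z : A) : A := 1 - (z - algebraMap K A b) ^ (Fintype.card K - 1)

theorem pi_K [DecidableEq K] (b c : K) : pi b c = if c = b then 1 else 0 := by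
  unfold pi
  have h1 : 1 < Fintype.card K := Fintype.one_lt_card
  split_ifs with h
  · subst h; simp [zero_pow (show Fintype.card K - 1 ≠ 0 by omega)]
  · simp [FiniteField.pow_card_sub_one_eq_one _ (sub_ne_zero.2 h)]

theorem map_pi {B F : Type*} [Ring B] [Algebra K B] [FunLike F A B] [AlgHomClass F K A B]
    (f : F) (b : K) (z : A) : f (pi b z) = pi b (f z) := by
  simp [pi, AlgHomClass.commutes]

theorem pi_aeval (b : K) (z : A) : pi b z = aeval z (pi b (X : K[X])) := by
  rw [map_pi, aeval_X]

theorem eval_pi [DecidableEq K] (b c : K) : eval c (pi b (X : K[X])) = if c = b then 1 else 0 := by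
  rw [← coe_aeval_eq_eval, ← pi_aeval, pi_K]

theorem pow_card_of {z : A} (hz : z ^ (Fintype.card K - 1) = 1) : z ^ Fintype.card K = z := by
  have h1 : 1 < Fintype.card K := Fintype.one_lt_card
  obtain ⟨m, hm⟩ : ∃ m, Fintype.card K = m + 1 := ⟨_, (Nat.sub_add_cancel h1.le).symm⟩
  rw [hm] at hz ⊢
  rw [pow_succ, show z ^ m = 1 by simpa using hz, one_mul]

theorem pi_mul [DecidableEq K] {z : A} (hz : z ^ (Fintype.card K - 1) = 1) (a b : K) :
    pi a z * pi b z = if a = b then pi a z else 0 := by
  have h := vanish (pi a X * pi b X - if a = b then pi a X else 0) (fun c => by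
    split_ifs with h
    · subst h; simp only [eval_sub, eval_mul, eval_pi]; split_ifs <;> simp
    · simp only [eval_sub, eval_mul, eval_pi, eval_zero]
      split_ifs with h1 h2
      · exact absurd (h1.symm.trans h2) h
      all_goals simp) z (pow_card_of hz)
  rw [map_sub, map_mul, ← pi_aeval, ← pi_aeval, sub_eq_zero] at h
  rw [h]; split_ifs
  · rw [← pi_aeval]
  · simp

theorem mul_pi {z : A} (hz : z ^ (Fintype.card K - 1) = 1) (a : K) :
    z * pi a z = a • pi a z := by
  classical
  have h := vanish (X * pi a X - a • pi a X) (fun c => by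
    simp only [eval_sub, eval_mul, eval_smul, eval_pi, eval_X]
    split_ifs with h
    · simp [h]
    · simp) z (pow_card_of hz)
  rwa [map_sub, map_mul, map_smul, ← pi_aeval, aeval_X, sub_eq_zero] at h

theorem sum_pi [DecidableEq K] {z : A} (hz : z ^ (Fintype.card K - 1) = 1) :
    ∑ a : Kˣ, pi (a : K) z = 1 := by
  have h := vanish (pi (0 : K) X + ∑ a : Kˣ, pi (a : K) X - 1) (fun c => by
    simp only [eval_sub, eval_add, eval_finsetSum, eval_pi, eval_one]
    by_cases hc : c = 0
    · subst hc
      rw [Finset.sum_eq_zero fun a _ => if_neg a.ne_zero.symm]; simp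
    · rw [if_neg hc, Finset.sum_eq_single (Units.mk0 c hc)]
      · simp
      · intro b _ hb
        exact if_neg fun e => hb (Units.ext e.symm)
      · simp) z (pow_card_of hz)
  simp only [map_sub, map_add, map_sum, ← pi_aeval, map_one] at h
  rw [show pi (0 : K) z = 0 by simp [pi, hz], zero_add, sub_eq_zero] at h
  exact h

theorem comm_pi {y z : A} (h : Commute y z) (b : K) : Commute y (pi b z) :=
  (Commute.one_right y).sub_right
    ((h.sub_right (Algebra.commute_algebraMap_right b y)).pow_right _)

/-- Joint idempotents. -/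
def E (g s : A) (i : Kˣ × Kˣ) : A := pi (i.1 : K) g * pi (i.2 : K) s

theorem comm_E {y g s : A} (h1 : Commute y g) (h2 : Commute y s) (i : Kˣ × Kˣ) :
    Commute y (E g s i) := (comm_pi h1 _).mul_right (comm_pi h2 _)

variable [DecidableEq K]

theorem E_mul {g s : A} (hg : g ^ (Fintype.card K - 1) = 1) (hs : s ^ (Fintype.card K - 1) = 1)
    (h : Commute g s) (i j : Kˣ × Kˣ) : E g s i * E g s j = if i = j then E g s i else 0 := by
  have c : Commute (pi (i.2 : K) s) (pi (j.1 : K) g) := comm_pi (comm_pi h _).symm _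
  have e : E g s i * E g s j = (pi (i.1 : K) g * pi (j.1 : K) g) *
      (pi (i.2 : K) s * pi (j.2 : K) s) := by
    unfold E
    rw [mul_assoc, ← mul_assoc (pi (i.2 : K) s), c.eq]; simp only [mul_assoc]
  rw [e, pi_mul hg, pi_mul hs]
  by_cases h1 : i.1 = j.1
  · by_cases h2 : i.2 = j.2
    · rw [if_pos (by rw [h1]), if_pos (by rw [h2]), if_pos (Prod.ext h1 h2)]; rfl
    · rw [if_neg (fun e : (i.2 : K) = j.2 => h2 (Units.ext e)),
        if_neg (fun e : i = j => h2 (by rw [e])), mul_zero]
  · rw [if_neg (fun e : (i.1 : K) = j.1 => h1 (Units.ext e)), if_neg (fun e : i = j => h1 (by rw [e])), zero_mul]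

theorem sum_E {g s : A} (hg : g ^ (Fintype.card K - 1) = 1) (hs : s ^ (Fintype.card K - 1) = 1) :
    ∑ i : Kˣ × Kˣ, E g s i = 1 := by
  rw [Fintype.sum_prod_type]
  simp only [E, ← Finset.mul_sum, sum_pi hs, mul_one, sum_pi hg]

/-- The functional calculus. -/
noncomputable def Phi {g s : A} (hg : g ^ (Fintype.card K - 1) = 1)
    (hs : s ^ (Fintype.card K - 1) = 1) (h : Commute g s) : (Kˣ × Kˣ → K) →ₐ[K] A :=
  AlgHom.ofLinearMap (Fintype.linearCombination K (E g s))
    (by simp [Fintype.linearCombination_apply, sum_E hg hs])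
    (fun c c' => by
      simp only [Fintype.linearCombination_apply, Finset.sum_mul, Finset.mul_sum, smul_mul_smul_comm,
        E_mul hg hs h, Pi.mul_apply]
      refine Finset.sum_congr rfl fun i _ => ?_
      rw [Finset.sum_eq_single i]
      · simp
      · intro j _ hj; simp [hj]
      · simp)

theorem Phi_apply {g s : A} (hg : g ^ (Fintype.card K - 1) = 1)
    (hs : s ^ (Fintype.card K - 1) = 1) (h : Commute g s) (c : Kˣ × Kˣ → K) :
    Phi hg hs h c = ∑ i, c i • E g s i := by
  simp [Phi, Fintype.linearCombination_apply]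

theorem Phi_fst {g s : A} (hg : g ^ (Fintype.card K - 1) = 1)
    (hs : s ^ (Fintype.card K - 1) = 1) (h : Commute g s) :
    Phi hg hs h (fun i => (i.1 : K)) = g := by
  rw [Phi_apply]
  conv_rhs => rw [← mul_one g, ← sum_E hg hs, Finset.mul_sum]
  refine Finset.sum_congr rfl fun i _ => ?_
  rw [E, ← mul_assoc, mul_pi hg, smul_mul_assoc]

theorem Phi_snd {g s : A} (hg : g ^ (Fintype.card K - 1) = 1)
    (hs : s ^ (Fintype.card K - 1) = 1) (h : Commute g s) :
    Phi hg hs h (fun i => (i.2 : K)) = s := by
  rw [Phi_apply]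
  conv_rhs => rw [← mul_one s, ← sum_E hg hs, Finset.mul_sum]
  refine Finset.sum_congr rfl fun i _ => ?_
  rw [E, ← mul_assoc, (comm_pi h.symm _).eq, mul_assoc, mul_pi hs, mul_smul_comm]

theorem comm_Phi {y g s : A} (hg : g ^ (Fintype.card K - 1) = 1)
    (hs : s ^ (Fintype.card K - 1) = 1) (h : Commute g s) (h1 : Commute y g) (h2 : Commute y s)
    (c : Kˣ × Kˣ → K) : Commute y (Phi hg hs h c) := by
  rw [Phi_apply]
  exact Commute.sum_right _ _ _ fun i _ => (comm_E h1 h2 i).smul_right _

theorem pi_fun {I : Type*} (b : K) (c : I → K) :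
    pi b c = fun i => if c i = b then 1 else 0 := by
  funext i
  rw [← pi_K]
  exact map_pi (Pi.evalAlgHom K (fun _ : I => K) i) b c

theorem idem {n : Type*} [Fintype n] [DecidableEq n] (e : Matrix n n K) (he : e * e = e) :
    ∃ d : ℕ, (∀ t : K, (t • e + 1 - e).det = t ^ d) ∧ e.trace = d := by
  have hp : LinearMap.IsProj (LinearMap.range (Matrix.toLin' e)) (Matrix.toLin' e) :=
    ⟨fun x => ⟨x, rfl⟩, by
      rintro _ ⟨x, rfl⟩
      rw [← LinearMap.comp_apply, ← Matrix.toLin'_mul, he]⟩
  refine ⟨Module.finrank K (LinearMap.range (Matrix.toLin' e)), fun t => ?_, ?_⟩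
  · rw [← LinearMap.det_toLin']
    have e1 : Matrix.toLin' (t • e + 1 - e) =
        ((LinearMap.range (Matrix.toLin' e)).prodEquivOfIsCompl _ hp.isCompl).conj
          (LinearMap.prodMap (t • LinearMap.id) LinearMap.id) := by
      refine LinearMap.ext fun v => ?_
      obtain ⟨⟨a, b⟩, rfl⟩ :=
        ((LinearMap.range (Matrix.toLin' e)).prodEquivOfIsCompl _ hp.isCompl).surjective v
      rw [LinearEquiv.conj_apply_apply, LinearEquiv.symm_apply_apply]
      have ha : Matrix.toLin' e a = a := hp.map_id _ a.2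
      have hb : Matrix.toLin' e b = 0 := b.2
      simp only [map_sub, map_add, map_smul, Matrix.toLin'_one, Submodule.coe_prodEquivOfIsCompl',
        LinearMap.sub_apply, LinearMap.add_apply, LinearMap.smul_apply, LinearMap.id_apply, ha, hb,
        LinearMap.prodMap_apply, Submodule.coe_smul]
      module
    rw [e1, LinearEquiv.conj_apply, LinearMap.comp_assoc, LinearMap.det_conj, LinearMap.det_prodMap]
    simp
  · rw [← hp.trace, Matrix.trace_toLin'_eq]

end CL.KGV.Sw
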