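import Cfsg.Agent.KGV.Sw
import Cfsg.Agent.KGV.Jx
import Cfsg.Agent.KGV.NT
import Cfsg.Agent.KGV.Big
import Cfsg.Agent.KGV.Tr

/-! The matrix form of the pairing. -/

set_option autoImplicit false
set_option maxHeartbeats 400000
set_option linter.unusedSectionVars false

namespace CL.KGV.Sw

variable {p : ℕ} [Fact p.Prime] {K : Type*} [Field K] [Fintype K] [DecidableEq K]
  [Algebra (ZMod p) K] {n : Type*} [Fintype n] [DecidableEq n]

/-- Conjugation as an algebra map. -/
def cj {U V : Matrix n n K} (h1 : U * V = 1) (h2 : V * U = 1) : Matrix n n K →ₐ[K] Matrix n n K :=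
  AlgHom.ofLinearMap (LinearMap.mulLeft K U ∘ₗ LinearMap.mulRight K V) (by simp [h1]) fun x y => by
    show U * (x * y * V) = U * (x * V) * (U * (y * V))
    rw [mul_assoc U, mul_assoc x V, ← mul_assoc V, h2, one_mul, mul_assoc]

theorem det_cj {U V : Matrix n n K} (h1 : U * V = 1) (h2 : V * U = 1) (x : Matrix n n K) :
    (cj h1 h2 x).det = x.det := by
  show (U * (x * V)).det = _
  rw [Matrix.det_mul_comm, mul_assoc, h2, mul_one]

theorem th_conj (w : Kˣ → ℕ) (u : (Matrix n n (ZMod p))ˣ) (y a : Matrix n n (ZMod p)) :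
    th K w (u.1 * y * u⁻¹.1) (u.1 * a * u⁻¹.1) = th K w y a := by
  have h1 : bc K u.1 * bc K u⁻¹.1 = 1 := by rw [← map_mul, Units.mul_inv, map_one]
  have h2 : bc K u⁻¹.1 * bc K u.1 = 1 := by rw [← map_mul, Units.inv_mul, map_one]
  have e : ∀ z, bc K (u.1 * z * u⁻¹.1) = cj h1 h2 (bc K z) := fun z => by
    rw [map_mul, map_mul, mul_assoc]; rfl
  unfold th
  refine Finset.prod_congr rfl fun b _ => ?_
  rw [map_pow (bc K), e, e, ← map_pow, ← map_pi, ← map_mul, ← det_cj h1 h2 (bc K a * _ + 1 - _),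
    map_sub, map_add, map_one, map_pow (bc K) y]

theorem th_fix (w : Kˣ → ℕ) (hw : w 1 = 0) {g x : Matrix n n (ZMod p)}
    (hg : bc K g ^ (Fintype.card K - 1) = 1) (hx : x * (g - 1) = g - 1) : th K w g x = 1 := by
  unfold th
  rw [map_pow, pow_card_of hg]
  refine Finset.prod_eq_one fun b _ => ?_
  by_cases hb : b = 1
  · rw [hb, hw, pow_zero]
  · have h0 : (b : K) - 1 ≠ 0 := sub_ne_zero.2 fun e => hb (Units.ext e)
    have e1 : (bc K g - 1) * pi (b : K) (bc K g) = ((b : K) - 1) • pi (b : K) (bc K g) := by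
      rw [sub_mul, mul_pi hg, one_mul, sub_smul, one_smul]
    have e2 : bc K x * (bc K g - 1) = bc K g - 1 := by
      have := congrArg (bc K) hx
      rwa [map_mul, map_sub, map_one] at this
    have e3 : bc K x * pi (b : K) (bc K g) = pi (b : K) (bc K g) := by
      apply smul_right_injective _ h0
      show ((b : K) - 1) • _ = ((b : K) - 1) • _
      rw [← mul_smul_comm, ← e1, ← mul_assoc, e2]
    rw [e3, add_sub_cancel_left, Matrix.det_one, one_pow]

theorem pw_inj [CharP K p] (k : ℕ) {a b : Kˣ} (h : a ^ p ^ k = b ^ p ^ k) : a = b := by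
  apply Units.ext
  apply iterateFrobenius_inj K p k
  rw [iterateFrobenius_def, iterateFrobenius_def]
  exact_mod_cast congrArg (fun t : Kˣ => (t : K)) h

theorem th_ne [CharP K p] (w : Kˣ → ℕ)
    (hw : ∀ a : Kˣ, ∃ (i : ℕ) (b : Kˣ), (∀ k, a ^ p ^ k = a → b ^ p ^ k = b) ∧
      b ^ w (a ^ p ^ i) = a ^ p ^ i ∧ ∀ k, a ^ p ^ k ≠ a ^ p ^ i → w (a ^ p ^ k) = 0)
    {g : Matrix n n (ZMod p)} (hg : bc K g ^ (Fintype.card K - 1) = 1) (h1 : g ≠ 1) :
    ∃ x : Matrix n n (ZMod p), IsUnit x ∧ x * g = g * x ∧ th K w g x ≠ 1 := by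
  obtain ⟨a, ha1, ha0⟩ : ∃ a : Kˣ, a ≠ 1 ∧ pi (a : K) (bc K g) ≠ 0 := by
    by_contra hcon
    push Not at hcon
    apply h1
    apply bc_inj (K := K)
    rw [map_one, ← mul_one (bc K g), ← sum_pi hg, Finset.mul_sum]
    refine Finset.sum_congr rfl fun a _ => ?_
    by_cases ha : a = 1
    · rw [mul_pi hg, ha, Units.val_one, one_smul]
    · rw [hcon a ha, mul_zero]
  obtain ⟨i, b, hb1, hb2, hb3⟩ := hw a
  have hF : ∀ c : K, (pi c (bc K g)).map (frobenius K p) = pi (c ^ p) (bc K g) := fun c => by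
    have := fr_pi (p := p) c (bc K g)
    rw [fr_bc] at this
    exact this
  have h0 : ∀ k : ℕ, pi ((a : K) ^ p ^ k) (bc K g) ≠ 0 := fun k => by
    induction k with
    | zero => simpa using ha0
    | succ k ih =>
      rw [pow_succ, pow_mul, ← hF]
      intro e
      apply ih
      ext r s
      exact frobenius_inj K p ((congrFun (congrFun e r) s).trans (map_zero _).symm)
  obtain ⟨X, hX1, hX2, hX3, hX4, hX5⟩ := CL.KGV.NT.ex' p (bc K g) (fun c => pi c (bc K g))
    (pi_mul hg) hF (mul_pi hg) (fun c => by rw [← (comm_pi (Commute.refl _) c).eq, mul_pi hg])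
    (h0 i) b.ne_zero (fun k hk => by
      have h2 : (a ^ p ^ k) ^ p ^ i = a ^ p ^ i := by
        rw [pow_right_comm]; exact Units.ext (by exact_mod_cast hk)
      exact_mod_cast congrArg (fun t : Kˣ => (t : K)) (hb1 k (pw_inj i h2)))
  obtain ⟨x, rfl⟩ := desc (p := p) X hX1
  refine ⟨x, ?_, bc_inj (K := K) (by rw [map_mul, map_mul, hX2]), ?_⟩
  · rw [Matrix.isUnit_iff_isUnit_det, isUnit_iff_ne_zero]
    intro e
    apply hX3.ne_zero
    rw [show (bc K x).det = algebraMap (ZMod p) K x.det from ((algebraMap (ZMod p) K).map_det x).symm,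
      e, map_zero]
  · unfold th
    rw [map_pow, pow_card_of hg, Finset.prod_eq_single (a ^ p ^ i)]
    · rw [Units.val_pow_eq_pow_val, hX4, ← Units.val_pow_eq_pow_val, hb2]
      intro e
      exact ha1 (pw_inj i (by rw [one_pow]; exact Units.ext e))
    · intro c _ hc
      by_cases hk : ∃ k, (c : K) = ((a : K) ^ p ^ i) ^ p ^ k
      · obtain ⟨k, hk⟩ := hk
        have e : c = a ^ p ^ (i + k) := Units.ext (by rw [hk, pow_add, pow_mul]; simp)
        rw [e, hb3 _ (e ▸ hc), pow_zero]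
      · push Not at hk
        rw [hX5 _ hk, one_pow]
    · simp

theorem iota0 (K : Type*) [Field K] [Finite K] : ∃ ι : K →* ℂ, ∀ t, ι t = 1 → t = 1 := by
  classical
  obtain ⟨ι, hι⟩ := CL.KGV.Big.iota K
  refine ⟨⟨⟨fun t => if h : t = 0 then 0 else ι (Units.mk0 t h), by simp⟩, fun s t => ?_⟩, fun t ht => ?_⟩
  · by_cases hs : s = 0
    · simp [hs]
    · by_cases ht : t = 0
      · simp [ht]
      · simp [hs, ht]
  · by_cases h : t = 0
    · simp [h] at ht
    · have h2 : (ι (Units.mk0 t h) : ℂ) = 1 := by simpa [h] using ht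
      have h3 : Units.mk0 t h = 1 := hι (by rw [map_one]; exact Units.ext h2)
      exact congrArg Units.val h3

theorem mat (p : ℕ) [hp : Fact p.Prime] : CL.KGV.Tr.Mat p := by
  classical
  intro n
  obtain ⟨k, hk, hk1, hk2⟩ := CL.KGV.Big.ex p (GL (Fin n) (ZMod p))
  let K := GaloisField p k
  letI : Fintype K := Fintype.ofFinite K
  have hQ : Fintype.card K = p ^ k := by rw [← Nat.card_eq_fintype_card]; exact GaloisField.card p k hk
  have hQ1 : 1 ≤ p ^ k := Nat.one_le_pow _ _ hp.out.pos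
  obtain ⟨w, j, hj1, hj2, hj3, hw1, hw2⟩ := CL.KGV.Jx.ex (C := Kˣ) hp.out.two_le (Nat.pos_of_ne_zero hk)
    (by rw [Fintype.card_units, hQ])
  obtain ⟨ι, hι⟩ := iota0 K
  have one : ∀ z : GL (Fin n) (ZMod p), z ^ p ^ k = z → z.1 ^ (Fintype.card K - 1) = 1 := fun z hz => by
    have : z ^ (p ^ k - 1) = 1 := by
      apply mul_right_cancel (b := z)
      rw [← pow_succ, Nat.sub_add_cancel hQ1, hz, one_mul]
    rw [hQ, ← Units.val_pow_eq_pow_val, this, Units.val_one]
  have hu : ∀ x : GL (Fin n) (ZMod p), (x.1 ^ Fintype.card K) ^ (Fintype.card K - 1) = 1 := fun x => by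
    have := one _ (hk1 x)
    rwa [Units.val_pow_eq_pow_val, ← hQ] at this
  have cm : ∀ {a y : GL (Fin n) (ZMod p)}, a * y = y * a → Commute a.1 y.1 := fun h =>
    congrArg Units.val h
  refine ⟨Fintype.card K - 1, ?_, fun y a => ι (th K w y.1 a.1), fun y a b _ hb => ?_, fun y => ?_,
    fun y g a _ => ?_, fun g m hm hgm => ?_⟩
  · intro h
    have h2 : p ∣ p ^ k := dvd_pow_self p hk
    rw [hQ] at h
    have h3 := Nat.dvd_sub h2 h
    rw [Nat.sub_sub_self hQ1] at h3
    exact hp.out.one_lt.ne' (Nat.dvd_one.1 h3)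
  · show ι (th K w y.1 (a.1 * b.1)) = _
    rw [th_mul w (hu y) (cm hb), map_mul]
  · show ι (th K w y.1 1) = 1
    rw [th_one, map_one]
  · show ι (th K w (g.1 * y.1 * g⁻¹.1) (g.1 * a.1 * g⁻¹.1)) = _
    rw [th_conj]
  have hg : bc K g.1 ^ (Fintype.card K - 1) = 1 := bc_pow (one g (hk2 g m hm hgm))
  refine ⟨fun x hx => ?_, fun x _ hx => ?_, fun h1 => ?_, ?_⟩
  · have h0 : th K w g.1 x⁻¹.1 * th K w g.1 x.1 = 1 := by
      rw [← th_mul w (hu g) (cm hx), Units.inv_mul, th_one]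
    show ι _ ^ _ = 1
    rw [← map_pow, FiniteField.pow_card_sub_one_eq_one _ (right_ne_zero_of_mul_eq_one h0), map_one]
  · show ι _ = 1
    rw [th_fix w hw1 hg hx, map_one]
  · obtain ⟨x, ⟨x, rfl⟩, hx1, hx2⟩ := th_ne w hw2 hg (fun e => h1 (Units.ext e))
    exact ⟨x, Units.ext hx1, fun e => hx2 (hι _ e)⟩
  · have hc : ∀ x : {x : GL (Fin n) (ZMod p) // x * g = g * x},
        Commute (bc K g.1) (bc K (x.1.1 ^ Fintype.card K)) := fun x =>
      (((cm x.2).symm).pow_right _).map _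
    have key := fun x : {x : GL (Fin n) (ZMod p) // x * g = g * x} =>
      swap1 hQ w j hj1 hj3 hg (bc_pow (hu x.1)) (cm x.2) (hc x)
    choose u v huv hug hu1 hu2 hu3 hu4 using key
    let U : {x : GL (Fin n) (ZMod p) // x * g = g * x} → GL (Fin n) (ZMod p) := fun x =>
      ⟨u x, v x, huv x, mul_eq_one_comm.1 (huv x)⟩
    let r : {x : GL (Fin n) (ZMod p) // x * g = g * x} → {x : GL (Fin n) (ZMod p) // x * g = g * x} :=
      fun x => ⟨x.1 * U x, Units.ext ((cm x.2).mul_left (hug x)).eq⟩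
    have hr : Function.Injective r := fun x y hxy => by
      have e0 : x.1 * U x = y.1 * U y := congrArg Subtype.val hxy
      have e1 : x.1.1 * u x = y.1.1 * u y := congrArg Units.val e0
      have e2 : ∀ i : Kˣ × Kˣ, E (bc K g.1) (bc K (x.1.1 ^ Fintype.card K)) i =
          E (bc K g.1) (bc K (y.1.1 ^ Fintype.card K)) i := fun i => by
        rw [E_eq hg (bc_pow (hu x.1)) (hc x) (fun i => i.2 ^ p ^ j i.1 i.2) hj2 i,
          E_eq hg (bc_pow (hu y.1)) (hc y) (fun i => i.2 ^ p ^ j i.1 i.2) hj2 i, ← hu2, ← hu2, e1]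
      have e3 : u x = u y := bc_inj (K := K) (by
        rw [hu1, hu1, Phi_apply, Phi_apply]; simp only [e2])
      have e4 : U x = U y := Units.ext e3
      rw [e4] at e0
      exact Subtype.ext (mul_right_cancel e0)
    exact ⟨Equiv.ofBijective r (Finite.injective_iff_bijective.1 hr), fun x =>
      ⟨congrArg ι (hu4 x), hu3 x⟩⟩

end CL.KGV.Sw
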