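import Cfsg.Agent.KGV.T10b
import Cfsg.Agent.KGV.Big
import Cfsg.Agent.KGV.Pair
import Cfsg.Agent.KGV.Tr
import Cfsg.Agent.KGV.A.AsmD

/-! The pairing of commuting automorphisms. -/

set_option autoImplicit false
open Finset CL.KGV.Idem Polynomial

namespace CL.KGV.T10

variable {p : ℕ} [Fact p.Prime] (K : Type*) [Field K] [Algebra (ZMod p) K]
  {n : Type*} [Fintype n] [DecidableEq n]

/-- extension of scalars -/
def F : GL n (ZMod p) →* Matrix n n K :=
  ((algebraMap (ZMod p) K).mapMatrix : Matrix n n (ZMod p) →+* Matrix n n K).toMonoidHom.comp (Units.coeHom _)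

theorem F_apply (x : GL n (ZMod p)) : F K x = (algebraMap (ZMod p) K).mapMatrix x.1 := rfl

theorem F_inj : Function.Injective (F K : GL n (ZMod p) → Matrix n n K) := fun x y e =>
  Units.ext (Matrix.ext fun a b => (algebraMap (ZMod p) K).injective (congrFun (congrFun e a) b))

theorem F_fr [CharP K p] (x : GL n (ZMod p)) : (F K x).map (frobenius K p) = F K x := by
  ext a b
  change algebraMap (ZMod p) K (x.1 a b) ^ p = algebraMap (ZMod p) K (x.1 a b)
  rw [← map_pow, ZMod.pow_card]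

theorem F_unit (x : GL n (ZMod p)) : IsUnit (F K x) := (Group.isUnit x).map (F K)

theorem F_tr (x : GL n (ZMod p)) : (F K x).trace = algebraMap (ZMod p) K x.1.trace := by
  simp [F_apply, Matrix.trace, map_sum]

variable {K}

theorem F_desc [CharP K p] {X : Matrix n n K} (h : X.map (frobenius K p) = X) (hu : IsUnit X.det) :
    ∃ x : GL n (ZMod p), F K x = X := by
  obtain ⟨y, rfl⟩ := Big.desc p X h
  have : IsUnit y := by
    rw [Matrix.isUnit_iff_isUnit_det, isUnit_iff_ne_zero]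
    intro e
    refine hu.ne_zero ?_
    rw [← RingHom.mapMatrix_apply, ← RingHom.map_det, e, map_zero]
  exact ⟨this.unit, rfl⟩

theorem reidx [Fintype K] [CharP K p] {l : K → ℕ} {ρ : K → K → K} (h : Pr p l ρ) {k : ℕ}
    (hQ : Fintype.card K = p ^ k) (h1 : ∀ x : GL n (ZMod p), (x ^ p ^ k) ^ p ^ k = x ^ p ^ k)
    (g : GL n (ZMod p)) (hg : g ^ p ^ k = g) :
    ∃ r : Equiv.Perm {x : GL n (ZMod p) // x * g = g * x}, ∀ x,
      D l (F K (x.1 ^ p ^ k)) (F K g) = D l (F K g) (F K (r x).1) ∧ (r x).1.1.trace = x.1.1.trace := by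
  classical
  have hG : F K g ^ Fintype.card K = F K g := by rw [hQ, ← map_pow, hg]
  have hY : ∀ x : GL n (ZMod p), F K (x ^ p ^ k) ^ Fintype.card K = F K (x ^ p ^ k) := fun x => by
    rw [hQ, ← map_pow, h1]
  have hc : ∀ x : {x : GL n (ZMod p) // x * g = g * x}, Commute (F K g) (F K (x.1 ^ p ^ k)) := fun x =>
    ((Commute.symm x.2).pow_right _).map (F K)
  have hq : Fintype.card K - 1 ≠ 0 := by have := Fintype.one_lt_card (α := K); omega
  have hd : ∀ x : {x : GL n (ZMod p) // x * g = g * x}, ∃ d : GL n (ZMod p),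
      F K d = Dm ρ (F K g) (F K (x.1 ^ p ^ k)) := fun x =>
    F_desc (Dm_fr h (F_fr K _) (F_fr K _)) ((Matrix.isUnit_iff_isUnit_det _).1
      (IsUnit.of_pow_eq_one (Dm_pow hG (hY _) (hc x) h (F_unit K _)) hq))
  choose d hd using hd
  have dc : ∀ x (z : GL n (ZMod p)), Commute z g → Commute z (x.1 ^ p ^ k) → Commute z (d x) :=
    fun x z a b => F_inj K (by
      rw [map_mul, map_mul, hd]; exact (Dm_comm (a.map (F K)) (b.map (F K))).eq)
  have dq : ∀ x, d x ^ p ^ k = d x := fun x => F_inj K (by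
    have e : Fintype.card K = Fintype.card K - 1 + 1 := by omega
    rw [map_pow, ← hQ, e, pow_succ, hd, Dm_pow hG (hY _) (hc x) h (F_unit K _), one_mul])
  have uq : ∀ x : GL n (ZMod p), (x * (x ^ p ^ k)⁻¹) ^ p ^ k = 1 := fun x => by
    rw [((Commute.refl x).pow_right _).inv_right.mul_pow, inv_pow, h1, mul_inv_cancel]
  have ug : ∀ x : {x : GL n (ZMod p) // x * g = g * x}, Commute (x.1 * (x.1 ^ p ^ k)⁻¹) g := fun x =>
    Commute.mul_left x.2 (Commute.pow_left x.2 _).inv_left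
  have uy : ∀ x : GL n (ZMod p), Commute (x * (x ^ p ^ k)⁻¹) (x ^ p ^ k) := fun x =>
    Commute.mul_left ((Commute.refl x).pow_right _) (Commute.refl _).inv_left
  have ud : ∀ x : {x : GL n (ZMod p) // x * g = g * x}, Commute (x.1 * (x.1 ^ p ^ k)⁻¹) (d x) := fun x =>
    dc x _ (ug x) (uy x.1)
  have gd : ∀ x, Commute g (d x) := fun x => dc x g (Commute.refl g) ((Commute.symm x.2).pow_right _)
  let r0 : {x : GL n (ZMod p) // x * g = g * x} → {x : GL n (ZMod p) // x * g = g * x} := fun x =>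
    ⟨x.1 * (x.1 ^ p ^ k)⁻¹ * d x, ((ug x).mul_left (gd x).symm).eq⟩
  have rq : ∀ x, (r0 x).1 ^ p ^ k = d x := fun x => by
    change (x.1 * (x.1 ^ p ^ k)⁻¹ * d x) ^ p ^ k = d x
    rw [(ud x).mul_pow, uq, dq, one_mul]
  have inj : Function.Injective r0 := fun x y e => by
    have e1 : d x = d y := by rw [← rq, ← rq, e]
    have e2 : x.1 * (x.1 ^ p ^ k)⁻¹ * d x = y.1 * (y.1 ^ p ^ k)⁻¹ * d y := congrArg Subtype.val e
    have e3 : x.1 ^ p ^ k = y.1 ^ p ^ k :=
      F_inj K (Dm_inj hG (hY _) (hc x) h (hY _) (hc y) (by rw [← hd, ← hd, e1]))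
    rw [e1, e3] at e2
    exact Subtype.ext (mul_right_cancel (mul_right_cancel e2))
  refine ⟨Equiv.ofBijective r0 (Finite.injective_iff_bijective.1 inj), fun x => ⟨?_, ?_⟩⟩
  · change _ = D l (F K g) (F K (x.1 * (x.1 ^ p ^ k)⁻¹ * d x))
    rw [map_mul (F K) _ (d x), D_mul l hG ((gd x).symm.map (F K)),
      D_unip hG (by rw [hQ, ← map_pow, uq, map_one]) ((ug x).map (F K)), one_mul, hd]
    exact D_swap hG (hY _) (hc x) h (F_fr K _) (F_fr K _) (F_unit K _) (F_unit K _)
  · change (x.1 * (x.1 ^ p ^ k)⁻¹ * d x).1.trace = _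
    refine (algebraMap (ZMod p) K).injective ?_
    have hU : F K (x.1 * (x.1 ^ p ^ k)⁻¹) ^ p ^ k = 1 := by rw [← map_pow, uq, map_one]
    rw [← F_tr, ← F_tr, map_mul (F K) _ (d x), tr_unip p hU ((ud x).map (F K)), hd,
      tr_swap hG (hY _) (hc x) h (F_fr K _) (F_fr K _) (F_unit K _) (F_unit K _),
      ← tr_unip p hU ((uy x.1).map (F K)), ← map_mul, inv_mul_cancel_right]

theorem mat (p : ℕ) [hp : Fact p.Prime] : Tr.Mat p := by
  classical
  intro n
  obtain ⟨k, hk, h1, h2⟩ := Big.ex p (GL (Fin n) (ZMod p))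
  let K := GaloisField p k
  letI : Fintype K := Fintype.ofFinite _
  have hQ : Fintype.card K = p ^ k := by rw [← Nat.card_eq_fintype_card]; exact GaloisField.card p k hk
  obtain ⟨ι, hι⟩ := Big.iota K
  obtain ⟨l, ρ, a1, a2, a3, a4, a5, l1, a6⟩ := Pair.ex p K
  have h : Pr p l ρ := ⟨a1, a2, a3, a4, a5⟩
  let χ : MulChar K ℂ := MulChar.ofUnitHom ι
  have hχ : ∀ a, χ a = 1 → a = 1 := fun a e => by
    by_cases h0 : a = 0
    · rw [h0, MulChar.map_zero] at e; exact absurd e zero_ne_one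
    · have e2 : ι (Units.mk0 a h0) = ι 1 := by
        rw [map_one]; exact Units.ext ((MulChar.ofUnitHom_coe ι (Units.mk0 a h0)).symm.trans e)
      exact congrArg Units.val (hι e2)
  have hY : ∀ x : GL (Fin n) (ZMod p), F K (x ^ p ^ k) ^ Fintype.card K = F K (x ^ p ^ k) := fun x => by
    rw [hQ, ← map_pow, h1]
  have hN : ¬ p ∣ Fintype.card K - 1 := fun e => by
    have e2 : p ∣ Fintype.card K := hQ ▸ dvd_pow_self p hk
    have e3 : p ∣ 1 := (Nat.dvd_sub_iff_right Fintype.card_pos e2).1 e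
    exact hp.out.one_lt.ne' (Nat.dvd_one.1 e3)
  refine ⟨Fintype.card K - 1, hN, fun y a => χ (D l (F K (y ^ p ^ k)) (F K a)), fun y a b _ hb => ?_,
    fun y => ?_, fun y g a _ => ?_, fun g m hm hgm => ?_⟩
  · beta_reduce
    rw [map_mul, D_mul l (hY y) ((Commute.pow_right hb _).map (F K)), map_mul]
  · beta_reduce
    rw [map_one, D_one, map_one]
  · beta_reduce
    rw [conj_pow, map_mul, map_mul, map_mul, map_mul,
      D_conj l (by rw [← map_mul, mul_inv_cancel, map_one]) (by rw [← map_mul, inv_mul_cancel, map_one])]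
  have hg := h2 g m hm hgm
  have hG : F K g ^ Fintype.card K = F K g := by rw [hQ, ← map_pow, hg]
  simp only [hg]
  refine ⟨fun x hx => ?_, fun x _ hx => ?_, fun hg1 => ?_, ?_⟩
  · have e : D l (F K g) (F K x) * D l (F K g) (F K x⁻¹) = 1 := by
      rw [← D_mul l hG ((Commute.inv_left hx).map (F K)), ← map_mul, mul_inv_cancel, map_one, D_one]
    rw [← map_pow, FiniteField.pow_card_sub_one_eq_one _ (left_ne_zero_of_mul_eq_one e), map_one]
  · rw [D_fix hG l1, map_one]
    have := congrArg ((algebraMap (ZMod p) K).mapMatrix : Matrix (Fin n) (Fin n) (ZMod p) →+* _) hx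
    rwa [map_mul, map_sub, map_one] at this
  · obtain ⟨X, x1, x2, x3, x4⟩ := D_nt hG (F_fr K g) (F_unit K g) l1 (fun a ha => by
      obtain ⟨j, P, b1, b2⟩ := a6 a ha
      refine ⟨j, aeval (a ^ p ^ j) P, fun i e => ?_, b1, b2⟩
      have := Polynomial.aeval_algHom_apply (FiniteField.frobeniusAlgHom (ZMod p) K ^ i) (a ^ p ^ j) P
      simp only [AlgHom.coe_pow, FiniteField.coe_frobeniusAlgHom, pow_iterate, ZMod.card] at this
      rw [← this, e]) (fun e => hg1 (F_inj K (by rw [e, map_one])))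
    obtain ⟨x, rfl⟩ := F_desc (p := p) x1 x3
    exact ⟨x, F_inj K (by rw [map_mul, map_mul, x2]), fun e => x4 (hχ _ e)⟩
  · obtain ⟨r, hr⟩ := reidx h hQ h1 g hg
    exact ⟨r, fun x => ⟨by rw [(hr x).1], (hr x).2⟩⟩

universe u

theorem thetaSt (p : ℕ) [Fact p.Prime] : KGA.ThetaSt.{u} p := fun V _ _ _ => Tr.theta (mat p) V

end CL.KGV.T10
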