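import Mathlib
import Cfsg.Agent.KGV.I.Idem

/-! Matrix lemmas for the twisted characters of centralizers. -/

set_option autoImplicit false
open Finset CL.KGV.Idem

namespace CL.KGV.T10

section ring
variable {K A : Type*} [Field K] [Ring A] [Algebra K A] {ι : Type*} [Fintype ι] {E : ι → A}

theorem smul_mul (hE : CompleteOrthogonalIdempotents E) (c : ι → K) (j : ι) :
    (∑ i, c i • E i) * E j = c j • E j := by
  rw [sum_mul, sum_eq_single j (fun i _ h => by rw [smul_mul_assoc, hE.ortho h, smul_zero]) (by simp),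
    smul_mul_assoc, (hE.idem j).eq]

theorem sum_mul_sum' (hE : CompleteOrthogonalIdempotents E) (c d : ι → K) :
    (∑ i, c i • E i) * (∑ i, d i • E i) = ∑ i, (c i * d i) • E i := by
  rw [mul_sum]
  exact sum_congr rfl fun j _ => by rw [mul_smul_comm, smul_mul hE, smul_smul, mul_comm]

theorem sum_pow' (hE : CompleteOrthogonalIdempotents E) (c : ι → K) (k : ℕ) :
    (∑ i, c i • E i) ^ k = ∑ i, (c i ^ k) • E i := by
  induction k with
  | zero => simp [hE.complete]
  | succ k ih => simp only [pow_succ, ih, sum_mul_sum' hE]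

theorem cut (hE : CompleteOrthogonalIdempotents E) (c : ι → K) (e : A) (P : ι → Prop) [DecidablePred P]
    (h : ∀ i, E i * e = if P i then E i else 0) :
    (∑ i, c i • E i) * e + (1 - e) = ∑ i, (if P i then c i else 1) • E i := by
  have : 1 - e = ∑ i, (E i - E i * e) := by rw [sum_sub_distrib, ← sum_mul, hE.complete, one_mul]
  rw [this, sum_mul, ← sum_add_distrib]
  refine sum_congr rfl fun i _ => ?_
  rw [smul_mul_assoc, h]
  split_ifs <;> simp

theorem mulE {z z' e : A} (he : e * e = e) (h : Commute z' e) :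
    (z * e + (1 - e)) * (z' * e + (1 - e)) = z * z' * e + (1 - e) := by
  have h1 : e * (z' * e) = z' * e := by rw [← mul_assoc, ← h.eq, mul_assoc, he]
  simp only [add_mul, mul_add, sub_mul, mul_sub, one_mul, mul_one, mul_assoc, h1, he]
  abel

theorem powE {z e : A} (he : e * e = e) (h : Commute z e) (k : ℕ) :
    (z * e + (1 - e)) ^ k = z ^ k * e + (1 - e) := by
  induction k with
  | zero => simp
  | succ k ih => rw [pow_succ, ih, mulE he h, pow_succ]

theorem ep_sum [Fintype K] [DecidableEq K] (hE : CompleteOrthogonalIdempotents E) (c : ι → K) (a : K) :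
    ep (∑ i, c i • E i) a = ∑ i, (if c i = a then (1 : K) else 0) • E i := by
  have h1 : (∑ i, c i • E i) - algebraMap K A a = ∑ i, (c i - a) • E i := by
    simp only [sub_smul, sum_sub_distrib, ← smul_sum, hE.complete, Algebra.algebraMap_eq_smul_one]
  rw [ep, h1, sum_pow' hE, ← hE.complete, ← sum_sub_distrib]
  refine sum_congr rfl fun i _ => ?_
  split_ifs with h
  · rw [h, sub_self, zero_pow (Nat.sub_ne_zero_of_lt Fintype.one_lt_card)]; simp
  · rw [FiniteField.pow_card_sub_one_eq_one _ (sub_ne_zero.2 h)]; simp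

end ring

variable {K : Type*} [Field K] {n : Type*} [Fintype n] [DecidableEq n]

noncomputable def mr (E : Matrix n n K) : ℕ := rk (Matrix.toLin' E)

theorem mr_zero : mr (0 : Matrix n n K) = 0 := by simp [mr, rk]

theorem det_top {ι : Type*} [Fintype ι] {E : ι → Matrix n n K} (hE : CompleteOrthogonalIdempotents E)
    (c : ι → K) : (∑ i, c i • E i).det = ∏ i, c i ^ mr (E i) := by
  have := det_sum_top _ (hE.map (Matrix.toLinAlgEquiv' (R := K) (n := n)).toRingEquiv.toRingHom) c
  rw [← LinearMap.det_toLin', map_sum]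
  simp only [map_smul]
  exact this

theorem tr_top {ι : Type*} [Fintype ι] {E : ι → Matrix n n K} (hE : CompleteOrthogonalIdempotents E)
    (c : ι → K) : (∑ i, c i • E i).trace = ∑ i, (mr (E i) : K) * c i := by
  have := trace_sum _ (hE.map (Matrix.toLinAlgEquiv' (R := K) (n := n)).toRingEquiv.toRingHom).idem c univ
  rw [← Matrix.trace_toLin'_eq, map_sum]
  simp only [map_smul, mul_comm _ (c _)]
  exact this

theorem mr_map [Fintype K] (φ : K ≃+* K) (E : Matrix n n K) : mr (E.map φ) = mr E := by
  have key : Nat.card (LinearMap.range (Matrix.toLin' (E.map φ))) =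
      Nat.card (LinearMap.range (Matrix.toLin' E)) := by
    refine Nat.card_congr (Equiv.subtypeEquiv (Equiv.piCongrRight fun _ => φ.toEquiv) fun v => ?_).symm
    constructor
    · rintro ⟨u, rfl⟩
      exact ⟨φ ∘ u, funext fun i => (RingHom.map_mulVec (φ : K →+* K) E u i).symm⟩
    · rintro ⟨u, hu⟩
      refine ⟨φ.symm ∘ u, funext fun i => φ.injective ?_⟩
      have := RingHom.map_mulVec (φ : K →+* K) E (φ.symm ∘ u) i
      have e : (φ : K →+* K) ∘ φ.symm ∘ u = u := funext fun j => φ.apply_symm_apply _
      rw [e] at this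
      exact this.trans (congrFun hu i)
  rw [Module.natCard_eq_pow_finrank (K := K) (V := LinearMap.range (Matrix.toLin' (E.map φ))),
    Module.natCard_eq_pow_finrank (K := K) (V := LinearMap.range (Matrix.toLin' E))] at key
  exact Nat.pow_right_injective Finite.one_lt_card key

theorem tr_unip (p : ℕ) [Fact p.Prime] [CharP K p] {U Z : Matrix n n K} {N : ℕ} (hU : U ^ p ^ N = 1)
    (h : Commute U Z) : (U * Z).trace = Z.trace := by
  rcases isEmpty_or_nonempty n with _ | _
  · simp
  have h1 : IsNilpotent (U - 1) := ⟨p ^ N, by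
    rw [sub_pow_char_pow_of_commute p N (Commute.one_right U), hU, one_pow, sub_self]⟩
  have h2 := (Matrix.isNilpotent_trace_of_isNilpotent
    ((h.sub_left (Commute.one_left Z)).isNilpotent_mul_right h1)).eq_zero
  rwa [sub_mul, one_mul, Matrix.trace_sub, sub_eq_zero] at h2

variable [Fintype K]

theorem det_unip {U e : Matrix n n K} (hU : U ^ Fintype.card K = 1) (he : e * e = e) (h : Commute U e) :
    (U * e + (1 - e)).det = 1 := by
  rw [← FiniteField.pow_card (U * e + (1 - e)).det, ← Matrix.det_pow, powE he h, hU]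
  simp

/-- the pairing -/
noncomputable def D (l : K → ℕ) (y z : Matrix n n K) : K := ∏ b, (z * ep y b + (1 - ep y b)).det ^ l b

variable (l : K → ℕ) {y z z' : Matrix n n K}

theorem D_one (y : Matrix n n K) : D l y 1 = 1 := by simp [D]

theorem D_mul (hy : y ^ Fintype.card K = y) (h : Commute z' y) : D l y (z * z') = D l y z * D l y z' := by
  rw [D, D, D, ← prod_mul_distrib]
  exact prod_congr rfl fun b _ => by
    rw [← mul_pow, ← Matrix.det_mul, mulE ((coi hy).idem b).eq (commute_ep h b)]

theorem D_conj {u v : Matrix n n K} (h1 : u * v = 1) (h2 : v * u = 1) (y z : Matrix n n K) :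
    D l (u * y * v) (u * z * v) = D l y z := by
  let w : (Matrix n n K)ˣ := ⟨u, v, h1, h2⟩
  let φ : Matrix n n K →+* Matrix n n K := (MulSemiringAction.toRingHom _ _ (ConjAct.toConjAct w))
  have hφ : ∀ x, φ x = u * x * v := fun x => rfl
  refine prod_congr rfl fun b _ => ?_
  have e : ep (u * y * v) b = φ (ep y b) := by
    rw [map_ep φ id (fun a => by
      rw [hφ, Algebra.algebraMap_eq_smul_one]; simp [h1, Algebra.algebraMap_eq_smul_one]), hφ]; rfl
  have e2 : φ z * φ (ep y b) + (1 - φ (ep y b)) = φ (z * ep y b + (1 - ep y b)) := by simp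
  rw [e, ← hφ z, e2, hφ, Matrix.det_mul, Matrix.det_mul,
    mul_right_comm, ← Matrix.det_mul, h1, Matrix.det_one, one_mul]

end CL.KGV.T10
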