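import Cfsg.Agent.KGV.T10a
import Cfsg.Agent.KGV.NT
import Cfsg.Agent.KGV.H1

/-! The re-indexing of a centralizer. -/

set_option autoImplicit false
open Finset CL.KGV.Idem

namespace CL.KGV.T10

variable (p : ℕ) [Fact p.Prime] {K : Type*} [Field K] [Fintype K] [CharP K p]
  {n : Type*} [Fintype n] [DecidableEq n]

/-- the field data -/
structure Pr (l : K → ℕ) (ρ : K → K → K) : Prop where
  fr : ∀ a b, ρ (a ^ p) (b ^ p) = ρ a b ^ p
  inj : ∀ a, Function.Injective (ρ a)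
  orb : ∀ a b, ∃ i, ρ a b = b ^ p ^ i
  prod : ∀ m : K → K → ℕ, (∀ a b, m (a ^ p) (b ^ p) = m a b) → (∀ b, m 0 b = 0) → (∀ a, m a 0 = 0) →
    ∏ a, ∏ b, a ^ (l b * m a b) = ∏ a, ∏ b, ρ a b ^ (l a * m a b)
  sum : ∀ m : K → K → ℕ, (∀ a b, m (a ^ p) (b ^ p) = m a b) → (∀ b, m 0 b = 0) → (∀ a, m a 0 = 0) →
    ∑ a, ∑ b, (m a b : K) * ρ a b = ∑ a, ∑ b, (m a b : K) * b

/-- the new semisimple part -/
noncomputable def Dm (ρ : K → K → K) (G Y : Matrix n n K) : Matrix n n K :=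
  ∑ i : K × K, ρ i.1 i.2 • (ep G i.1 * ep Y i.2)

variable {p} {l : K → ℕ} {ρ : K → K → K} {G Y : Matrix n n K}

theorem ep_fr (hG : G.map (frobenius K p) = G) (a : K) : (ep G a).map (frobenius K p) = ep G (a ^ p) := by
  have := map_ep (frobenius K p).mapMatrix (fun a : K => a ^ p) (fun a => by
    ext i j
    simp only [RingHom.mapMatrix_apply, Matrix.map_apply, Matrix.algebraMap_matrix_apply]
    split_ifs <;> simp [frobenius_def, (Fact.out : p.Prime).ne_zero]) G a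
  rwa [RingHom.mapMatrix_apply, RingHom.mapMatrix_apply, hG] at this

theorem ep_zero (hG : G ^ Fintype.card K = G) (hu : IsUnit G) : ep G (0 : K) = 0 := by
  have := mul_ep hG (0 : K)
  rwa [zero_smul, hu.mul_right_eq_zero] at this

theorem Dm_fr (h : Pr p l ρ) (hG : G.map (frobenius K p) = G) (hY : Y.map (frobenius K p) = Y) :
    (Dm ρ G Y).map (frobenius K p) = Dm ρ G Y := by
  have e : (Dm ρ G Y).map (frobenius K p) =
      ∑ i : K × K, ρ (i.1 ^ p) (i.2 ^ p) • (ep G (i.1 ^ p) * ep Y (i.2 ^ p)) := by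
    rw [Dm, ← RingHom.mapMatrix_apply, map_sum]
    refine sum_congr rfl fun i _ => ?_
    rw [← ep_fr hG, ← ep_fr hY, ← Matrix.map_mul, h.fr]
    ext a b
    simp only [RingHom.mapMatrix_apply, Matrix.map_apply, Matrix.smul_apply, smul_eq_mul]
    rw [map_mul, frobenius_def]
  rw [e, Dm]
  exact Equiv.sum_comp ((frobeniusEquiv K p).toEquiv.prodCongr (frobeniusEquiv K p).toEquiv)
    (fun i : K × K => ρ i.1 i.2 • (ep G i.1 * ep Y i.2))

theorem Dm_comm {Z : Matrix n n K} (h1 : Commute Z G) (h2 : Commute Z Y) : Commute Z (Dm ρ G Y) :=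
  Commute.sum_right _ _ _ fun i _ => ((commute_ep h1 i.1).mul_right (commute_ep h2 i.2)).smul_right _

variable (hG : G ^ Fintype.card K = G) (hY : Y ^ Fintype.card K = Y) (hc : Commute G Y)
include hG hY hc

theorem E_fst [DecidableEq K] (a : K) (i : K × K) :
    ep G i.1 * ep Y i.2 * ep G a = if i.1 = a then ep G i.1 * ep Y i.2 else 0 := by
  rw [mul_assoc, ← (ep_commute hc a i.2).eq, ← mul_assoc]
  split_ifs with h
  · rw [← h, ((coi hG).idem i.1).eq]
  · rw [(coi hG).ortho h, zero_mul]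

omit hG hc in
theorem E_snd [DecidableEq K] (b : K) (i : K × K) :
    ep G i.1 * ep Y i.2 * ep Y b = if i.2 = b then ep G i.1 * ep Y i.2 else 0 := by
  rw [mul_assoc]
  split_ifs with h
  · rw [← h, ((coi hY).idem i.2).eq]
  · rw [(coi hY).ortho h, mul_zero]

theorem G_eq : G = ∑ i : K × K, i.1 • (ep G i.1 * ep Y i.2) := by
  conv_lhs => rw [← mul_one G, ← (coi2 hG hY hc).complete, mul_sum]
  exact sum_congr rfl fun i _ => by rw [← mul_assoc, mul_ep hG, smul_mul_assoc]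

theorem Y_eq : Y = ∑ i : K × K, i.2 • (ep G i.1 * ep Y i.2) := by
  conv_lhs => rw [← mul_one Y, ← (coi2 hG hY hc).complete, mul_sum]
  exact sum_congr rfl fun i _ => by
    rw [← mul_assoc, (commute_ep hc.symm i.1).eq, mul_assoc, mul_ep hY, mul_smul_comm]

theorem Dm_pow (h : Pr p l ρ) (hu : IsUnit Y) : Dm ρ G Y ^ (Fintype.card K - 1) = 1 := by
  rw [Dm, sum_pow' (coi2 hG hY hc), ← (coi2 hG hY hc).complete]
  refine sum_congr rfl fun i _ => ?_
  by_cases h0 : i.2 = 0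
  · simp only [h0, ep_zero hY hu, mul_zero, smul_zero]
  · obtain ⟨j, e⟩ := h.orb i.1 i.2
    rw [FiniteField.pow_card_sub_one_eq_one _ (e ▸ pow_ne_zero _ h0), one_smul]

theorem E_eq (h : Pr p l ρ) (a b : K) : ep (Dm ρ G Y) (ρ a b) * ep G a = ep G a * ep Y b := by
  classical
  rw [Dm, ep_sum (coi2 hG hY hc), sum_mul, sum_eq_single (a, b)]
  · simp [E_fst hG hY hc a (a, b)]
  · intro i _ hi
    rw [smul_mul_assoc, E_fst hG hY hc]
    by_cases h1 : i.1 = a
    · have : ρ i.1 i.2 ≠ ρ a b := fun e => hi (Prod.ext h1 (h.inj a (by rw [← e, h1])))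
      rw [if_neg this, zero_smul]
    · rw [if_neg h1, smul_zero]
  · simp

theorem Dm_inj (h : Pr p l ρ) {Y' : Matrix n n K} (hY' : Y' ^ Fintype.card K = Y') (hc' : Commute G Y')
    (e : Dm ρ G Y = Dm ρ G Y') : Y = Y' := by
  rw [Y_eq hG hY hc, Y_eq hG hY' hc']
  conv_lhs => enter [2, i]; rw [← E_eq hG hY hc h, e, E_eq hG hY' hc' h]

variable (h : Pr p l ρ) (fG : G.map (frobenius K p) = G) (fY : Y.map (frobenius K p) = Y)
  (uG : IsUnit G) (uY : IsUnit Y)
include h fG fY uG uY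

omit hc h in
theorem m_ok : (∀ a b : K, mr (ep G (a ^ p) * ep Y (b ^ p)) = mr (ep G a * ep Y b)) ∧
    (∀ b : K, mr (ep G (0 : K) * ep Y b) = 0) ∧ ∀ a : K, mr (ep G a * ep Y (0 : K)) = 0 :=
  ⟨fun a b => by
    rw [← ep_fr fG, ← ep_fr fY, ← Matrix.map_mul]; exact mr_map (frobeniusEquiv K p) _,
   fun b => by rw [ep_zero hG uG, zero_mul, mr_zero], fun a => by rw [ep_zero hY uY, mul_zero, mr_zero]⟩

theorem D_swap : D l Y G = D l G (Dm ρ G Y) := by
  classical
  obtain ⟨m1, m2, m3⟩ := m_ok hG hY fG fY uG uY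
  have key := h.prod (fun a b => mr (ep G a * ep Y b)) m1 m2 m3
  have e1 : D l Y G = ∏ a : K, ∏ b : K, a ^ (l b * mr (ep G a * ep Y b)) := by
    rw [D, prod_comm]
    refine prod_congr rfl fun b _ => ?_
    conv_lhs => rw [G_eq hG hY hc]
    rw [cut (coi2 hG hY hc) _ _ _ (E_snd hY b), det_top (coi2 hG hY hc), Fintype.prod_prod_type, ← prod_pow]
    refine prod_congr rfl fun a _ => ?_
    rw [prod_eq_single b (fun c _ hc => by simp [hc]) (by simp), if_pos rfl, ← pow_mul, mul_comm]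
  have e2 : D l G (Dm ρ G Y) = ∏ a : K, ∏ b : K, ρ a b ^ (l a * mr (ep G a * ep Y b)) := by
    rw [D]
    refine prod_congr rfl fun a _ => ?_
    rw [Dm, cut (coi2 hG hY hc) _ _ _ (E_fst hG hY hc a), det_top (coi2 hG hY hc), Fintype.prod_prod_type,
      prod_eq_single a (fun c _ hc => by simp [hc]) (by simp), ← prod_pow]
    exact prod_congr rfl fun b _ => by rw [if_pos rfl, ← pow_mul, mul_comm]
  rw [e1, e2, key]

theorem tr_swap : (Dm ρ G Y).trace = Y.trace := by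
  obtain ⟨m1, m2, m3⟩ := m_ok hG hY fG fY uG uY
  conv_rhs => rw [Y_eq hG hY hc]
  rw [Dm, tr_top (coi2 hG hY hc), tr_top (coi2 hG hY hc), Fintype.sum_prod_type, Fintype.sum_prod_type]
  exact h.sum (fun a b => mr (ep G a * ep Y b)) m1 m2 m3

omit hY hc h fG fY uG uY in
theorem D_unip {U : Matrix n n K} (hU : U ^ Fintype.card K = 1) (hUG : Commute U G) : D l G U = 1 :=
  prod_eq_one fun a _ => by rw [det_unip hU ((coi hG).idem a).eq (commute_ep hUG a), one_pow]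

omit hY hc h fG fY uG uY in
theorem D_fix (l1 : l 1 = 0) {X : Matrix n n K} (hX : X * (G - 1) = G - 1) : D l G X = 1 :=
  prod_eq_one fun a _ => by
    by_cases ha : a = 1
    · rw [ha, l1, pow_zero]
    · rw [show X * ep G a = ep G a from H1.fix G X hG hX ha]; simp

omit hY hc h fY uY in
theorem D_nt (l1 : l 1 = 0) (hl : ∀ a : K, a ≠ 0 → ∃ (j : ℕ) (b : K), (∀ k, (a ^ p ^ j) ^ p ^ k = a ^ p ^ j → b ^ p ^ k = b) ∧
      b ^ l (a ^ p ^ j) = a ^ p ^ j ∧ ∀ i, a ^ p ^ i ≠ a ^ p ^ j → l (a ^ p ^ i) = 0) (h1 : G ≠ 1) :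
    ∃ X : Matrix n n K, X.map (frobenius K p) = X ∧ X * G = G * X ∧ IsUnit X.det ∧ D l G X ≠ 1 := by
  classical
  obtain ⟨a, ha1, ha⟩ : ∃ a : K, a ≠ 1 ∧ ep G a ≠ 0 := by
    by_contra hn
    push Not at hn
    refine h1 ?_
    rw [← sum_ep hG, ← (coi hG).complete]
    refine sum_congr rfl fun a _ => ?_
    by_cases e : a = 1
    · rw [e, one_smul]
    · rw [hn a e, smul_zero]
  have ha0 : a ≠ 0 := fun e => ha (e ▸ ep_zero hG uG)
  obtain ⟨j, b, h1, h2, h3⟩ := hl a ha0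
  have hj : ∀ j : ℕ, ep G (a ^ p ^ j) ≠ 0 := fun j => by
    induction j with
    | zero => simpa using ha
    | succ j ih =>
      rw [pow_succ, pow_mul, ← ep_fr fG]
      intro e
      refine ih (Matrix.ext fun r s => frobenius_inj K p ?_)
      simpa using congrFun (congrFun e r) s
  have hne : a ^ p ^ j ≠ 1 := fun e => ha1 (iterateFrobenius_inj K p j (by rw [map_one]; exact e))
  have hb : b ≠ 0 := by
    rintro rfl
    rcases Nat.eq_zero_or_pos (l (a ^ p ^ j)) with e | e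
    · rw [e, pow_zero] at h2; exact hne h2.symm
    · rw [zero_pow e.ne'] at h2; exact pow_ne_zero _ ha0 h2.symm
  obtain ⟨X, x1, x2, x3, x4, x5⟩ := NT.ex p G (fun a => ep G a) (fun a => ((coi hG).idem a).eq)
    (fun a c h => (coi hG).ortho h) (ep_fr fG) (mul_ep hG)
    (fun a => by rw [← (commute_ep (Commute.refl G) a).eq, mul_ep hG]) (hj j) hb h1
  refine ⟨X, x1, x2, x3, ?_⟩
  rw [D, prod_eq_single (a ^ p ^ j) (fun c _ hc => ?_) (by simp), ← add_sub_assoc, x4, h2]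
  · exact hne
  · by_cases e : ∃ k, c = (a ^ p ^ j) ^ p ^ k
    · obtain ⟨k, rfl⟩ := e
      rw [← pow_mul, ← pow_add] at hc ⊢
      rw [h3 _ hc, pow_zero]
    · rw [← add_sub_assoc, x5 c (fun k e' => e ⟨k, e'⟩), one_pow]

end CL.KGV.T10
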