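import Mathlib

/-!
The orbit-reversing bijection of a finite field attached to a logarithm on a transversal.
-/

set_option autoImplicit false

namespace CL.KGV.Tau

open Finset

variable {L : Type*} [Field L] [Fintype L] {p M : ℕ}

omit [Fintype L] in
theorem iter (t : ℕ) (x : L) : (fun y : L => y ^ p)^[t] x = x ^ p ^ t := by
  induction t with
  | zero => simp
  | succ t ih => rw [Function.iterate_succ_apply', ih, ← pow_mul, pow_succ]

theorem pw (hL : Fintype.card L = p ^ M) (x : L) : x ^ p ^ M = x := by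
  rw [← hL, FiniteField.pow_card]

theorem pw' (hL : Fintype.card L = p ^ M) (x : L) (k : ℕ) : x ^ p ^ (M * k) = x := by
  induction k with
  | zero => simp
  | succ k ih => rw [Nat.mul_succ, pow_add, pow_mul, ih, pw hL]

theorem back (hL : Fintype.card L = p ^ M) (hM : 0 < M) {x y : L} {j : ℕ} (h : y = x ^ p ^ j) :
    x = y ^ p ^ (M * j - j) := by
  rw [h, ← pow_mul, ← pow_add, Nat.add_sub_cancel' (Nat.le_mul_of_pos_left j hM), pw' hL]

/-- the orbit relation -/
def st (hL : Fintype.card L = p ^ M) (hM : 0 < M) : Setoid L where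
  r x y := ∃ j, y = x ^ p ^ j
  iseqv := ⟨fun x => ⟨0, by simp⟩, fun ⟨_, h⟩ => ⟨_, back hL hM h⟩,
    fun ⟨i, h⟩ ⟨j, h'⟩ => ⟨i + j, by rw [h', h, ← pow_mul, ← pow_add]⟩⟩

theorem geom (e r : ℕ) (he : 0 < e) (P : ℕ → Prop) [DecidablePred P] (hP : ∀ t, P t ↔ e ∣ t) (l : ℕ) :
    ∑ t ∈ range (e * r), p ^ t * (if P t then l else 0) = (∑ u ∈ range r, (p ^ e) ^ u) * l := by
  induction r with
  | zero => simp
  | succ r ih =>
    rw [Nat.mul_succ, sum_range_add, ih, sum_range_succ, add_mul]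
    congr 1
    rw [sum_eq_single 0]
    · simp [hP, pow_mul]
    · intro i hi h0
      rw [if_neg, mul_zero]
      rw [hP, Nat.dvd_add_right (dvd_mul_right e r)]
      exact fun h => absurd (Nat.le_of_dvd (Nat.pos_of_ne_zero h0) h) (by simpa using hi)
    · simp [he.ne']

theorem lg (hp : 1 < p) (hL : Fintype.card L = p ^ M) (hM : 0 < M) (g : Lˣ)
    (hg : ∀ x, x ∈ Subgroup.zpowers g) (x : L) (hx : x ≠ 0) [DecidableEq L] :
    ∃ l : ℕ, (g : L) ^ (∑ t ∈ range M, p ^ t * (if x ^ p ^ t = x then l else 0)) = x := by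
  have hper : Function.IsPeriodicPt (fun y : L => y ^ p) M x := by
    rw [Function.IsPeriodicPt, Function.IsFixedPt, iter, pw hL]
  set e := Function.minimalPeriod (fun y : L => y ^ p) x with he
  have he0 : 0 < e := hper.minimalPeriod_pos hM
  have hP : ∀ t, x ^ p ^ t = x ↔ e ∣ t := fun t => by
    rw [he, ← Function.isPeriodicPt_iff_minimalPeriod_dvd, Function.IsPeriodicPt,
      Function.IsFixedPt, iter]
  obtain ⟨r, hr⟩ : e ∣ M := (hP M).1 (pw hL x)
  obtain ⟨a, ha⟩ : ∃ a : ℕ, g ^ a = Units.mk0 x hx :=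
    (mem_powers_iff_mem_zpowers.2 (hg _))
  have ho : orderOf g = p ^ M - 1 := by
    classical
    rw [orderOf_eq_card_of_forall_mem_zpowers hg, Nat.card_eq_fintype_card, Fintype.card_units, hL]
  have h1 : 1 < p ^ e := Nat.one_lt_pow he0.ne' hp
  have hD : (∑ u ∈ range r, (p ^ e) ^ u) * (p ^ e - 1) = p ^ M - 1 := by
    rw [hr, pow_mul, Nat.geomSum_eq h1, Nat.div_mul_cancel]
    simpa using Nat.sub_dvd_pow_sub_pow (p ^ e) 1 r
  have h2 : g ^ (a * (p ^ e - 1)) = 1 := by
    rw [pow_mul, ha]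
    ext
    have := (hP e).2 dvd_rfl
    rw [show p ^ e = p ^ e - 1 + 1 by omega, pow_succ] at this
    simpa using mul_right_cancel₀ hx (this.trans (one_mul x).symm)
  have h3 := orderOf_dvd_of_pow_eq_one h2
  rw [ho, ← hD] at h3
  obtain ⟨l, hl⟩ := Nat.dvd_of_mul_dvd_mul_right (by omega) h3
  refine ⟨l, ?_⟩
  rw [hr, geom e r he0 _ hP, ← hl, ← Units.val_pow_eq_pow_val, ha, Units.val_mk0]

theorem shift (hL : Fintype.card L = p ^ M) (g : L) (l : L → ℕ) (x : L) :
    (g ^ (∑ t ∈ range M, p ^ t * l ((x ^ p) ^ p ^ t))) ^ p =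
      g ^ (∑ t ∈ range M, p ^ t * l (x ^ p ^ t)) := by
  rcases M with _ | M
  · simp
  rw [sum_range_succ, sum_range_succ', ← pow_mul, add_mul, pow_add, pow_add, sum_mul]
  congr 1
  · congr 1
    refine sum_congr rfl fun t _ => ?_
    rw [← pow_mul, ← pow_succ']; ring
  · rw [← pow_mul x, ← pow_succ', pw hL, mul_right_comm, ← pow_succ, pow_mul, pw hL]; simp

theorem ex (hp : 1 < p) (hL : Fintype.card L = p ^ M) (g : Lˣ) (hg : ∀ x, x ∈ Subgroup.zpowers g) :
    ∃ (l : L → ℕ) (τ : L ≃ L), τ 0 = 0 ∧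
      (∀ x, x ≠ 0 → τ x = (g : L) ^ (∑ t ∈ range M, p ^ t * l (x ^ p ^ t))) ∧
      (∀ x, τ (x ^ p) ^ p = τ x) ∧ ∀ x, ∃ j, τ x = x ^ p ^ j := by
  classical
  have hM : 0 < M := Nat.pos_of_ne_zero fun h => by
    have := Fintype.one_lt_card (α := L)
    rw [hL, h] at this; simp at this
  have hp0 : p ≠ 0 := by omega
  choose! l0 hl0 using fun x hx => lg hp hL hM g hg x hx
  let rep : L → L := fun x => (Quotient.mk (st hL hM) x).out
  have hrep : ∀ x, ∃ j, x = rep x ^ p ^ j := fun x => Quotient.mk_out (s := st hL hM) x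
  have hrep2 : ∀ x j, rep (x ^ p ^ j) = rep x := fun x j =>
    congrArg Quotient.out (Quotient.sound (s := st hL hM) ⟨j, rfl⟩).symm
  have hrr : ∀ x, rep (rep x) = rep x := fun x => by simp [rep]
  let l : L → ℕ := fun y => if rep y = y then l0 y else 0
  let T : L → L := fun x => if x = 0 then 0 else (g : L) ^ (∑ t ∈ range M, p ^ t * l (x ^ p ^ t))
  have hT : ∀ x, T (x ^ p) ^ p = T x := fun x => by
    by_cases hx : x = 0
    · simp [T, hx, hp0]
    · simp only [T, if_neg hx, if_neg (pow_ne_zero p hx)]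
      exact shift hL _ l x
  have hT' : ∀ x j, T (x ^ p ^ j) ^ p ^ j = T x := fun x j => by
    induction j with
    | zero => simp
    | succ j ih => rw [pow_succ, pow_mul x, mul_comm, pow_mul, hT, ih]
  have hTr : ∀ x, T (rep x) = rep x := fun x => by
    by_cases hx : rep x = 0
    · simp [T, hx]
    · simp only [T, if_neg hx]
      conv_rhs => rw [← hl0 _ hx]
      congr 1
      refine sum_congr rfl fun t _ => ?_
      simp only [l, hrep2, hrr]
      by_cases h : rep x ^ p ^ t = rep x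
      · rw [h]
      · rw [if_neg h, if_neg (Ne.symm h)]
  have hk : ∀ x j, x = rep x ^ p ^ j → T x ^ p ^ j = rep x := fun x j h => by
    conv_lhs => rw [h]
    rw [hT', hTr]
  have ho : ∀ x, ∃ j, T x = x ^ p ^ j := fun x => by
    obtain ⟨j, h⟩ := hrep x
    exact (st hL hM).trans ((st hL hM).symm ⟨j, h⟩) ((st hL hM).symm ⟨j, (hk x j h).symm⟩)
  have inj : Function.Injective T := fun x y h => by
    obtain ⟨i, hi⟩ := hrep x
    obtain ⟨j, hj⟩ := hrep y
    obtain ⟨a, ha⟩ := ho x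
    obtain ⟨b, hb⟩ := ho y
    have e : rep x = rep y := by rw [← hrep2 x a, ← ha, h, hb, hrep2]
    have e1 := hk x i hi
    have e2 := hk y j hj
    calc x = (T y ^ p ^ j) ^ p ^ i := by rw [e2, ← e, ← hi]
      _ = (T x ^ p ^ i) ^ p ^ j := by rw [h, ← pow_mul, ← pow_mul, mul_comm]
      _ = y := by rw [e1, e, ← hj]
  exact ⟨l, Equiv.ofBijective T (Finite.injective_iff_bijective.1 inj), by simp [T],
    fun x hx => by simp [T, hx], hT, ho⟩

omit [Fintype L] in
theorem stab {s : Multiset L} {q : ℕ} (hs : s.map (· ^ q) = s) (u : ℕ) : s.map (· ^ q ^ u) = s := by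
  induction u with
  | zero => simp
  | succ u ih =>
    conv_rhs => rw [← hs, ← ih, Multiset.map_map]
    exact Multiset.map_congr rfl fun x _ => by simp [pow_succ, pow_mul]

omit [Fintype L] in
theorem prod {c r : ℕ} (hM : c * r = M) (g : L) (l : L → ℕ) (τ : L → L) (s : Multiset L)
    (hτ : ∀ x ∈ s, τ x = g ^ (∑ t ∈ range M, p ^ t * l (x ^ p ^ t)))
    (hs : s.map (· ^ p ^ c) = s) :
    (g ^ (∑ u ∈ range r, p ^ (c * u))) ^ (s.map fun ν => ∑ j ∈ range c, p ^ j * l (ν ^ p ^ j)).sum =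
      (s.map τ).prod := by
  have key : ∀ (f : L → ℕ) (t : Multiset L), (t.map fun x => g ^ f x).prod = g ^ (t.map f).sum :=
    fun f t => by induction t using Multiset.induction_on <;> simp [pow_add, *]
  rw [Multiset.map_congr rfl hτ, key, ← pow_mul]
  congr 1
  subst hM
  clear hτ
  induction r with
  | zero => simp
  | succ r ih =>
    simp only [Nat.mul_succ, sum_range_add, sum_range_succ, add_mul, Multiset.sum_map_add, ih]
    congr 1
    conv_lhs => rw [← stab hs r, Multiset.map_map, ← Multiset.sum_map_mul_left]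
    refine congrArg _ (Multiset.map_congr rfl fun x _ => ?_)
    simp only [Function.comp, mul_sum, ← pow_mul, pow_add, mul_assoc]

end CL.KGV.Tau
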