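import Mathlib

/-! Functional calculus with the spectral idempotents over a finite field. -/

set_option autoImplicit false
set_option linter.unusedSectionVars false

namespace CL.KGV.Th

open Polynomial

variable {K : Type*} [Field K] [Fintype K] [DecidableEq K] {A : Type*} [Ring A] [Algebra K A]

/-- the indicator polynomial -/
noncomputable def pP (a : K) : K[X] := 1 - (X - C a) ^ (Fintype.card K - 1)

theorem pP_eval (a t : K) : (pP a).eval t = if t = a then 1 else 0 := by
  have h : Fintype.card K - 1 ≠ 0 := by have := Fintype.one_lt_card (α := K); omega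
  split_ifs with e
  · simp [pP, e, h]
  · simp [pP, FiniteField.pow_card_sub_one_eq_one _ (sub_ne_zero.2 e)]

theorem aeval_zero {z : A} (hz : z ^ (Fintype.card K - 1) = 1) {F : K[X]}
    (hF : ∀ a : Kˣ, F.eval (a : K) = 0) : aeval z F = 0 := by
  have h1 := Fintype.one_lt_card (α := K)
  have hm : (X ^ Fintype.card K - X : K[X]).Monic :=
    monic_X_pow_sub (by rw [degree_X]; exact_mod_cast h1)
  have e := prod_multiset_X_sub_C_of_monic_of_roots_card_eq hm (by
    rw [FiniteField.roots_X_pow_card_sub_X,
      FiniteField.X_pow_card_sub_X_natDegree_eq K h1]; rfl)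
  rw [FiniteField.roots_X_pow_card_sub_X] at e
  have d : (X ^ Fintype.card K - X : K[X]) ∣ X * F := by
    rw [← e]
    refine Finset.prod_dvd_of_coprime (t := Finset.univ)
      ((pairwise_coprime_X_sub_C Function.injective_id).set_pairwise _) fun a _ => dvd_iff_isRoot.2 ?_
    by_cases ha : a = 0
    · simp [ha]
    · simpa [ha] using hF (Units.mk0 a ha)
  obtain ⟨W, hW⟩ := d
  have hq : z ^ Fintype.card K = z := by
    conv_lhs => rw [show Fintype.card K = Fintype.card K - 1 + 1 by omega, pow_succ, hz, one_mul]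
  have h2 : z * aeval z F = 0 := by
    have := congrArg (aeval z) hW
    simpa [hq] using this
  calc aeval z F = z ^ (Fintype.card K - 2) * (z * aeval z F) := by
        rw [← mul_assoc, ← pow_succ, show Fintype.card K - 2 + 1 = Fintype.card K - 1 by omega, hz,
          one_mul]
    _ = 0 := by rw [h2, mul_zero]

/-- spectral idempotent -/
noncomputable def pi (a : Kˣ) (z : A) : A := aeval z (pP (a : K))

theorem fcalc {z : A} (hz : z ^ (Fintype.card K - 1) = 1) (F : K[X]) :
    aeval z F = ∑ a : Kˣ, F.eval (a : K) • pi a z := by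
  have := aeval_zero hz (F := F - ∑ a : Kˣ, C (F.eval (a : K)) * pP (a : K)) fun b => by
    simp [eval_finsetSum, pP_eval, Units.val_inj]
  rw [map_sub, sub_eq_zero] at this
  rw [this, map_sum]
  simp [pi, Algebra.smul_def]

theorem pi_mul {z : A} (hz : z ^ (Fintype.card K - 1) = 1) (a b : Kˣ) :
    pi a z * pi b z = if a = b then pi a z else 0 := by
  rw [pi, pi, ← map_mul, fcalc hz, Finset.sum_eq_single a]
  · split_ifs with e
    · simp [pP_eval, e, pi]
    · simp [pP_eval, e, Units.val_inj]
  · intro c _ hc; simp [pP_eval, hc, Units.val_inj]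
  · simp

theorem pi_comm {y z : A} (h : Commute y z) (a : Kˣ) : Commute y (pi a z) := by
  simp only [pi, pP, map_sub, map_one, map_pow, aeval_X, aeval_C]
  exact (Commute.one_right _).sub_right
    ((h.sub_right (Algebra.commutes _ _).symm).pow_right _)

variable {g s : A} (hg : g ^ (Fintype.card K - 1) = 1) (hs : s ^ (Fintype.card K - 1) = 1)
  (hc : Commute g s)

/-- joint functional calculus -/
noncomputable def Phi : (Kˣ × Kˣ → K) →ₐ[K] A where
  toFun c := ∑ i, c i • (pi i.1 g * pi i.2 s)
  map_zero' := by simp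
  map_add' c d := by simp [add_smul, Finset.sum_add_distrib]
  map_one' := by
    have h1 := fcalc hg 1
    have h2 := fcalc hs 1
    simp only [map_one, eval_one, one_smul] at h1 h2
    simp [Fintype.sum_prod_type, ← Finset.mul_sum, ← h1, ← h2]
  map_mul' c d := by
    rw [Finset.sum_mul_sum]
    refine Finset.sum_congr rfl fun i _ => ?_
    have k : ∀ j : Kˣ × Kˣ, pi i.1 g * pi i.2 s * (pi j.1 g * pi j.2 s) =
        if i = j then pi i.1 g * pi i.2 s else 0 := fun j => by
      have := (pi_comm (pi_comm hc i.2).symm j.1).eq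
      rw [mul_assoc, ← mul_assoc (pi i.2 s), this, mul_assoc, ← mul_assoc, pi_mul hg, pi_mul hs]
      by_cases h1 : i.1 = j.1 <;> by_cases h2 : i.2 = j.2 <;> simp [h1, h2, Prod.ext_iff]
    simp [k, smul_smul, mul_comm]
  commutes' r := by
    have h1 := fcalc hg 1
    have h2 := fcalc hs 1
    simp only [map_one, eval_one, one_smul] at h1 h2
    simp [Fintype.sum_prod_type, ← Finset.smul_sum, ← Finset.mul_sum, ← h1, ← h2,
      Algebra.algebraMap_eq_smul_one]

theorem Phi_apply (c : Kˣ × Kˣ → K) : Phi hg hs hc c = ∑ i, c i • (pi i.1 g * pi i.2 s) := rfl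

theorem Phi_fst : Phi hg hs hc (fun i => (i.1 : K)) = g := by
  have h1 := fcalc hg X
  have h2 := fcalc hs 1
  simp only [map_one, eval_one, one_smul, aeval_X, eval_X] at h1 h2
  simp only [Phi_apply, Fintype.sum_prod_type, ← Finset.smul_sum, ← Finset.mul_sum, ← h2, mul_one, ← h1]

theorem Phi_snd : Phi hg hs hc (fun i => (i.2 : K)) = s := by
  have h1 := fcalc hg 1
  have h2 := fcalc hs X
  simp only [map_one, eval_one, one_smul, aeval_X, eval_X] at h1 h2
  simp only [Phi_apply, Fintype.sum_prod_type, ← mul_smul_comm, ← Finset.mul_sum, ← h2,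
    ← Finset.sum_mul, ← h1, one_mul]

theorem pi_Phi (c : Kˣ × Kˣ → K) (a : Kˣ) :
    pi a (Phi hg hs hc c) = Phi hg hs hc (fun i => if c i = a then 1 else 0) := by
  rw [pi, aeval_algHom_apply]
  congr 1
  funext i
  have := aeval_algHom_apply (Pi.evalAlgHom K (fun _ => K) i) c (pP (a : K))
  simp only [Pi.evalAlgHom_apply, coe_aeval_eq_eval] at this
  rw [← this, pP_eval]

theorem Phi_comm {y : A} (h1 : Commute y g) (h2 : Commute y s) (c : Kˣ × Kˣ → K) :
    Commute y (Phi hg hs hc c) :=
  Commute.sum_right _ _ _ fun i _ => ((pi_comm h1 _).mul_right (pi_comm h2 _)).smul_right _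

end CL.KGV.Th
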